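import Cfsg.Agent.Lib.InvChar.SylowThree
import Cfsg.Agent.Lib.ClassicalGroups.UnitarySimple

/-!
A group acting on a set coordinatised as the unital of `PSU₃(q)`, `q` even, by the translations and
the standard swap generates a copy of `PSU₃(q)`.
-/

set_option autoImplicit false
set_option linter.unusedSectionVars false

noncomputable section

namespace CfsgLib.RankOneRecog.Unitary

open Matrix CfsgLib.InvCharThree CfsgLib.ClassicalGroups

variable {F : Type*} [Field F] [Fintype F] {q : ℕ}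

/-- Coordinates of the unital: the translations `u` fixing `a`, regular on the other points, and the
swap `w` of `a` and `b`. -/
structure UnitalData (G Ω F : Type*) [Group G] [MulAction G Ω] [Field F] [Fintype F] (q : ℕ)
    (hF : Fintype.card F = q ^ 2) (he : Even q) where
  a : Ω
  b : Ω
  hab : a ≠ b
  u : letI := hermGroup hF he; Herm F q →* G
  u_a : letI := hermGroup hF he; ∀ x, u x • a = a
  cover : letI := hermGroup hF he; ∀ p, p ≠ a → ∃! x, u x • b = p
  w : G
  w_sq : w * w = 1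
  w_a : w • a = b
  w_formula : letI := hermGroup hF he; ∀ x x' : Herm F q, x.b ≠ 0 → x'.a = x.a / x.b → x'.b = x.b⁻¹ →
    w • u x • b = u x' • b

namespace Model

variable (hF : Fintype.card F = q ^ 2) (he : Even q) {c : F} (hc : c + c ^ q = 1)

/-- The isotropic vector fixed by the translations. -/
def einf : Fin 3 → F := ![1, 1, 0]
/-- A second isotropic vector. -/
def ezero (c : F) : Fin 3 → F := ![c, c + 1, 0]
/-- The vector orthogonal to both. -/
def etwo : Fin 3 → F := ![0, 0, 1]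

/-- The isotropic vector of a point. -/
def pt (c : F) : Option (Herm F q) → Fin 3 → F
  | none => einf
  | some x => x.b • einf + ezero c + x.a • etwo

/-- The matrix of the swap. -/
def swapMat (q : ℕ) (c : F) : Matrix (Fin 3) (Fin 3) F :=
  !![c * c ^ q + 1, (c ^ q) ^ 2, 0; c ^ 2, c * c ^ q + 1, 0; 0, 0, 1]

include hF he

theorem h_einf (v : Fin 3 → F) : Cfsg.hermForm 3 F q v (einf : Fin 3 → F) = v 0 + v 1 := by
  have := herm_two_le hF
  simp [Cfsg.hermForm, einf, Fin.sum_univ_three, zero_pow (show q ≠ 0 by omega)]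

theorem h_etwo (v : Fin 3 → F) : Cfsg.hermForm 3 F q v (etwo : Fin 3 → F) = v 2 := by
  have := herm_two_le hF
  simp [Cfsg.hermForm, etwo, Fin.sum_univ_three, zero_pow (show q ≠ 0 by omega)]

include hc

theorem cq_eq : c ^ q = c + 1 := by
  have h2 := two_eq_zero hF he
  linear_combination hc - c * h2

theorem h_ezero (v : Fin 3 → F) : Cfsg.hermForm 3 F q v (ezero c) = (c + 1) * v 0 + c * v 1 := by
  have h2 := two_eq_zero hF he
  have := herm_two_le hF
  have h1 : (c + 1) ^ q = c := by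
    rw [← hermConj_apply hF, map_add, map_one, hermConj_apply hF, cq_eq hF he hc]
    linear_combination h2
  simp [Cfsg.hermForm, ezero, Fin.sum_univ_three, zero_pow (show q ≠ 0 by omega), h1, cq_eq hF he hc]
  ring

theorem decomp (v : Fin 3 → F) :
    v = Cfsg.hermForm 3 F q v (ezero c) • einf + Cfsg.hermForm 3 F q v einf • ezero c + v 2 • etwo := by
  have h2 := two_eq_zero hF he
  rw [h_ezero hF he hc, h_einf hF he]
  funext i
  fin_cases i <;> simp [einf, ezero, etwo]
  · linear_combination -(c * v 0 + c * v 1) * h2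
  · linear_combination -((c + 1) * v 0 + c * v 1) * h2

theorem gram :
    Cfsg.hermForm 3 F q (einf : Fin 3 → F) einf = 0 ∧ Cfsg.hermForm 3 F q (einf : Fin 3 → F) (ezero c) = 1 ∧
    Cfsg.hermForm 3 F q (ezero c) einf = 1 ∧ Cfsg.hermForm 3 F q (ezero c) (ezero c) = 0 ∧
    Cfsg.hermForm 3 F q (etwo : Fin 3 → F) einf = 0 ∧ Cfsg.hermForm 3 F q (etwo : Fin 3 → F) (ezero c) = 0 := by
  have h2 := two_eq_zero hF he
  refine ⟨?_, ?_, ?_, ?_, ?_, ?_⟩ <;> simp only [h_einf hF he, h_ezero hF he hc] <;>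
    simp [einf, ezero, etwo]
  · linear_combination h2
  · linear_combination c * h2
  · linear_combination c * h2
  · linear_combination (c + c * c) * h2

theorem pt_ne_zero (o : Option (Herm F q)) : pt c o ≠ 0 := by
  rcases o with _ | x
  · intro h
    simpa [pt, einf] using congrFun h 0
  · intro h
    have h1 := congrArg (fun v => Cfsg.hermForm 3 F q v einf) h
    obtain ⟨g1, -, g3, -, g5, -⟩ := gram hF he hc
    simp [pt, hermForm_add_left, hermForm_smul_left, g1, g3, g5, hermForm_zero_left] at h1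

theorem pt_iso (o : Option (Herm F q)) : Cfsg.hermForm 3 F q (pt c o) (pt c o) = 0 := by
  obtain ⟨g1, g2, g3, g4, g5, g6⟩ := gram hF he hc
  rcases o with _ | x
  · exact g1
  · have h2 := two_eq_zero hF he
    have g7 : Cfsg.hermForm 3 F q (etwo : Fin 3 → F) etwo = 1 := by
      rw [h_etwo hF he]; simp [etwo]
    have g8 : Cfsg.hermForm 3 F q (einf : Fin 3 → F) etwo = 0 := by
      rw [h_etwo hF he]; simp [einf]
    have g9 : Cfsg.hermForm 3 F q (ezero c) etwo = 0 := by
      rw [h_etwo hF he]; simp [ezero]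
    simp only [pt, hermForm_add_left, hermForm_add_right hF, hermForm_smul_left, hermForm_smul_right,
      g1, g2, g3, g4, g5, g6, g7, g8, g9]
    have := x.rel
    rw [pow_succ] at this
    linear_combination this + (x.a ^ q * x.a) * h2

theorem pt_inj {o o' : Option (Herm F q)} {k : F} (h : pt c o = k • pt c o') : o = o' := by
  obtain ⟨g1, g2, g3, g4, g5, g6⟩ := gram hF he hc
  have hk0 : k ≠ 0 := fun e => pt_ne_zero hF he hc o (by rw [h, e, zero_smul])
  have h1 := congrArg (fun v => Cfsg.hermForm 3 F q v einf) h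
  rcases o with _ | x <;> rcases o' with _ | y <;>
    simp [pt, hermForm_add_left, hermForm_smul_left, g1, g3, g5] at h1
  · rfl
  · exact absurd h1.symm hk0
  · subst h1
    rw [one_smul] at h
    have ha := congrFun h 2
    have hb := congrArg (fun v => Cfsg.hermForm 3 F q v (ezero c)) h
    simp [pt, einf, ezero, etwo] at ha
    simp [pt, hermForm_add_left, hermForm_smul_left, g2, g4, g6] at hb
    exact congrArg some (Herm.ext ha hb)

theorem exists_pt {v : Fin 3 → F} (hv0 : v ≠ 0) (hv : Cfsg.hermForm 3 F q v v = 0) :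
    ∃ (o : Option (Herm F q)) (k : F), k ≠ 0 ∧ v = k • pt c o := by
  obtain ⟨g1, g2, g3, g4, g5, g6⟩ := gram hF he hc
  have h2 := two_eq_zero hF he
  have hd := decomp hF he hc v
  set x := Cfsg.hermForm 3 F q v (ezero c) with hx
  set k := Cfsg.hermForm 3 F q v einf with hk
  have hrel : x * k ^ q + k * x ^ q + v 2 * v 2 ^ q = 0 := by
    have g7 : Cfsg.hermForm 3 F q (etwo : Fin 3 → F) etwo = 1 := by
      rw [h_etwo hF he]; simp [etwo]
    have g8 : Cfsg.hermForm 3 F q (einf : Fin 3 → F) etwo = 0 := by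
      rw [h_etwo hF he]; simp [einf]
    have g9 : Cfsg.hermForm 3 F q (ezero c) etwo = 0 := by
      rw [h_etwo hF he]; simp [ezero]
    rw [hd] at hv
    simp only [hermForm_add_left, hermForm_add_right hF, hermForm_smul_left, hermForm_smul_right,
      g1, g2, g3, g4, g5, g6, g7, g8, g9] at hv
    linear_combination hv
  have hq := herm_two_le hF
  by_cases hk0 : k = 0
  · rw [hk0, zero_pow (by omega)] at hrel
    have hv2 : v 2 = 0 := by
      have : v 2 ^ (q + 1) = 0 := by rw [pow_succ]; linear_combination hrel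
      exact eq_zero_of_pow_eq_zero this
    rw [hk0, hv2, zero_smul, zero_smul, add_zero, add_zero] at hd
    exact ⟨none, x, fun e => hv0 (by rw [hd, e, zero_smul]), hd⟩
  · refine ⟨some ⟨v 2 / k, x / k, ?_⟩, k, hk0, ?_⟩
    · rw [div_pow, div_pow, pow_succ, pow_succ]
      have hkq : k ^ q ≠ 0 := pow_ne_zero _ hk0
      field_simp
      linear_combination hrel - (v 2 * v 2 ^ q) * h2
    · conv_lhs => rw [hd]
      simp only [pt, smul_add, smul_smul, mul_div_cancel₀ _ hk0]

theorem swap_mem : ∃ W : Cfsg.SU 3 F q, W.1.1 = swapMat q c ∧ W.1.1 *ᵥ einf = ezero c ∧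
    W.1.1 *ᵥ ezero c = einf ∧ W.1.1 *ᵥ etwo = etwo := by
  have h2 := two_eq_zero hF he
  have hq := cq_eq hF he hc
  have hdet : (swapMat q c).det = 1 := by
    simp [swapMat, det_fin_three]
    rw [hq]
    linear_combination (c + c * c) * h2
  have e1 : swapMat q c *ᵥ einf = ezero c := by
    funext i
    fin_cases i <;> simp [swapMat, einf, ezero, mulVec, dotProduct, Fin.sum_univ_three, hq]
    · linear_combination (1 + c + c * c) * h2
    · linear_combination (c * c) * h2
  have e2 : swapMat q c *ᵥ ezero c = einf := by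
    funext i
    fin_cases i <;> simp [swapMat, einf, ezero, mulVec, dotProduct, Fin.sum_univ_three, hq]
    · linear_combination (2 * c + 2 * c * c + c * c * c) * h2
    · linear_combination (c + c * c + c * c * c) * h2
  have e3 : swapMat q c *ᵥ etwo = etwo := by
    funext i
    fin_cases i <;> simp [swapMat, etwo, mulVec, dotProduct, Fin.sum_univ_three]
  refine ⟨⟨⟨swapMat q c, hdet⟩, mem_SU_iff.2 fun v v' => ?_⟩, rfl, e1, e2, e3⟩
  show Cfsg.hermForm 3 F q (swapMat q c *ᵥ v) (swapMat q c *ᵥ v') = _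
  obtain ⟨g1, g2, g3, g4, g5, g6⟩ := gram hF he hc
  have g7 : Cfsg.hermForm 3 F q (etwo : Fin 3 → F) etwo = 1 := by
    rw [h_etwo hF he]; simp [etwo]
  have g8 : Cfsg.hermForm 3 F q (einf : Fin 3 → F) etwo = 0 := by
    rw [h_etwo hF he]; simp [einf]
  have g9 : Cfsg.hermForm 3 F q (ezero c) etwo = 0 := by
    rw [h_etwo hF he]; simp [ezero]
  rw [decomp hF he hc v, decomp hF he hc v']
  simp only [mulVec_add, mulVec_smul, e1, e2, e3, hermForm_add_left, hermForm_add_right hF,
    hermForm_smul_left, hermForm_smul_right, g1, g2, g3, g4, g5, g6, g7, g8, g9]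

theorem herm_einf (x : Herm F q) : hermMat x *ᵥ einf = einf := by
  have h2 := two_eq_zero hF he
  funext i
  fin_cases i <;> simp [hermMat, einf, mulVec, dotProduct, Fin.sum_univ_three]
  · linear_combination x.b * h2
  · linear_combination x.b * h2
  · linear_combination x.a * h2

theorem herm_etwo (x : Herm F q) : hermMat x *ᵥ etwo = etwo + x.a ^ q • einf := by
  funext i
  fin_cases i <;> simp [hermMat, einf, etwo, mulVec, dotProduct, Fin.sum_univ_three]

theorem herm_ezero (x : Herm F q) : hermMat x *ᵥ ezero c = pt c (some x) := by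
  have h2 := two_eq_zero hF he
  funext i
  fin_cases i <;> simp [hermMat, einf, ezero, etwo, pt, mulVec, dotProduct, Fin.sum_univ_three]
  · linear_combination (x.b * c) * h2
  · linear_combination (x.b * c) * h2
  · linear_combination (x.a * c) * h2

theorem herm_pt (x y : Herm F q) :
    letI := hermGroup hF he; hermMat x *ᵥ pt c (some y) = pt c (some (x * y)) := by
  let _ := hermGroup hF he
  rw [← herm_ezero hF he hc y, ← herm_ezero hF he hc (x * y), mulVec_mulVec]
  exact congrArg (fun A : Cfsg.SU 3 F q => A.1.1 *ᵥ ezero c) ((hermToSU hF he).map_mul x y).symm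

end Model

namespace UnitalData

variable {G Ω : Type*} [Group G] [MulAction G Ω] {hF : Fintype.card F = q ^ 2} {he : Even q}
  (D : UnitalData G Ω F q hF he) {c : F} (hc : c + c ^ q = 1)

open Model

/-- The point of a coordinate. -/
def point : Option (Herm F q) → Ω :=
  letI := hermGroup hF he
  fun o => o.elim D.a fun x => D.u x • D.b

theorem point_surjective : Function.Surjective D.point := by
  intro p
  by_cases hp : p = D.a
  · exact ⟨none, hp.symm⟩
  · obtain ⟨x, hx, -⟩ := D.cover p hp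
    exact ⟨some x, hx⟩

theorem point_injective : Function.Injective D.point := by
  let _ := hermGroup hF he
  have hne : ∀ x, D.u x • D.b ≠ D.a := fun x e =>
    D.hab.symm (smul_left_cancel (D.u x) (e.trans (D.u_a x).symm))
  intro o o' h
  rcases o with _ | x <;> rcases o' with _ | y
  · rfl
  · exact absurd h.symm (hne y)
  · exact absurd h (hne x)
  · exact congrArg some ((D.cover _ (hne y)).unique h rfl)

/-- A unitary matrix lies over a group element. -/
def Over (c : F) (γ : G) (g : Cfsg.SU 3 F q) : Prop :=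
  ∀ o o' : Option (Herm F q), γ • D.point o = D.point o' → ∃ k : F, g.1.1 *ᵥ pt c o = k • pt c o'

theorem over_mul {γ δ : G} {g k : Cfsg.SU 3 F q} (h1 : D.Over c γ g) (h2 : D.Over c δ k) :
    D.Over c (γ * δ) (g * k) := by
  intro o o' h
  obtain ⟨m, hm⟩ := D.point_surjective (δ • D.point o)
  obtain ⟨l, hl⟩ := h2 o m hm.symm
  obtain ⟨l', hl'⟩ := h1 m o' (by rw [hm, ← mul_smul]; exact h)
  exact ⟨l * l', by rw [SU_mul_mulVec, hl, mulVec_smul, hl', smul_smul]⟩

theorem over_one : D.Over c 1 1 := fun o o' h => by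
  rw [one_smul] at h
  exact ⟨1, by rw [one_smul, D.point_injective h]; exact one_mulVec _⟩

include hc in
theorem over_u (x : Herm F q) :
    letI := hermGroup hF he; D.Over c (D.u x) (hermToSU hF he x) := by
  let _ := hermGroup hF he
  intro o o' h
  rcases o with _ | y
  · have e : D.point none = D.point o' := by
      rw [← h]; exact (D.u_a x).symm
    obtain rfl := D.point_injective e
    exact ⟨1, by rw [one_smul]; exact herm_einf hF he hc x⟩
  · have e : D.point (some (x * y)) = D.point o' := by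
      rw [← h]
      show D.u (x * y) • D.b = D.u x • D.u y • D.b
      rw [map_mul, mul_smul]
    obtain rfl := D.point_injective e
    exact ⟨1, by rw [one_smul]; exact herm_pt hF he hc x y⟩

include hc in
theorem over_w {W : Cfsg.SU 3 F q} (h1 : W.1.1 *ᵥ einf = ezero c) (h2 : W.1.1 *ᵥ ezero c = einf)
    (h3 : W.1.1 *ᵥ etwo = etwo) : D.Over c D.w W := by
  let _ := hermGroup hF he
  intro o o' h
  have hq := herm_two_le hF
  have hb : D.point (some 1) = D.b := by
    show D.u 1 • D.b = D.b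
    rw [map_one, one_smul]
  have hp1 : pt c (some (1 : Herm F q)) = ezero c := by
    simp [pt, herm_one_a hF he, herm_one_b hF he]
  rcases o with _ | x
  · have e : D.point (some 1) = D.point o' := by
      rw [← h, hb]; exact D.w_a.symm
    obtain rfl := D.point_injective e
    exact ⟨1, by rw [one_smul, hp1]; exact h1⟩
  · have hWx : W.1.1 *ᵥ pt c (some x) = einf + x.b • ezero c + x.a • etwo := by
      simp only [pt, mulVec_add, mulVec_smul, h1, h2, h3]
      abel
    by_cases hxb : x.b = 0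
    · have hxa : x.a = 0 := by
        have h4 := x.rel
        rw [hxb, zero_pow (by omega), add_zero] at h4
        exact eq_zero_of_pow_eq_zero h4.symm
      obtain rfl : x = 1 := Herm.ext hxa hxb
      have e : D.point none = D.point o' := by
        rw [← h, hb]
        show D.a = D.w • D.b
        rw [← D.w_a, ← mul_smul, D.w_sq, one_smul]
      obtain rfl := D.point_injective e
      exact ⟨1, by rw [one_smul, hWx, hxa, hxb]; simp [pt]⟩
    · have hrel : x.b⁻¹ + x.b⁻¹ ^ q = (x.a / x.b) ^ (q + 1) := by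
        have h4 := x.rel
        have hbq : x.b ^ q ≠ 0 := pow_ne_zero _ hxb
        rw [inv_pow, div_pow, pow_succ x.b]
        field_simp
        linear_combination h4
      have hw := D.w_formula x ⟨x.a / x.b, x.b⁻¹, hrel⟩ hxb rfl rfl
      have e : D.point (some ⟨x.a / x.b, x.b⁻¹, hrel⟩) = D.point o' := by
        rw [← h]; exact hw.symm
      obtain rfl := D.point_injective e
      refine ⟨x.b, ?_⟩
      rw [hWx]
      simp only [pt, smul_add, smul_smul, mul_div_cancel₀ _ hxb, mul_inv_cancel₀ hxb, one_smul]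

include hc in
theorem over_eq_one [FaithfulSMul G Ω] {γ : G} {g : Cfsg.SU 3 F q} (h : D.Over c γ g)
    (hg : g ∈ Subgroup.center (Cfsg.SU 3 F q)) : γ = 1 := by
  refine FaithfulSMul.eq_of_smul_eq_smul fun p : Ω => ?_
  obtain ⟨o, rfl⟩ := D.point_surjective p
  obtain ⟨o', ho'⟩ := D.point_surjective (γ • D.point o)
  obtain ⟨k, hk⟩ := h o o' ho'.symm
  obtain ⟨s, hs⟩ : ∃ s : F, ∀ v, g.1.1 *ᵥ v = s • v := by
    have hsc := center_SU_scalar hF ⟨g, hg⟩
    refine ⟨g.1.1 0 0, fun v => ?_⟩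
    have hgd : g.1.1 = g.1.1 0 0 • (1 : Matrix (Fin 3) (Fin 3) F) := by
      ext i j
      rcases eq_or_ne i j with rfl | hij
      · simpa using (hsc i 0).2
      · simpa [hij] using (hsc i j).1 hij
    conv_lhs => rw [hgd]
    rw [smul_mulVec, one_mulVec]
  have hs0 : s ≠ 0 := fun e => pt_ne_zero hF he hc o (by
    have h5 := congrArg (g⁻¹.1.1 *ᵥ ·) (hs (pt c o))
    simpa only [SU_inv_mulVec_mulVec, e, zero_smul, mulVec_zero] using h5)
  rw [hs] at hk
  have hk' : pt c o = (s⁻¹ * k) • pt c o' := by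
    rw [mul_smul, ← hk, smul_smul, inv_mul_cancel₀ hs0, one_smul]
  rw [← ho', pt_inj hF he hc hk', one_smul]

include hc in
theorem over_unique {γ : G} {g g' : Cfsg.SU 3 F q} (h : D.Over c γ g) (h' : D.Over c γ g') :
    g⁻¹ * g' ∈ Subgroup.center (Cfsg.SU 3 F q) := by
  refine mem_center_of_fix_lines hF le_rfl _ fun v hv0 hv => ?_
  obtain ⟨o, k, hk, rfl⟩ := exists_pt hF he hc hv0 hv
  obtain ⟨o', ho'⟩ := D.point_surjective (γ • D.point o)
  obtain ⟨l, hl⟩ := h o o' ho'.symm
  obtain ⟨l', hl'⟩ := h' o o' ho'.symm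
  have hl0 : l ≠ 0 := fun e => pt_ne_zero hF he hc o (by
    have h5 := congrArg (g⁻¹.1.1 *ᵥ ·) hl
    simpa only [SU_inv_mulVec_mulVec, e, zero_smul, mulVec_zero] using h5)
  refine ⟨l' * l⁻¹, ?_⟩
  have h5 : g⁻¹.1.1 *ᵥ pt c o' = l⁻¹ • pt c o := by
    have h6 := congrArg (g⁻¹.1.1 *ᵥ ·) hl
    simp only [SU_inv_mulVec_mulVec, mulVec_smul] at h6
    rw [h6, smul_smul, inv_mul_cancel₀ hl0, one_smul]
  rw [SU_mul_mulVec, mulVec_smul, hl', smul_smul, mulVec_smul, h5, smul_smul, smul_smul]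
  congr 1
  ring

/-- The group generated by the translations and the swap. -/
abbrev gen : Subgroup G :=
  letI := hermGroup hF he
  Subgroup.closure (Set.range D.u ∪ {D.w})

include hc in
theorem exists_over (γ : G) (hγ : γ ∈ D.gen) : ∃ g, D.Over c γ g := by
  let _ := hermGroup hF he
  obtain ⟨W, -, h1, h2, h3⟩ := swap_mem hF he hc
  induction hγ using Subgroup.closure_induction'' with
  | mem x hx =>
    rcases hx with ⟨y, rfl⟩ | hx
    · exact ⟨_, D.over_u hc y⟩
    · rw [Set.mem_singleton_iff] at hx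
      exact ⟨W, hx ▸ D.over_w hc h1 h2 h3⟩
  | inv_mem x hx =>
    rcases hx with ⟨y, rfl⟩ | hx
    · exact ⟨_, (map_inv D.u y) ▸ D.over_u hc y⁻¹⟩
    · rw [Set.mem_singleton_iff] at hx
      refine ⟨W, ?_⟩
      rw [hx, inv_eq_of_mul_eq_one_right D.w_sq]
      exact D.over_w hc h1 h2 h3
  | one => exact ⟨1, D.over_one⟩
  | mul x y _ _ hx hy =>
    obtain ⟨g, hg⟩ := hx
    obtain ⟨k, hk⟩ := hy
    exact ⟨_, D.over_mul hg hk⟩

include hc in
/-- The homomorphism to `PSU₃(q)`. -/
theorem exists_hom [FaithfulSMul G Ω] : ∃ φ : D.gen →* Cfsg.PSU 3 F q, Function.Injective φ ∧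
    ∀ (γ : D.gen) (g : Cfsg.SU 3 F q), D.Over c γ g → φ γ = QuotientGroup.mk g := by
  choose f hf using fun γ : D.gen => D.exists_over hc γ γ.2
  have key : ∀ (γ : D.gen) (g : Cfsg.SU 3 F q), D.Over c γ g →
      (QuotientGroup.mk (f γ) : Cfsg.PSU 3 F q) = QuotientGroup.mk g := fun γ g hg =>
    QuotientGroup.eq.2 (D.over_unique hc (hf γ) hg)
  refine ⟨MonoidHom.mk' (fun γ => QuotientGroup.mk (f γ)) fun γ δ => ?_, ?_, key⟩
  · exact (key _ _ (D.over_mul (hf γ) (hf δ))).trans (QuotientGroup.mk_mul _ _ _)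
  · rw [injective_iff_map_eq_one]
    intro γ hγ
    exact Subtype.ext (D.over_eq_one hc (hf γ) ((QuotientGroup.eq_one_iff _).1 hγ))

end UnitalData

namespace Model

variable (hF : Fintype.card F = q ^ 2) (he : Even q) {c : F} (hc : c + c ^ q = 1)

include hF he hc

theorem ext_basis {g k : Cfsg.SU 3 F q} (h1 : g.1.1 *ᵥ einf = k.1.1 *ᵥ einf)
    (h2 : g.1.1 *ᵥ ezero c = k.1.1 *ᵥ ezero c) (h3 : g.1.1 *ᵥ etwo = k.1.1 *ᵥ etwo) : g = k :=
  SU_ext fun v => by
    rw [decomp hF he hc v]
    simp only [mulVec_add, mulVec_smul, h1, h2, h3]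

theorem torus_data {t : Cfsg.SU 3 F q} {l l' : F} (h1 : t.1.1 *ᵥ einf = l • einf)
    (h2 : t.1.1 *ᵥ ezero c = l' • ezero c) :
    l ^ q * l' = 1 ∧ ∃ μ : F, μ ^ q * μ = 1 ∧ t.1.1 *ᵥ etwo = μ • etwo := by
  obtain ⟨g1, g2, g3, g4, g5, g6⟩ := gram hF he hc
  have g7 : Cfsg.hermForm 3 F q (etwo : Fin 3 → F) etwo = 1 := by
    rw [h_etwo hF he]; simp [etwo]
  have hl : l ^ q * l' = 1 := by
    have h := mem_SU_iff.1 t.2 (ezero c) einf
    rw [h1, h2, hermForm_smul_left, hermForm_smul_right, g3, mul_one] at h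
    linear_combination h
  refine ⟨hl, (t.1.1 *ᵥ etwo) 2, ?_⟩
  have hlq : l ^ q ≠ 0 := left_ne_zero_of_mul_eq_one hl
  have hl'q : l' ^ q ≠ 0 := pow_ne_zero _ (right_ne_zero_of_mul_eq_one hl)
  have ha : Cfsg.hermForm 3 F q (t.1.1 *ᵥ etwo) einf = 0 := by
    have h := mem_SU_iff.1 t.2 etwo einf
    rw [h1, hermForm_smul_right, g5] at h
    exact (mul_eq_zero.1 h).resolve_left hlq
  have hb : Cfsg.hermForm 3 F q (t.1.1 *ᵥ etwo) (ezero c) = 0 := by
    have h := mem_SU_iff.1 t.2 etwo (ezero c)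
    rw [h2, hermForm_smul_right, g6] at h
    exact (mul_eq_zero.1 h).resolve_left hl'q
  have hd := decomp hF he hc (t.1.1 *ᵥ etwo)
  rw [ha, hb, zero_smul, zero_smul, zero_add, zero_add] at hd
  refine ⟨?_, hd⟩
  have h := mem_SU_iff.1 t.2 etwo etwo
  rw [hd, hermForm_smul_left, hermForm_smul_right, g7] at h
  linear_combination h

theorem conj_herm {t : Cfsg.SU 3 F q} {l l' : F} (h1 : t.1.1 *ᵥ einf = l • einf)
    (h2 : t.1.1 *ᵥ ezero c = l' • ezero c) (x : Herm F q) :
    letI := hermGroup hF he; ∃ y : Herm F q, t * hermToSU hF he x = hermToSU hF he y * t := by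
  let _ := hermGroup hF he
  obtain ⟨hl, μ, hμ, h3⟩ := torus_data hF he hc h1 h2
  have hrel : (l * l ^ q * x.b) + (l * l ^ q * x.b) ^ q = (μ * l ^ q * x.a) ^ (q + 1) := by
    have hx := x.rel
    rw [pow_succ] at hx ⊢
    simp only [mul_pow, hermConj_conj hF]
    linear_combination (l * l ^ q) * hx - (l * l ^ q * x.a ^ q * x.a) * hμ
  refine ⟨⟨μ * l ^ q * x.a, l * l ^ q * x.b, hrel⟩, ext_basis hF he hc ?_ ?_ ?_⟩
  · rw [SU_mul_mulVec, SU_mul_mulVec, h1, mulVec_smul]
    show t.1.1 *ᵥ (hermMat x *ᵥ einf) = l • (hermMat _ *ᵥ einf)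
    rw [herm_einf hF he hc, herm_einf hF he hc, h1]
  · rw [SU_mul_mulVec, SU_mul_mulVec, h2, mulVec_smul]
    show t.1.1 *ᵥ (hermMat x *ᵥ ezero c) = l' • (hermMat _ *ᵥ ezero c)
    rw [herm_ezero hF he hc, herm_ezero hF he hc]
    simp only [pt, mulVec_add, mulVec_smul, h1, h2, h3, smul_add, smul_smul]
    match_scalars
    · linear_combination (-(l * x.b)) * hl
    · ring
    · linear_combination (-(μ * x.a)) * hl
  · rw [SU_mul_mulVec, SU_mul_mulVec, h3, mulVec_smul]
    show t.1.1 *ᵥ (hermMat x *ᵥ etwo) = μ • (hermMat _ *ᵥ etwo)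
    rw [herm_etwo hF he hc, herm_etwo hF he hc]
    simp only [mulVec_add, mulVec_smul, h1, h3, smul_add, smul_smul, mul_pow, hermConj_conj hF]
    match_scalars
    · ring
    · linear_combination (-(l * x.a ^ q)) * hμ

theorem conj_swap {t W : Cfsg.SU 3 F q} {l l' : F} (h1 : t.1.1 *ᵥ einf = l • einf)
    (h2 : t.1.1 *ᵥ ezero c = l' • ezero c) (w1 : W.1.1 *ᵥ einf = ezero c)
    (w2 : W.1.1 *ᵥ ezero c = einf) (w3 : W.1.1 *ᵥ etwo = etwo) :
    letI := hermGroup hF he; ∃ y z : Herm F q,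
      t * W = hermToSU hF he y * W * hermToSU hF he z * W * hermToSU hF he y * t := by
  let _ := hermGroup hF he
  obtain ⟨hl, μ, hμ, h3⟩ := torus_data hF he hc h1 h2
  have h2' := two_eq_zero hF he
  have hq := herm_two_le hF
  have hl0 : l ≠ 0 := fun e => by simp [e, zero_pow (show q ≠ 0 by omega)] at hl
  have hs0 : l * l ^ q ≠ 0 := mul_ne_zero hl0 (pow_ne_zero _ hl0)
  have hs : (l * l ^ q) ^ q = l * l ^ q := by rw [mul_pow, hermConj_conj hF]; ring
  have r1 : l * l ^ q + (l * l ^ q) ^ q = (0 : F) ^ (q + 1) := by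
    rw [hs, zero_pow (by omega)]; linear_combination (l * l ^ q) * h2'
  have r2 : (l * l ^ q)⁻¹ + (l * l ^ q)⁻¹ ^ q = (0 : F) ^ (q + 1) := by
    rw [inv_pow, hs, zero_pow (by omega)]; linear_combination (l * l ^ q)⁻¹ * h2'
  set y : Herm F q := ⟨0, l * l ^ q, r1⟩ with hy
  set z : Herm F q := ⟨0, (l * l ^ q)⁻¹, r2⟩ with hz
  have z1 : ∀ w : Herm F q, (hermToSU hF he w).1.1 *ᵥ einf = einf := fun w => herm_einf hF he hc w
  have z2 : ∀ w : Herm F q, w.a = 0 → (hermToSU hF he w).1.1 *ᵥ ezero c = w.b • einf + ezero c :=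
    fun w hw => by
      show hermMat w *ᵥ ezero c = _
      rw [herm_ezero hF he hc]; simp [pt, hw]
  have z3 : ∀ w : Herm F q, w.a = 0 → (hermToSU hF he w).1.1 *ᵥ etwo = etwo :=
    fun w hw => by
      show hermMat w *ᵥ etwo = _
      rw [herm_etwo hF he hc]; simp [hw, zero_pow (show q ≠ 0 by omega)]
  refine ⟨y, z, ext_basis hF he hc ?_ ?_ ?_⟩
  all_goals
    simp only [SU_mul_mulVec, mulVec_add, mulVec_smul, h1, h2, h3, w1, w2, w3, z1, z2 y rfl, z2 z rfl,
      z3 y rfl, z3 z rfl, smul_add, smul_smul]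
  all_goals
    have e2 : y.b * z.b = 1 := mul_inv_cancel₀ hs0
    have e3 : l' * y.b = l := by
      show l' * (l * l ^ q) = l
      linear_combination l * hl
    have e1 : l * z.b = l' := by linear_combination l' * e2 - z.b * e3
  · match_scalars
    · linear_combination -e1
    · linear_combination -l * e2 - l * h2'
  · match_scalars
    · linear_combination -(l' * y.b) * e2 - e3 - (l' * y.b) * h2'
    · linear_combination -l' * e2 - l' * h2'

end Model

namespace UnitalData

variable {G Ω : Type*} [Group G] [MulAction G Ω] {hF : Fintype.card F = q ^ 2} {he : Even q}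
  (D : UnitalData G Ω F q hF he)

open Model

/-- The translations and the swap generate a copy of `PSU₃(q)`. -/
theorem nonempty_mulEquiv [FaithfulSMul G Ω] (n : ℕ) (hn : 2 ≤ n) (hqn : q = 2 ^ n) :
    letI := hermGroup hF he
    Nonempty (Subgroup.closure (Set.range D.u ∪ {D.w}) ≃* Cfsg.PSU 3 F q) := by
  let _ := hermGroup hF he
  obtain ⟨c, hc⟩ := exists_trace hF (b := (1 : F)) (one_pow q)
  obtain ⟨φ, hφi, hφ⟩ := D.exists_hom hc
  obtain ⟨W, -, w1, w2, w3⟩ := swap_mem hF he hc
  set K : Subgroup (Cfsg.SU 3 F q) := φ.range.comap (QuotientGroup.mk' _) with hK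
  have hcen : Subgroup.center (Cfsg.SU 3 F q) ≤ K := fun g hg => by
    show (QuotientGroup.mk g : Cfsg.PSU 3 F q) ∈ φ.range
    rw [(QuotientGroup.eq_one_iff g).2 hg]
    exact one_mem _
  have hHK : ∀ x, hermToSU hF he x ∈ K := fun x =>
    ⟨⟨D.u x, Subgroup.subset_closure (Or.inl ⟨x, rfl⟩)⟩, hφ _ _ (D.over_u hc x)⟩
  have hWK : W ∈ K :=
    ⟨⟨D.w, Subgroup.subset_closure (Or.inr rfl)⟩, hφ _ _ (D.over_w hc w1 w2 w3)⟩
  have hp1 : pt c (some (1 : Herm F q)) = ezero c := by
    simp [pt, herm_one_a hF he, herm_one_b hF he]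
  have toZero : ∀ x : Herm F q, (hermToSU hF he x⁻¹).1.1 *ᵥ pt c (some x) = ezero c := fun x => by
    show hermMat x⁻¹ *ᵥ pt c (some x) = _
    rw [herm_pt hF he hc, inv_mul_cancel, hp1]
  -- every element is a product of an element of `K` and one fixing two standard lines
  have dec : ∀ g : Cfsg.SU 3 F q, ∃ h ∈ K, ∃ (t : Cfsg.SU 3 F q) (l l' : F), g = h * t ∧
      t.1.1 *ᵥ einf = l • einf ∧ t.1.1 *ᵥ ezero c = l' • ezero c := by
    intro g
    obtain ⟨gr1, -, gr3, gr4, -, -⟩ := gram hF he hc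
    have he0 : (einf : Fin 3 → F) ≠ 0 := fun h => by simpa [einf] using congrFun h 0
    have hz0 : ezero c ≠ 0 := fun h => by
      have := congrArg (fun v => Cfsg.hermForm 3 F q v einf) h
      simp [gr3, hermForm_zero_left] at this
    have nz : ∀ (k : Cfsg.SU 3 F q) (v : Fin 3 → F), v ≠ 0 → k.1.1 *ᵥ v ≠ 0 := fun k v hv e => hv (by
      have := SU_inv_mulVec_mulVec k v
      rw [e, mulVec_zero] at this
      exact this.symm)
    obtain ⟨o, k, hk, ho⟩ := exists_pt hF he hc (nz g _ he0)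
      ((mem_SU_iff.1 g.2 einf einf).trans gr1)
    obtain ⟨h1, hh1, l, hl⟩ : ∃ h1 ∈ K, ∃ l : F, (h1 * g).1.1 *ᵥ einf = l • einf := by
      rcases o with _ | x
      · exact ⟨1, one_mem _, k, by rw [one_mul]; exact ho⟩
      · refine ⟨W * hermToSU hF he x⁻¹, mul_mem hWK (hHK _), k, ?_⟩
        rw [SU_mul_mulVec, SU_mul_mulVec, ho, mulVec_smul, toZero, mulVec_smul, w2]
    obtain ⟨o, k', hk', ho'⟩ := exists_pt hF he hc (nz (h1 * g) _ hz0)
      ((mem_SU_iff.1 (h1 * g).2 (ezero c) (ezero c)).trans gr4)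
    rcases o with _ | x
    · exfalso
      have h := mem_SU_iff.1 (h1 * g).2 (ezero c) einf
      rw [ho', hl, pt, hermForm_smul_left, hermForm_smul_right, gr1, gr3, mul_zero, mul_zero] at h
      exact zero_ne_one h
    · refine ⟨(hermToSU hF he x⁻¹ * h1)⁻¹, inv_mem (mul_mem (hHK _) hh1),
        hermToSU hF he x⁻¹ * h1 * g, l, k', by group, ?_, ?_⟩
      · rw [mul_assoc, SU_mul_mulVec, hl, mulVec_smul]
        show l • (hermMat _ *ᵥ einf) = _
        rw [herm_einf hF he hc]
      · rw [mul_assoc, SU_mul_mulVec, ho', mulVec_smul, toZero]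
  -- such elements normalise `K`
  have torus : ∀ (t : Cfsg.SU 3 F q) (l l' : F), t.1.1 *ᵥ einf = l • einf →
      t.1.1 *ᵥ ezero c = l' • ezero c → ∀ k ∈ K, t * k * t⁻¹ ∈ K := by
    intro t l l' h1 h2 k hk
    have hH : ∀ x, t * hermToSU hF he x * t⁻¹ ∈ K := fun x => by
      obtain ⟨y, hy⟩ := conj_herm hF he hc h1 h2 x
      rw [hy, mul_inv_cancel_right]
      exact hHK y
    have hW : t * W * t⁻¹ ∈ K := by
      obtain ⟨y, z, hyz⟩ := conj_swap hF he hc h1 h2 w1 w2 w3
      rw [hyz, mul_inv_cancel_right]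
      exact mul_mem (mul_mem (mul_mem (mul_mem (hHK _) hWK) (hHK _)) hWK) (hHK _)
    have gen : ∀ γ ∈ D.gen, ∃ g, D.Over c γ g ∧ t * g * t⁻¹ ∈ K := by
      intro γ hγ
      induction hγ using Subgroup.closure_induction'' with
      | mem x hx =>
        rcases hx with ⟨y, rfl⟩ | hx
        · exact ⟨_, D.over_u hc y, hH y⟩
        · rw [Set.mem_singleton_iff] at hx
          exact ⟨W, hx ▸ D.over_w hc w1 w2 w3, hW⟩
      | inv_mem x hx =>
        rcases hx with ⟨y, rfl⟩ | hx
        · exact ⟨_, (map_inv D.u y) ▸ D.over_u hc y⁻¹, hH _⟩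
        · rw [Set.mem_singleton_iff] at hx
          refine ⟨W, ?_, hW⟩
          rw [hx, inv_eq_of_mul_eq_one_right D.w_sq]
          exact D.over_w hc w1 w2 w3
      | one => exact ⟨1, D.over_one, by rw [mul_one, mul_inv_cancel]; exact one_mem _⟩
      | mul x y _ _ hx hy =>
        obtain ⟨g, hg, hg'⟩ := hx
        obtain ⟨g', hk1, hk2⟩ := hy
        refine ⟨_, D.over_mul hg hk1, ?_⟩
        rw [show t * (g * g') * t⁻¹ = (t * g * t⁻¹) * (t * g' * t⁻¹) by group]
        exact mul_mem hg' hk2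
    obtain ⟨γ, hγ⟩ := hk
    obtain ⟨g, hg, hgK⟩ := gen γ γ.2
    have hcz : g⁻¹ * k ∈ Subgroup.center (Cfsg.SU 3 F q) :=
      QuotientGroup.eq.1 ((hφ γ g hg).symm.trans hγ)
    have e : t * k * t⁻¹ = t * g * t⁻¹ * (g⁻¹ * k) := by
      rw [mul_assoc (t * g) t⁻¹, Subgroup.mem_center_iff.1 hcz t⁻¹]
      group
    rw [e]
    exact mul_mem hgK (hcen hcz)
  have hnK : K.Normal := ⟨fun k hk g => by
    obtain ⟨h, hh, t, l, l', rfl, h1, h2⟩ := dec g
    rw [show h * t * k * (h * t)⁻¹ = h * (t * k * t⁻¹) * h⁻¹ by group]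
    exact mul_mem (mul_mem hh (torus t l l' h1 h2 k hk)) (inv_mem hh)⟩
  have hnR : φ.range.Normal := by
    have h := hnK.map (QuotientGroup.mk' (Subgroup.center (Cfsg.SU 3 F q))) (QuotientGroup.mk'_surjective _)
    rwa [hK, Subgroup.map_comap_eq_self_of_surjective (QuotientGroup.mk'_surjective _)] at h
  have : IsSimpleGroup (Cfsg.PSU 3 F q) :=
    psu_isSimpleGroup hF le_rfl (by rintro ⟨-, h⟩; have := Nat.pow_le_pow_right (show 1 ≤ 2 by omega) hn; omega)
  have htop : φ.range = ⊤ := (hnR.eq_bot_or_eq_top).resolve_left fun h => by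
    have hw : (⟨D.w, Subgroup.subset_closure (Or.inr rfl)⟩ : D.gen) = 1 :=
      hφi (by rw [map_one]; exact Subgroup.mem_bot.1 (h ▸ ⟨_, rfl⟩))
    have hw1 : D.w = 1 := congrArg Subtype.val hw
    exact D.hab (by rw [← D.w_a, hw1, one_smul])
  exact ⟨MulEquiv.ofBijective φ ⟨hφi, MonoidHom.range_eq_top.1 htop⟩⟩

end UnitalData

end CfsgLib.RankOneRecog.Unitary
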