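import Cfsg.Agent.Lib.RankOneRecog.Unitary.Field
import Cfsg.Agent.Lib.RankOneRecog.Unitary.Model

/-!
Coordinates on `Q`: an isomorphism with the group `Herm K q`, in which `t` is the inversion of the unital.
-/

set_option autoImplicit false
set_option linter.unusedSectionVars false
set_option linter.style.haveILetI false

noncomputable section

namespace CfsgLib.RankOneRecog.Unitary

open CfsgLib.RankOneInvol CfsgLib.RankOneTwo

universe u v

section Det

variable {L : Type} [Field L] [Finite L] [CharP L 2] {R : Subgroup (SL2 L)} {K : Type} [Field K] [Finite K]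
  [CharP K 2] (T : TorusData L R K)

local notation "q" => Nat.card L

theorem detF_self (P : K) : detF q P P = 0 := by
  rw [detF, mul_comm (P ^ q)]; exact CharTwo.add_self_eq_zero _

theorem detF_add_right' (P B C : K) : detF q P (B + C) = detF q P B + detF q P C := by
  simp only [detF, bar_add]; ring

theorem detF_add_left' (P B C : K) : detF q (P + B) C = detF q P C + detF q B C := by
  simp only [detF, bar_add]; ring

theorem detF_zero_left (B : K) : detF q (0 : K) B = 0 := by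
  simp [detF, zero_pow (card_ne_zero (L := L))]

include T in
theorem detF_emb_right (l : L) (P B : K) : detF q P (T.emb l * B) = T.emb l * detF q P B := by
  simp only [detF, mul_pow, emb_bar T]; ring

include T in
theorem detF_emb_left (l : L) (P B : K) : detF q (T.emb l * P) B = T.emb l * detF q P B := by
  simp only [detF, mul_pow, emb_bar T]; ring

theorem detF_zero_right (P : K) : detF q P (0 : K) = 0 := by
  simp [detF, zero_pow (card_ne_zero (L := L))]

theorem detF_comm (P B : K) : detF q P B = detF q B P := by simp only [detF]; ring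

include T in
theorem exists_smul_K {P B : K} (hP : P ≠ 0) (h : detF q P B = 0) : ∃ l : L, B = T.emb l * P := by
  have h1 : det2 (T.e.symm B) (T.e.symm P) = 0 := T.emb.injective (by
    rw [emb_det T, AddEquiv.apply_symm_apply, AddEquiv.apply_symm_apply, map_zero, detF_comm, h])
  obtain ⟨l, hl⟩ := exists_smul_of_det2_eq_zero (symm_ne_zero T hP) h1
  exact ⟨l, by rw [← T.e.apply_symm_apply B, hl, T.e_smul, AddEquiv.apply_symm_apply]⟩

include T in
theorem exists_indep {P : K} (hP : P ≠ 0) : ∃ C : K, detF q P C ≠ 0 := by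
  have hr := symm_ne_zero T hP
  obtain ⟨r, hr'⟩ : ∃ r : Row L, det2 (T.e.symm P) r ≠ 0 := by
    by_cases h0 : T.e.symm P 0 = 0
    · refine ⟨![1, 0], fun e => hr (funext fun i => ?_)⟩
      fin_cases i
      · exact h0
      · simpa [det2, h0] using e
    · exact ⟨![0, 1], fun e => h0 (by simpa [det2] using e)⟩
  refine ⟨T.e r, fun e => hr' (T.emb.injective ?_)⟩
  rw [emb_det T, AddEquiv.apply_symm_apply, e, map_zero]

include T in
/-- a point independent of two given ones -/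
theorem exists_indep_two {P B : K} (hP : P ≠ 0) (hB : B ≠ 0) :
    ∃ C : K, detF q P C ≠ 0 ∧ detF q B C ≠ 0 := by
  by_cases h : detF q P B = 0
  · obtain ⟨l, rfl⟩ := exists_smul_K T hP h
    obtain ⟨C, hC⟩ := exists_indep T hP
    exact ⟨C, hC, by rw [detF_emb_left T]; exact mul_ne_zero (fun e => hB (by rw [e, zero_mul])) hC⟩
  · exact ⟨P + B, by rwa [detF_add_right', detF_self, zero_add],
      by rwa [detF_add_right', detF_self, add_zero, detF_comm]⟩

end Det

variable {G : Type u} {Ω : Type v} [Group G] [MulAction G Ω] [Finite G] [FaithfulSMul G Ω]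
  {a : Ω} {t : G} {Q : Subgroup G} {L : Type} [Field L] [Fintype L] [CharP L 2]
  {R : Subgroup (SL2 L)} {K : Type} [Field K] [Fintype K] [CharP K 2]

namespace Frame

local notation "q" => Nat.card L

variable (F : Frame a t Q L) (hR : F.GoodTwist R) (T : TorusData L R K)

open scoped Classical in
/-- the first coordinate -/
def cA (x : G) : K := if h : ∃ g, F.lab g = x then (T.e (bot h.choose))⁻¹ else 0

open scoped Classical in
/-- the second coordinate -/
def cB (x : G) : K :=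
  if h : ∃ g, F.lab g = x then T.e (top h.choose) / T.e (bot h.choose)
  else if h' : x ∈ Zsub G a then T.emb ((F.ι_Z x).1 h').choose else 0

include F hR T

theorem cA_lab (g : SL2 L) : F.cA T (F.lab g) = (T.e (bot g))⁻¹ := by
  have h : ∃ g', F.lab g' = F.lab g := ⟨g, rfl⟩
  rw [cA, dif_pos h, F.lab_inj h.choose_spec]

theorem cB_lab (g : SL2 L) : F.cB T (F.lab g) = T.e (top g) / T.e (bot g) := by
  have h : ∃ g', F.lab g' = F.lab g := ⟨g, rfl⟩
  rw [cB, dif_pos h, F.lab_inj h.choose_spec]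

theorem not_lab (c : L) : ¬ ∃ g, F.lab g = F.ι (zc c) := fun ⟨g, hg⟩ =>
  F.lab_not_mem g (hg ▸ F.zc_mem c)

theorem cA_zc (c : L) : F.cA T (F.ι (zc c)) = 0 := by rw [cA, dif_neg (F.not_lab hR T c)]

theorem cB_zc (c : L) : F.cB T (F.ι (zc c)) = T.emb c := by
  rw [cB, dif_neg (F.not_lab hR T c), dif_pos (F.zc_mem c),
    zc_inj (F.ι_inj ((F.ι_Z _).1 (F.zc_mem c)).choose_spec)]

theorem cases_Q {x : G} (hx : x ∈ Q) : (∃ c, x = F.ι (zc c)) ∨ ∃ g, x = F.lab g := by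
  by_cases h : x ∈ Zsub G a
  · obtain ⟨c, hc⟩ := (F.ι_Z x).1 h
    exact Or.inl ⟨c, hc.symm⟩
  · obtain ⟨g, hg⟩ := F.lab_surj hx h
    exact Or.inr ⟨g, hg.symm⟩

theorem e_bot_ne (g : SL2 L) : T.e (bot g) ≠ 0 := fun h => bot_ne_zero g ((e_eq_zero T).1 h)

theorem e_top_ne (g : SL2 L) : T.e (top g) ≠ 0 := fun h => top_ne_zero g ((e_eq_zero T).1 h)

theorem norm_rows (g : SL2 L) :
    T.e (top g) ^ q * T.e (bot g) + T.e (top g) * T.e (bot g) ^ q = 1 := by
  have h := congrArg T.emb (det_rows g)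
  rw [emb_det T, map_one] at h
  exact h

theorem eq_zc_of_cA {x : G} (hx : x ∈ Q) (h : F.cA T x = 0) : ∃ c, x = F.ι (zc c) := by
  rcases F.cases_Q hR T hx with h' | ⟨g, rfl⟩
  · exact h'
  · rw [F.cA_lab hR T, inv_eq_zero] at h
    exact absurd h (F.e_bot_ne hR T g)

theorem cA_zc_mul (c : L) {x : G} (hx : x ∈ Q) : F.cA T (F.ι (zc c) * x) = F.cA T x := by
  rcases F.cases_Q hR T hx with ⟨d, rfl⟩ | ⟨g, rfl⟩
  · rw [← map_mul, ← zc_add, F.cA_zc hR T, F.cA_zc hR T]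
  · rw [← F.lab_zc_mul, F.cA_lab hR T, F.cA_lab hR T, bot_zc_mul]

theorem cB_zc_mul (c : L) {x : G} (hx : x ∈ Q) : F.cB T (F.ι (zc c) * x) = T.emb c + F.cB T x := by
  rcases F.cases_Q hR T hx with ⟨d, rfl⟩ | ⟨g, rfl⟩
  · rw [← map_mul, ← zc_add, F.cB_zc hR T, F.cB_zc hR T, map_add]
  · rw [← F.lab_zc_mul, F.cB_lab hR T, F.cB_lab hR T, bot_zc_mul, top_zc_mul, map_add, T.e_smul,
      add_div, mul_div_assoc, div_self (F.e_bot_ne hR T g), mul_one, add_comm]

theorem coord_rel {x : G} (hx : x ∈ Q) : F.cB T x + F.cB T x ^ q = F.cA T x ^ (q + 1) := by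
  rcases F.cases_Q hR T hx with ⟨c, rfl⟩ | ⟨g, rfl⟩
  · rw [F.cA_zc hR T, F.cB_zc hR T, emb_bar T, CharTwo.add_self_eq_zero, zero_pow (Nat.succ_ne_zero _)]
  · rw [F.cA_lab hR T, F.cB_lab hR T]
    have h1 := F.norm_rows hR T g
    have h0 := F.e_bot_ne hR T g
    have h0' := pow_ne_zero q h0
    rw [div_pow, inv_pow, pow_succ]
    field_simp
    linear_combination h1

theorem inv_coord {x : G} (hx : x ∈ Q) : F.cA T x⁻¹ = F.cA T x ∧ F.cB T x⁻¹ = F.cB T x ^ q := by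
  rcases F.cases_Q hR T hx with ⟨c, rfl⟩ | ⟨g, rfl⟩
  · rw [← map_inv, zc_inv, F.cB_zc hR T, emb_bar T]; exact ⟨rfl, rfl⟩
  · have hrel := F.coord_rel hR T (F.lab_mem g)
    rw [F.lab_inv' g, F.cA_lab hR T, F.cA_lab hR T, F.bot_g0]
    refine ⟨rfl, ?_⟩
    rw [F.cA_lab hR T, F.cB_lab hR T] at hrel
    rw [F.cB_lab hR T, F.cB_lab hR T, F.bot_g0, F.top_g0, map_add, T.e_smul,
      F.del_norm hR T (bot_ne_zero g), add_div]
    rw [show (T.e (bot g) ^ q)⁻¹ / T.e (bot g) = (T.e (bot g))⁻¹ ^ (q + 1) by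
      rw [inv_pow, pow_succ, mul_inv, div_eq_mul_inv], ← hrel, ← add_assoc,
      CharTwo.add_self_eq_zero, zero_add]

/-- the product of a standard pair -/
theorem pair_std (g : SL2 L) {u : L} (hu : u ≠ 0) : ∃ μ : L, μ ≠ 0 ∧
    F.cA T ((F.lab (Jm * g))⁻¹ * F.lab (Jm * (zc u * g))) =
      T.emb μ * (F.cA T (F.lab (Jm * g)) + F.cA T (F.lab (Jm * (zc u * g)))) ∧
    (μ = 1 → F.cB T ((F.lab (Jm * g))⁻¹ * F.lab (Jm * (zc u * g))) =
      F.cB T (F.lab (Jm * g)) ^ q + F.cB T (F.lab (Jm * (zc u * g))) +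
        F.cA T (F.lab (Jm * g)) ^ q * F.cA T (F.lab (Jm * (zc u * g)))) := by
  rw [F.eq_a g hu]
  set X := F.pX g u with hX
  set v := F.gV g with hv
  have hP : top (F.g0 g) ≠ 0 := top_ne_zero _
  have hα : bot g ≠ 0 := bot_ne_zero g
  have hdet : det2 (bot g) (top (F.g0 g)) = 1 := by
    rw [det2_comm, ← F.bot_g0 g]; exact det_rows _
  have hvφ : v = (F.phi (bot g))⁻¹ * F.phi (top (F.g0 g)) := by
    rw [hv, ← F.Gp_rows g, F.Gp_eq_phi]
    rw [det2_comm, hdet]; exact one_ne_zero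
  have hτ : F.tau hR T v = 1 := by rw [hvφ]; exact F.tau_phi hR T hα hP
  obtain ⟨m, hm, hξ⟩ := F.xi_pair hR T (r := bot g) (s := top (F.g0 g)) (by rw [hdet]; exact one_ne_zero)
  rw [← hvφ] at hξ
  obtain ⟨s, hs⟩ := (F.ι_K _).1 (F.vPart_spec ⟨F.hh g, F.hh_mem g⟩)
  have hh : F.hh g = F.ι (kc s) * (v : G) := by
    rw [hv, hs]; exact (inv_mul_cancel_right _ _).symm
  have hconj : F.hh g * F.lab X * (F.hh g)⁻¹ = F.lab (kc s * (slMap (F.sigma v) X * F.rho v)) := by
    rw [F.lab_kc_mul, ← F.lab_conj, hh]; group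
  refine ⟨(s : L) / m, div_ne_zero s.ne_zero hm, ?_⟩
  rw [hconj, F.cA_lab hR T, F.cA_lab hR T, F.cA_lab hR T, F.cB_lab hR T, F.cB_lab hR T, F.cB_lab hR T]
  rw [top_kc_mul, bot_kc_mul]
  simp only [top_Jm_mul, bot_Jm_mul]
  simp only [bot_zc_mul, top_zc_mul]
  simp only [top_mul, bot_mul, top_slMap, bot_slMap, T.e_smul, map_inv₀, map_add]
  change _ ∧ (_ → T.emb (s : L) * T.e (F.semi v (top X)) / ((T.emb (s : L))⁻¹ * T.e (F.semi v (bot X))) = _)
  change ((T.emb (s : L))⁻¹ * T.e (F.semi v (bot X)))⁻¹ = _ ∧ _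
  rw [F.semi_mul_of_tau hR T hτ, F.semi_mul_of_tau hR T hτ, hX, F.top_pX, F.bot_pX, map_add, T.e_smul,
    map_add, add_mul, F.del_norm hR T hP, map_inv₀]
  -- names
  have htop : T.e (top g) = T.e (top (F.g0 g)) + (T.e (bot g) ^ q)⁻¹ := by
    rw [← F.del_norm hR T hα, ← T.e_smul, ← map_add, F.top_g0, add_assoc]
    congr 1
    funext i
    simp [CharTwo.add_self_eq_zero]
  rw [htop]
  have hn : T.e (top (F.g0 g)) ^ q * T.e (bot g) + T.e (top (F.g0 g)) * T.e (bot g) ^ q = 1 := by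
    have := F.norm_rows hR T (F.g0 g)
    rwa [F.bot_g0] at this
  have hP0 : T.e (top (F.g0 g)) ≠ 0 := fun e => hP ((e_eq_zero T).1 e)
  have hα0 := F.e_bot_ne hR T g
  have hB0 : T.e (top (F.g0 g)) + T.emb u * T.e (bot g) ≠ 0 := by
    rw [← T.e_smul, ← map_add]
    intro e
    refine top_ne_zero (zc u * F.g0 g) ?_
    rw [top_zc_mul, F.bot_g0]
    exact (e_eq_zero T).1 e
  have hξn := F.xi_pow hR T v
  have hu0 : T.emb u ≠ 0 := (map_ne_zero _).2 hu
  have hm0 : T.emb m ≠ 0 := (map_ne_zero _).2 hm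
  have hs0 : T.emb (s : L) ≠ 0 := (map_ne_zero _).2 s.ne_zero
  have hξ0 := F.xi_ne_zero hR T v
  generalize T.e (top (F.g0 g)) = P at hn hP0 hB0 hξ ⊢
  generalize T.e (bot g) = α at hn hα0 hB0 hξ ⊢
  set ξ := F.xi hR T v
  set U := T.emb u with hU
  have hPq := pow_ne_zero q hP0
  have hαq := pow_ne_zero q hα0
  have hUq : U ^ q = U := emb_bar T u
  have h20 : (2 : K) = 0 := CharTwo.two_eq_zero
  set B' := P ^ q + U * α ^ q with hB'
  have hBq : B' = (P + U * α) ^ q := by rw [hB', bar_add, mul_pow, hUq]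
  have hB'0 : B' ≠ 0 := by rw [hBq]; exact pow_ne_zero _ hB0
  have e1 : P + (α ^ q)⁻¹ = P ^ q * α / α ^ q := by
    field_simp
    linear_combination -hn + (P * α ^ q) * h20
  have e2 : P + (α ^ q)⁻¹ + U * α = B' * α / α ^ q := by
    rw [e1, hB']
    field_simp
  have e3 : α + (U⁻¹ * P + (P ^ q)⁻¹) = P * B' / (U * P ^ q) := by
    rw [hB']
    field_simp
    linear_combination -U * hn + (U * α * P ^ q) * h20
  have e4 : ξ = T.emb m * α * (P ^ q) ^ 2 / (P * (α ^ q) ^ 2) := by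
    rw [eq_div_iff (mul_ne_zero hP0 (pow_ne_zero _ hαq))]
    linear_combination hξ
  rw [e1, show P ^ q * α / α ^ q + U * α = P + (α ^ q)⁻¹ + U * α by rw [e1], e2, e3]
  refine ⟨?_, ?_⟩
  · rw [e4, map_div₀]
    field_simp
    rw [hB']
    linear_combination (-(P ^ q)) * h20
  · intro hμ
    have hsm : (s : L) = m := by
      rwa [div_eq_one_iff_eq hm] at hμ
    have hnorm : α * α ^ q = T.emb m ^ 2 * (P * P ^ q) := by
      have h3 := congrArg (· ^ q) hξ
      simp only [mul_pow, emb_bar T, pow_right_comm _ 2 q, bar_bar T] at h3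
      rw [pow_succ, mul_comm] at hξn
      have hne : α * α ^ q * (P * P ^ q) ≠ 0 :=
        mul_ne_zero (mul_ne_zero hα0 hαq) (mul_ne_zero hP0 hPq)
      refine mul_left_cancel₀ hne ?_
      linear_combination (ξ ^ q * P ^ q * α ^ 2) * hξ + (T.emb m * α * (P ^ q) ^ 2) * h3
        - ((P * P ^ q) * (α * α ^ q) ^ 2) * hξn
    rw [hsm, ← mul_div_assoc]
    simp only [div_pow, mul_pow, inv_pow, bar_bar T]
    field_simp
    rw [hB']
    linear_combination (-U) * hnorm - hn - h20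

theorem exists_pair (g1 g2 : SL2 L) (h : det2 (bot g1) (bot g2) ≠ 0) :
    ∃ μ : L, μ ≠ 0 ∧ F.cA T ((F.lab g1)⁻¹ * F.lab g2) = T.emb μ * (F.cA T (F.lab g1) + F.cA T (F.lab g2)) ∧
      (μ = 1 → F.cB T ((F.lab g1)⁻¹ * F.lab g2) = F.cB T (F.lab g1) ^ q + F.cB T (F.lab g2) +
        F.cA T (F.lab g1) ^ q * F.cA T (F.lab g2)) := by
  set d := det2 (bot g1) (bot g2)
  set α := d⁻¹ • (bot g1 + bot g2) with hαdef
  have h1 : det2 α (bot g1) = 1 := by
    rw [hαdef, det2_smul_left, det2_add_left, det2_self, zero_add, det2_comm, inv_mul_cancel₀ h]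
  set g := Jm * ofRows α (bot g1) h1 with hg
  have hb1 : bot (Jm * g) = bot g1 := by rw [hg, ← mul_assoc, Jm_sq, one_mul, bot_ofRows]
  have hb2 : bot (Jm * (zc d * g)) = bot g2 := by
    rw [bot_Jm_mul, top_zc_mul, hg, top_Jm_mul, bot_Jm_mul, bot_ofRows, top_ofRows, hαdef, smul_smul,
      mul_inv_cancel₀ h, one_smul, ← add_assoc]
    funext i
    simp [CharTwo.add_self_eq_zero]
  have hsame : ∀ g g' : SL2 L, bot g = bot g' → ∃ c, g' = zc c * g := by
    intro g g' e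
    obtain ⟨c, hc⟩ := exists_smul_of_det2_eq_zero (bot_ne_zero g) (P := top g + top g') (by
      rw [det2_add_left, det_rows, e, det_rows, CharTwo.add_self_eq_zero])
    refine ⟨c, ext_rows ?_ (by rw [bot_zc_mul, e])⟩
    rw [top_zc_mul, ← hc, ← add_assoc]
    funext i
    simp [CharTwo.add_self_eq_zero]
  obtain ⟨c1, hc1⟩ := hsame _ _ hb1
  obtain ⟨c2, hc2⟩ := hsame _ _ hb2
  obtain ⟨μ, hμ, hA, hB⟩ := F.pair_std hR T g h
  set x := F.lab (Jm * g)
  set y := F.lab (Jm * (zc d * g))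
  have hx : x ∈ Q := F.lab_mem _
  have hy : y ∈ Q := F.lab_mem _
  have hxy : x⁻¹ * y ∈ Q := Q.mul_mem (Q.inv_mem hx) hy
  have e : (F.lab g1)⁻¹ * F.lab g2 = F.ι (zc (c1 + c2)) * (x⁻¹ * y) := by
    rw [hc1, hc2, F.lab_zc_mul, F.lab_zc_mul, mul_inv_rev, ← map_inv, zc_inv, zc_add, map_mul]
    calc x⁻¹ * F.ι (zc c1) * (F.ι (zc c2) * y) = x⁻¹ * (F.ι (zc c1) * F.ι (zc c2)) * y := by group
      _ = F.ι (zc c1) * F.ι (zc c2) * (x⁻¹ * y) := by
          rw [← map_mul, ← zc_add, ← F.zc_comm _ (Q.inv_mem hx), mul_assoc]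
  refine ⟨μ, hμ, ?_, fun h1 => ?_⟩
  · rw [e, hc1, hc2, F.lab_zc_mul, F.lab_zc_mul, F.cA_zc_mul hR T _ hxy, F.cA_zc_mul hR T _ hx,
      F.cA_zc_mul hR T _ hy, hA]
  · rw [e, hc1, hc2, F.lab_zc_mul, F.lab_zc_mul, F.cB_zc_mul hR T _ hxy, F.cB_zc_mul hR T _ hx,
      F.cB_zc_mul hR T _ hy, F.cA_zc_mul hR T _ hx, F.cA_zc_mul hR T _ hy, hB h1, bar_add,
      emb_bar T, map_add]
    ring

/-- the product of a pair in general position -/
theorem mul_indep {x y : G} (hx : x ∈ Q) (hy : y ∈ Q) (h : detF q (F.cA T x) (F.cA T y) ≠ 0) :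
    ∃ μ : L, μ ≠ 0 ∧ F.cA T (x * y) = T.emb μ * (F.cA T x + F.cA T y) ∧
      (μ = 1 → F.cB T (x * y) = F.cB T x + F.cB T y + F.cA T x ^ q * F.cA T y) := by
  obtain ⟨iA, iB⟩ := F.inv_coord hR T hx
  rcases F.cases_Q hR T (Q.inv_mem hx) with ⟨c, hc⟩ | ⟨g1, hg1⟩
  · rw [← iA, hc, F.cA_zc hR T, detF_zero_left] at h; exact absurd rfl h
  rcases F.cases_Q hR T hy with ⟨c, rfl⟩ | ⟨g2, rfl⟩
  · rw [F.cA_zc hR T, detF_comm, detF_zero_left] at h; exact absurd rfl h
  have hd : det2 (bot g1) (bot g2) ≠ 0 := by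
    intro e
    apply h
    rw [← iA, hg1, F.cA_lab hR T, F.cA_lab hR T]
    have h1 := congrArg T.emb e
    rw [emb_det T, map_zero] at h1
    have a1 := F.e_bot_ne hR T g1
    have a2 := F.e_bot_ne hR T g2
    rw [detF] at h1 ⊢
    rw [inv_pow, inv_pow]
    field_simp
    linear_combination h1
  obtain ⟨μ, hμ, hA, hB⟩ := F.exists_pair hR T g1 g2 hd
  rw [← hg1, inv_inv, iA] at hA
  refine ⟨μ, hμ, hA, fun h1 => ?_⟩
  have h3 := hB h1
  rw [← hg1, inv_inv, iA, iB, bar_bar T] at h3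
  exact h3

theorem cA_mul_indep {x y : G} (hx : x ∈ Q) (hy : y ∈ Q) (h : detF q (F.cA T x) (F.cA T y) ≠ 0) :
    F.cA T (x * y) = F.cA T x + F.cA T y ∧
      F.cB T (x * y) = F.cB T x + F.cB T y + F.cA T x ^ q * F.cA T y := by
  obtain ⟨μ, hμ, hA, hB⟩ := F.mul_indep hR T hx hy h
  have iA := (F.inv_coord hR T hx).1
  have hd : detF q (F.cA T x⁻¹) (F.cA T (x * y)) = T.emb μ * detF q (F.cA T x) (F.cA T y) := by
    rw [iA, hA, detF_emb_right T, detF_add_right', detF_self, zero_add]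
  obtain ⟨ν, -, hA', -⟩ := F.mul_indep hR T (Q.inv_mem hx) (Q.mul_mem hx hy)
    (by rw [hd]; exact mul_ne_zero ((map_ne_zero _).2 hμ) h)
  rw [inv_mul_cancel_left, iA, hA] at hA'
  have h1 := congrArg (detF q (F.cA T x)) hA'
  rw [detF_emb_right T, detF_add_right', detF_self, zero_add, detF_emb_right T, detF_add_right', detF_self,
    zero_add] at h1
  have h2 : T.emb ν * T.emb μ = 1 := mul_right_cancel₀ h (by rw [one_mul, mul_assoc, ← h1])
  have h3 := congrArg (detF q (F.cA T y)) hA'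
  rw [detF_self, detF_emb_right T, detF_add_right', detF_emb_right T, detF_add_right', detF_self, add_zero,
    detF_comm (F.cA T y) (F.cA T x)] at h3
  have h4 : T.emb μ = 1 := by
    have h5 : T.emb ν * (1 + T.emb μ) = 0 := mul_right_cancel₀ h (by rw [zero_mul]; linear_combination -h3)
    rcases mul_eq_zero.1 h5 with e | e
    · rw [e, zero_mul] at h2; exact absurd h2 zero_ne_one
    · exact (CharTwo.add_eq_zero.1 e).symm
  refine ⟨by rw [hA, h4, one_mul], hB (T.emb.injective (by rw [h4, map_one]))⟩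

theorem exists_coord {c : K} (hc : c ≠ 0) : ∃ z ∈ Q, F.cA T z = c := by
  obtain ⟨g, hg⟩ := F.exists_bot (symm_ne_zero T (inv_ne_zero hc))
  exact ⟨F.lab g, F.lab_mem g, by rw [F.cA_lab hR T, hg, AddEquiv.apply_symm_apply, inv_inv]⟩

theorem cA_mul {x y : G} (hx : x ∈ Q) (hy : y ∈ Q) : F.cA T (x * y) = F.cA T x + F.cA T y := by
  by_cases hx0 : F.cA T x = 0
  · obtain ⟨c, rfl⟩ := F.eq_zc_of_cA hR T hx hx0
    rw [F.cA_zc_mul hR T c hy, hx0, zero_add]
  by_cases hy0 : F.cA T y = 0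
  · obtain ⟨c, rfl⟩ := F.eq_zc_of_cA hR T hy hy0
    rw [← F.zc_comm c hx, F.cA_zc_mul hR T c hx, hy0, add_zero]
  by_cases hd : detF q (F.cA T x) (F.cA T y) = 0
  swap
  · exact (F.cA_mul_indep hR T hx hy hd).1
  by_cases hxy : F.cA T (x * y) = 0
  · obtain ⟨c, hc⟩ := F.eq_zc_of_cA hR T (Q.mul_mem hx hy) hxy
    have hy' : y = F.ι (zc c) * x⁻¹ := by
      rw [F.zc_comm c (Q.inv_mem hx), ← hc, inv_mul_cancel_left]
    rw [hxy, hy', F.cA_zc_mul hR T c (Q.inv_mem hx), (F.inv_coord hR T hx).1, CharTwo.add_self_eq_zero]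
  obtain ⟨C, hC1, hC2⟩ := exists_indep_two T hx0 hxy
  have hC0 : C ≠ 0 := by
    intro e
    apply hC1
    rw [e]
    exact detF_zero_right (L := L) _
  obtain ⟨z, hz, rfl⟩ := F.exists_coord hR T hC0
  obtain ⟨l, hl⟩ := exists_smul_K T hx0 hd
  have hl0 : T.emb l ≠ 0 := fun e => hy0 (by rw [hl, e, zero_mul])
  have h1 : detF q (F.cA T y) (F.cA T z) ≠ 0 := by rw [hl, detF_emb_left T]; exact mul_ne_zero hl0 hC1
  have e1 := (F.cA_mul_indep hR T hy hz h1).1
  have h2 : detF q (F.cA T x) (F.cA T (y * z)) ≠ 0 := by rw [e1, detF_add_right', hd, zero_add]; exact hC1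
  have e2 := (F.cA_mul_indep hR T hx (Q.mul_mem hy hz) h2).1
  have e3 := (F.cA_mul_indep hR T (Q.mul_mem hx hy) hz hC2).1
  rw [mul_assoc, e2, e1] at e3
  linear_combination -e3

theorem cB_mul {x y : G} (hx : x ∈ Q) (hy : y ∈ Q) :
    F.cB T (x * y) = F.cB T x + F.cB T y + F.cA T x ^ q * F.cA T y := by
  by_cases hx0 : F.cA T x = 0
  · obtain ⟨c, rfl⟩ := F.eq_zc_of_cA hR T hx hx0
    rw [F.cB_zc_mul hR T c hy, F.cB_zc hR T, hx0, zero_pow card_ne_zero, zero_mul, add_zero]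
  by_cases hy0 : F.cA T y = 0
  · obtain ⟨c, rfl⟩ := F.eq_zc_of_cA hR T hy hy0
    rw [← F.zc_comm c hx, F.cB_zc_mul hR T c hx, F.cB_zc hR T, hy0, mul_zero, add_zero, add_comm]
  by_cases hd : detF q (F.cA T x) (F.cA T y) = 0
  swap
  · exact (F.cA_mul_indep hR T hx hy hd).2
  obtain ⟨C, hC⟩ := exists_indep T hx0
  obtain ⟨z, hz, rfl⟩ := F.exists_coord hR T (c := C) fun e => hC (by rw [e]; exact detF_zero_right (L := L) _)
  obtain ⟨l, hl⟩ := exists_smul_K T hx0 hd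
  have hl0 : T.emb l ≠ 0 := fun e => hy0 (by rw [hl, e, zero_mul])
  have h1 : detF q (F.cA T y) (F.cA T z) ≠ 0 := by rw [hl, detF_emb_left T]; exact mul_ne_zero hl0 hC
  have e1 := (F.cA_mul_indep hR T hy hz h1).2
  have h2 : detF q (F.cA T x) (F.cA T (y * z)) ≠ 0 := by
    rw [F.cA_mul hR T hy hz, detF_add_right', hd, zero_add]; exact hC
  have e2 := (F.cA_mul_indep hR T hx (Q.mul_mem hy hz) h2).2
  have hxyA := F.cA_mul hR T hx hy
  have e3 : F.cB T (x * y * z) = F.cB T (x * y) + F.cB T z + F.cA T (x * y) ^ q * F.cA T z := by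
    by_cases h0 : F.cA T (x * y) = 0
    · obtain ⟨c, hc⟩ := F.eq_zc_of_cA hR T (Q.mul_mem hx hy) h0
      rw [hc, F.cB_zc_mul hR T c hz, F.cB_zc hR T, F.cA_zc hR T, zero_pow card_ne_zero, zero_mul, add_zero]
    · refine (F.cA_mul_indep hR T (Q.mul_mem hx hy) hz ?_).2
      rw [hxyA, hl, show F.cA T x + T.emb l * F.cA T x = T.emb (1 + l) * F.cA T x by
        rw [map_add, map_one, add_mul, one_mul], detF_emb_left T]
      refine mul_ne_zero (fun e => h0 ?_) hC
      rw [hxyA, hl, show F.cA T x + T.emb l * F.cA T x = T.emb (1 + l) * F.cA T x by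
        rw [map_add, map_one, add_mul, one_mul], e, zero_mul]
  rw [mul_assoc, e2, e1, F.cA_mul hR T hy hz, hxyA, bar_add] at e3
  linear_combination -e3

/-- `t` on the coordinates -/
theorem t_formula {x x' : G} (hx : x ∈ Q) (hx' : x' ∈ Q) (h0 : F.cB T x ≠ 0)
    (hA : F.cA T x' = F.cA T x / F.cB T x) (hB : F.cB T x' = (F.cB T x)⁻¹)
    (hinj : ∀ y ∈ Q, ∀ y' ∈ Q, F.cA T y = F.cA T y' → F.cB T y = F.cB T y' → y = y') :
    t • x • t • a = x' • t • a := by
  have hS := F.setup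
  rcases F.cases_Q hR T hx with ⟨c, rfl⟩ | ⟨g, rfl⟩
  · rw [F.cB_zc hR T] at h0 hA hB
    have hc : c ≠ 0 := fun e => h0 (by rw [e, map_zero])
    rw [F.cA_zc hR T, zero_div] at hA
    rw [← map_inv₀] at hB
    rw [hinj x' hx' _ (F.zc_mem_Q c⁻¹) (by rw [hA, F.cA_zc hR T]) (by rw [hB, F.cB_zc hR T])]
    have h := congrArg F.ι (Jm_zc_Jm hc)
    simp only [map_mul, F.ι_J] at h
    rw [← mul_smul, ← mul_smul, h]
    simp only [mul_smul]
    rw [Q_smul hS (F.zc_mem_Q _), (mem_twoPt.1 (F.kc_mem_twoPt _)).2]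
  · have e1 := F.e_top_ne hR T g
    have e2 := F.e_bot_ne hR T g
    rw [F.cA_lab hR T, F.cB_lab hR T] at hA
    rw [F.cB_lab hR T, inv_div] at hB
    have e : x' = F.lab (Jm * g) := hinj x' hx' _ (F.lab_mem _)
      (by rw [hA, F.cA_lab hR T, bot_Jm_mul]; field_simp)
      (by rw [hB, F.cB_lab hR T, top_Jm_mul, bot_Jm_mul])
    rw [e, F.lab_spec, F.ι_Jm_smul_p0, F.lab_spec]

omit F hR T in
set_option maxHeartbeats 1600000 in
/-- the unital data of a frame -/
theorem exists_unital (F : Frame a t Q L) :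
    ∃ (K : Type) (_ : Field K) (_ : Fintype K) (n : ℕ), 2 ≤ n ∧ Fintype.card K = (2 ^ n) ^ 2 ∧
      Nonempty (Lsub G ≃* Cfsg.PSU 3 K (2 ^ n)) := by
  classical
  obtain ⟨R, hR⟩ := F.exists_twist
  obtain ⟨K, _, _, _, ⟨T⟩⟩ := exists_torusData R hR.1 hR.2.1 hR.2.2.1
  obtain ⟨n, hn, hnZ, -⟩ := exists_exponent F.setup F.four
  have hqn : q = 2 ^ n := by rw [Nat.card_eq_fintype_card, ← F.card_Z, hnZ]
  have hK : Fintype.card K = q ^ 2 := by rw [← Nat.card_eq_fintype_card, T.card]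
  have he : Even q := by rw [hqn]; exact Nat.even_pow.2 ⟨even_two, by omega⟩
  letI := InvCharThree.hermGroup hK he
  let E : Q →* InvCharThree.Herm K q :=
    MonoidHom.mk' (fun x => ⟨F.cA T x, F.cB T x, F.coord_rel hR T x.2⟩) fun x y =>
      InvCharThree.Herm.ext (F.cA_mul hR T x.2 y.2) (F.cB_mul hR T x.2 y.2)
  have hEinj : Function.Injective E := by
    rw [injective_iff_map_eq_one]
    intro x hx
    have hA : F.cA T x = 0 := congrArg InvCharThree.Herm.a hx
    have hB : F.cB T x = 0 := congrArg InvCharThree.Herm.b hx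
    obtain ⟨c, hc⟩ := F.eq_zc_of_cA hR T x.2 hA
    rw [hc, F.cB_zc hR T, map_eq_zero] at hB
    exact Subtype.ext (by rw [hc, hB, zc_zero, map_one]; rfl)
  haveI : Finite (InvCharThree.Herm K q) := Nat.finite_of_card_ne_zero (by
    rw [InvCharThree.natCard_herm hK he]; exact pow_ne_zero _ (card_ne_zero (L := L)))
  have hEbij : Function.Bijective E := by
    refine (Nat.bijective_iff_injective_and_card E).2 ⟨hEinj, ?_⟩
    rw [InvCharThree.natCard_herm hK he, F.card_cube, F.card_Z, Nat.card_eq_fintype_card]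
  let e := MulEquiv.ofBijective E hEbij
  have hinj : ∀ y ∈ Q, ∀ y' ∈ Q, F.cA T y = F.cA T y' → F.cB T y = F.cB T y' → y = y' :=
    fun y hy y' hy' hA hB => congrArg Subtype.val (hEinj (InvCharThree.Herm.ext hA hB :
      E ⟨y, hy⟩ = E ⟨y', hy'⟩))
  let D : UnitalData G Ω K q hK he :=
    { a := a
      b := t • a
      hab := (ta_ne F.setup).symm
      u := Q.subtype.comp e.symm.toMonoidHom
      u_a := fun x => Q_smul F.setup (e.symm x).2
      cover := fun p hp => by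
        obtain ⟨y, hy, hyp⟩ := Q_trans F.setup hp
        refine ⟨e ⟨y, hy⟩, by simpa using hyp, fun x hx => ?_⟩
        refine e.symm.injective (Subtype.ext ?_)
        rw [MulEquiv.symm_apply_apply]
        exact Q_inj F.setup (e.symm x).2 hy (hx.trans hyp.symm)
      w := t
      w_sq := F.setup.mul_self
      w_a := rfl
      w_formula := fun x x' hb hA hB => by
        obtain ⟨y, rfl⟩ := e.surjective x
        obtain ⟨y', rfl⟩ := e.surjective x'
        show t • (e.symm (e y) : G) • t • a = (e.symm (e y') : G) • t • a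
        rw [MulEquiv.symm_apply_apply, MulEquiv.symm_apply_apply]
        exact F.t_formula hR T y.2 y'.2 hb hA hB hinj }
  have hrange : Set.range D.u = (Q : Set G) := by
    ext y
    exact ⟨fun ⟨x, hx⟩ => hx ▸ (e.symm x).2, fun hy => ⟨e ⟨y, hy⟩, by
      show (e.symm (e ⟨y, hy⟩) : G) = y
      rw [MulEquiv.symm_apply_apply]⟩⟩
  obtain ⟨iso⟩ := D.nonempty_mulEquiv n hn hqn
  have hL : Nonempty (Lsub G ≃* Cfsg.PSU 3 K q) := by
    refine ⟨(MulEquiv.subgroupCongr ?_).trans iso⟩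
    rw [Lsub_eq_closure F.setup F.four, hrange]
  refine ⟨K, inferInstance, inferInstance, n, hn, ?_, ?_⟩
  · rw [hK, hqn]
  · rw [← hqn]
    exact hL

end Frame

end CfsgLib.RankOneRecog.Unitary
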