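import Mathlib

/-!
`SL₂` over a field of characteristic two, by rows.
-/

set_option autoImplicit false

noncomputable section

namespace CfsgLib.RankOneRecog.Unitary

open Matrix

variable {L : Type*} [Field L]

/-- rows -/
abbrev Row (L : Type*) := Fin 2 → L

/-- the group -/
abbrev SL2 (L : Type*) [Field L] := Matrix.SpecialLinearGroup (Fin 2) L

/-- the determinant of two rows (characteristic two) -/
def det2 (P α : Row L) : L := P 0 * α 1 + P 1 * α 0

/-- the first row -/
def top (g : SL2 L) : Row L := g.1 0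

/-- the second row -/
def bot (g : SL2 L) : Row L := g.1 1

/-- right multiplication of a row -/
def rowMul (r : Row L) (ρ : SL2 L) : Row L := Matrix.vecMul r ρ.1

theorem det2_add_left (P P' α : Row L) : det2 (P + P') α = det2 P α + det2 P' α := by
  simp only [det2, Pi.add_apply]; ring

theorem det2_add_right (P α α' : Row L) : det2 P (α + α') = det2 P α + det2 P α' := by
  simp only [det2, Pi.add_apply]; ring

theorem det2_smul_left (c : L) (P α : Row L) : det2 (c • P) α = c * det2 P α := by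
  simp only [det2, Pi.smul_apply, smul_eq_mul]; ring

theorem det2_smul_right (c : L) (P α : Row L) : det2 P (c • α) = c * det2 P α := by
  simp only [det2, Pi.smul_apply, smul_eq_mul]; ring

theorem det2_comm (P α : Row L) : det2 P α = det2 α P := by simp only [det2]; ring

theorem ext_rows {g g' : SL2 L} (h0 : top g = top g') (h1 : bot g = bot g') : g = g' := by
  refine Subtype.ext (Matrix.ext fun i j => ?_)
  fin_cases i
  · exact congrFun h0 j
  · exact congrFun h1 j

theorem top_mul (g ρ : SL2 L) : top (g * ρ) = rowMul (top g) ρ := by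
  funext j
  simp [top, rowMul, Matrix.mul_apply, Matrix.vecMul, dotProduct]

theorem bot_mul (g ρ : SL2 L) : bot (g * ρ) = rowMul (bot g) ρ := by
  funext j
  simp [bot, rowMul, Matrix.mul_apply, Matrix.vecMul, dotProduct]

theorem rowMul_one (r : Row L) : rowMul r (1 : SL2 L) = r := by
  simp [rowMul]

theorem rowMul_mul (r : Row L) (ρ σ : SL2 L) : rowMul r (ρ * σ) = rowMul (rowMul r ρ) σ := by
  simp [rowMul, Matrix.vecMul_vecMul]

theorem rowMul_add (r r' : Row L) (ρ : SL2 L) : rowMul (r + r') ρ = rowMul r ρ + rowMul r' ρ :=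
  Matrix.add_vecMul _ _ _

theorem rowMul_smul (c : L) (r : Row L) (ρ : SL2 L) : rowMul (c • r) ρ = c • rowMul r ρ :=
  Matrix.smul_vecMul _ _ _

theorem rowMul_ne_zero {r : Row L} (hr : r ≠ 0) (ρ : SL2 L) : rowMul r ρ ≠ 0 := fun h => hr (by
  have := congrArg (fun s => rowMul s ρ⁻¹) h
  simp only [← rowMul_mul, mul_inv_cancel, rowMul_one] at this
  rw [this]
  exact Matrix.zero_vecMul _)

theorem exists_smul_of_det2_eq_zero [CharP L 2] {P α : Row L} (hα : α ≠ 0) (h : det2 P α = 0) :
    ∃ c : L, P = c • α := by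
  simp only [det2] at h
  rw [CharTwo.add_eq_zero] at h
  by_cases h0 : α 0 = 0
  · have h1 : α 1 ≠ 0 := fun h1 => hα (funext fun i => by fin_cases i <;> assumption)
    refine ⟨P 1 / α 1, funext fun i => ?_⟩
    fin_cases i
    · rw [h0, mul_zero] at h
      show P 0 = P 1 / α 1 * α 0
      rw [h0, mul_zero]
      exact (mul_eq_zero.1 h).resolve_right h1
    · show P 1 = P 1 / α 1 * α 1
      rw [div_mul_cancel₀ _ h1]
  · refine ⟨P 0 / α 0, funext fun i => ?_⟩
    fin_cases i
    · show P 0 = P 0 / α 0 * α 0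
      rw [div_mul_cancel₀ _ h0]
    · show P 1 = P 0 / α 0 * α 1
      rw [div_mul_eq_mul_div, eq_div_iff h0, h]

variable [CharP L 2]

theorem det2_self (P : Row L) : det2 P P = 0 := by
  simp only [det2]
  rw [mul_comm (P 1), CharTwo.add_self_eq_zero]

theorem det_rows (g : SL2 L) : det2 (top g) (bot g) = 1 := by
  have h := g.2
  rw [Matrix.det_fin_two, CharTwo.sub_eq_add, mul_comm (g.1 0 1)] at h
  simp only [det2, top, bot]
  linear_combination h

theorem bot_ne_zero (g : SL2 L) : bot g ≠ 0 := fun h => by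
  have := det_rows g
  simp [h, det2] at this

theorem top_ne_zero (g : SL2 L) : top g ≠ 0 := fun h => by
  have := det_rows g
  simp [h, det2] at this

/-- the matrix with given rows -/
def ofRows (P α : Row L) (h : det2 P α = 1) : SL2 L :=
  ⟨!![P 0, P 1; α 0, α 1], by
    rw [Matrix.det_fin_two, CharTwo.sub_eq_add]
    simpa [det2] using h⟩

theorem top_ofRows (P α : Row L) (h : det2 P α = 1) : top (ofRows P α h) = P := by
  funext j; fin_cases j <;> rfl

theorem bot_ofRows (P α : Row L) (h : det2 P α = 1) : bot (ofRows P α h) = α := by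
  funext j; fin_cases j <;> rfl

/-- upper unitriangular -/
def zc (c : L) : SL2 L := ⟨!![1, c; 0, 1], by simp [Matrix.det_fin_two]⟩

/-- diagonal -/
def kc (s : Lˣ) : SL2 L := ⟨!![(s : L), 0; 0, (s : L)⁻¹], by simp [Matrix.det_fin_two]⟩

/-- antidiagonal -/
def Jm : SL2 L := ⟨!![0, 1; 1, 0], by simp [Matrix.det_fin_two, CharTwo.neg_eq]⟩

theorem zc_val (c : L) : (zc c).1 = !![1, c; 0, 1] := rfl

theorem kc_val (s : Lˣ) : (kc s).1 = !![(s : L), 0; 0, (s : L)⁻¹] := rfl

theorem Jm_val : (Jm : SL2 L).1 = !![0, 1; 1, 0] := rfl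

theorem top_zc_mul (c : L) (g : SL2 L) : top (zc c * g) = top g + c • bot g := by
  funext j
  simp [top, bot, zc_val, Matrix.mul_apply, Fin.sum_univ_two, Matrix.SpecialLinearGroup.coe_mul, Matrix.SpecialLinearGroup.coe_one]

theorem bot_zc_mul (c : L) (g : SL2 L) : bot (zc c * g) = bot g := by
  funext j
  simp [bot, zc_val, Matrix.mul_apply, Fin.sum_univ_two, Matrix.SpecialLinearGroup.coe_mul, Matrix.SpecialLinearGroup.coe_one]

theorem top_kc_mul (s : Lˣ) (g : SL2 L) : top (kc s * g) = (s : L) • top g := by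
  funext j
  simp [top, kc_val, Matrix.mul_apply, Fin.sum_univ_two, Matrix.SpecialLinearGroup.coe_mul, Matrix.SpecialLinearGroup.coe_one]

theorem bot_kc_mul (s : Lˣ) (g : SL2 L) : bot (kc s * g) = (s : L)⁻¹ • bot g := by
  funext j
  simp [bot, kc_val, Matrix.mul_apply, Fin.sum_univ_two, Matrix.SpecialLinearGroup.coe_mul, Matrix.SpecialLinearGroup.coe_one]

theorem top_Jm_mul (g : SL2 L) : top (Jm * g) = bot g := by
  funext j
  simp [top, bot, Jm_val, Matrix.mul_apply, Fin.sum_univ_two, Matrix.SpecialLinearGroup.coe_mul, Matrix.SpecialLinearGroup.coe_one]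

theorem bot_Jm_mul (g : SL2 L) : bot (Jm * g) = top g := by
  funext j
  simp [top, bot, Jm_val, Matrix.mul_apply, Fin.sum_univ_two, Matrix.SpecialLinearGroup.coe_mul, Matrix.SpecialLinearGroup.coe_one]

theorem zc_zero : zc (0 : L) = 1 := ext_rows
  (by funext j; fin_cases j <;> simp [top, zc_val, Matrix.SpecialLinearGroup.coe_mul, Matrix.mul_apply, Fin.sum_univ_two]) (by funext j; fin_cases j <;> simp [bot, zc_val, Matrix.SpecialLinearGroup.coe_mul, Matrix.mul_apply, Fin.sum_univ_two])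

theorem zc_add (c d : L) : zc (c + d) = zc c * zc d := by
  apply ext_rows
  · funext j; fin_cases j <;> simp [top, zc_val, add_comm, Matrix.SpecialLinearGroup.coe_mul, Matrix.mul_apply, Fin.sum_univ_two]
  · funext j; fin_cases j <;> simp [bot, zc_val, Matrix.SpecialLinearGroup.coe_mul, Matrix.mul_apply, Fin.sum_univ_two]

theorem zc_inj {c d : L} (h : zc c = zc d) : c = d := by
  have := congrArg (fun g : SL2 L => g.1 0 1) h
  simpa [zc] using this

theorem zc_self (c : L) : zc c * zc c = 1 := by rw [← zc_add, CharTwo.add_self_eq_zero, zc_zero]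

theorem zc_inv (c : L) : (zc c)⁻¹ = zc c := inv_eq_of_mul_eq_one_right (zc_self c)

theorem Jm_sq : Jm * Jm = (1 : SL2 L) := ext_rows
  (by rw [top_Jm_mul]; funext j; fin_cases j <;> simp [top, bot, Jm_val, Matrix.SpecialLinearGroup.coe_mul, Matrix.mul_apply, Fin.sum_univ_two])
  (by rw [bot_Jm_mul]; funext j; fin_cases j <;> simp [top, bot, Jm_val, Matrix.SpecialLinearGroup.coe_mul, Matrix.mul_apply, Fin.sum_univ_two])

theorem kc_one : kc (1 : Lˣ) = 1 := ext_rows
  (by funext j; fin_cases j <;> simp [top, kc_val, Matrix.SpecialLinearGroup.coe_mul, Matrix.mul_apply, Fin.sum_univ_two]) (by funext j; fin_cases j <;> simp [bot, kc_val, Matrix.SpecialLinearGroup.coe_mul, Matrix.mul_apply, Fin.sum_univ_two])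

theorem kc_mul (s r : Lˣ) : kc (s * r) = kc s * kc r := by
  apply ext_rows
  · funext j; fin_cases j <;> simp [top, kc_val, Matrix.SpecialLinearGroup.coe_mul, Matrix.mul_apply, Fin.sum_univ_two]
  · funext j; fin_cases j <;> simp [bot, kc_val, mul_comm, Matrix.SpecialLinearGroup.coe_mul, Matrix.mul_apply, Fin.sum_univ_two]

theorem kc_inv (s : Lˣ) : (kc s)⁻¹ = kc s⁻¹ :=
  inv_eq_of_mul_eq_one_right (by rw [← kc_mul, mul_inv_cancel, kc_one])

theorem kc_inj {s r : Lˣ} (h : kc s = kc r) : s = r := by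
  have := congrArg (fun g : SL2 L => g.1 0 0) h
  exact Units.ext (by simpa [kc] using this)

theorem kc_zc (s : Lˣ) (c : L) : kc s * zc c = zc ((s : L) ^ 2 * c) * kc s := by
  apply ext_rows
  · funext j; fin_cases j <;> simp [top, kc_val, zc_val, Matrix.SpecialLinearGroup.coe_mul, Matrix.mul_apply, Fin.sum_univ_two]
    field_simp
  · funext j; fin_cases j <;> simp [bot, kc_val, zc_val, Matrix.SpecialLinearGroup.coe_mul, Matrix.mul_apply, Fin.sum_univ_two]

theorem Jm_kc (s : Lˣ) : Jm * kc s = kc s⁻¹ * Jm := by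
  apply ext_rows
  · funext j; fin_cases j <;> simp [top, kc_val, Jm_val, Matrix.SpecialLinearGroup.coe_mul, Matrix.mul_apply, Fin.sum_univ_two]
  · funext j; fin_cases j <;> simp [bot, kc_val, Jm_val, Matrix.SpecialLinearGroup.coe_mul, Matrix.mul_apply, Fin.sum_univ_two]

/-- `J z_c = z_{1/c} k J z_{1/c} J` -/
theorem Jm_zc_Jm {c : L} (hc : c ≠ 0) :
    Jm * zc c * Jm = zc c⁻¹ * kc (Units.mk0 c⁻¹ (inv_ne_zero hc)) * Jm * zc c⁻¹ := by
  apply ext_rows
  · funext j; fin_cases j <;> simp [top, kc_val, Jm_val, zc_val, Matrix.SpecialLinearGroup.coe_mul, Matrix.mul_apply, Fin.sum_univ_two]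
    all_goals field_simp
    simp [CharTwo.add_self_eq_zero]
  · funext j; fin_cases j <;> simp [bot, kc_val, Jm_val, zc_val, Matrix.SpecialLinearGroup.coe_mul, Matrix.mul_apply, Fin.sum_univ_two]
    · field_simp

/-- Bruhat decomposition -/
theorem bruhat (g : SL2 L) :
    (∃ c s, g = zc c * kc s) ∨ ∃ e s d, g = zc e * kc s * Jm * zc d := by
  have hd := det_rows g
  simp only [det2, top, bot] at hd
  by_cases h : g.1 1 0 = 0
  · left
    have h00 : g.1 0 0 ≠ 0 := fun e => by rw [h, e] at hd; simp at hd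
    refine ⟨g.1 0 1 * g.1 0 0, Units.mk0 _ h00, ext_rows ?_ ?_⟩
    · funext j; fin_cases j <;> simp [top, zc_val, kc_val, h00, Matrix.SpecialLinearGroup.coe_mul, Matrix.mul_apply, Fin.sum_univ_two]
    · funext j; fin_cases j
      · simp [bot, zc_val, kc_val, h, Matrix.SpecialLinearGroup.coe_mul, Matrix.mul_apply, Fin.sum_univ_two]
      · rw [h] at hd
        simp [bot, zc_val, kc_val, Matrix.SpecialLinearGroup.coe_mul, Matrix.mul_apply, Fin.sum_univ_two, eq_inv_of_mul_eq_one_right (show g.1 0 0 * g.1 1 1 = 1 by linear_combination hd)]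
  · right
    refine ⟨g.1 0 0 / g.1 1 0, (Units.mk0 _ h)⁻¹, g.1 1 1 / g.1 1 0, ext_rows ?_ ?_⟩
    · funext j; fin_cases j <;> simp [top, zc_val, kc_val, Jm_val, h, Matrix.SpecialLinearGroup.coe_mul, Matrix.mul_apply, Fin.sum_univ_two]
      · field_simp
        linear_combination (-1 : L) * hd + (g.1 0 1 * g.1 1 0 - 1) * CharTwo.two_eq_zero (R := L)
    · funext j; fin_cases j <;> simp [bot, zc_val, kc_val, Jm_val, h, Matrix.SpecialLinearGroup.coe_mul, Matrix.mul_apply, Fin.sum_univ_two]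
      · field_simp

/-- every element is a product of two elements of square one -/
theorem exists_invol_mul (g : SL2 L) : ∃ u v : SL2 L, u * u = 1 ∧ v * v = 1 ∧ g = u * v := by
  have tr0 : ∀ x : SL2 L, x.1 0 0 = x.1 1 1 → x * x = 1 := fun x hx => by
    have hd := x.2
    rw [Matrix.det_fin_two, ← hx] at hd
    refine Subtype.ext (Matrix.ext fun i j => ?_)
    fin_cases i <;> fin_cases j <;> simp [Matrix.mul_apply, Fin.sum_univ_two, ← hx]
    · linear_combination hd + (x.1 0 1 * x.1 1 0) * CharTwo.two_eq_zero (R := L)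
    · linear_combination (x.1 0 0 * x.1 0 1) * CharTwo.two_eq_zero (R := L)
    · linear_combination (x.1 0 0 * x.1 1 0) * CharTwo.two_eq_zero (R := L)
    · linear_combination hd + (x.1 0 1 * x.1 1 0) * CharTwo.two_eq_zero (R := L)
  suffices h : ∃ u : SL2 L, u.1 0 0 = u.1 1 1 ∧ (u * g).1 0 0 = (u * g).1 1 1 by
    obtain ⟨u, hu, hug⟩ := h
    exact ⟨u, u * g, tr0 u hu, tr0 _ hug, by rw [← mul_assoc, tr0 u hu, one_mul]⟩
  by_cases hc : g.1 1 0 = 0
  · by_cases hb : g.1 0 1 = 0
    · exact ⟨Jm, by simp [Jm_val, Matrix.SpecialLinearGroup.coe_mul, Matrix.mul_apply, Fin.sum_univ_two], by simp [Jm_val, Matrix.mul_apply, Fin.sum_univ_two, hb, hc, Matrix.SpecialLinearGroup.coe_mul, Matrix.SpecialLinearGroup.coe_one]⟩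
    · obtain ⟨u, hu⟩ : ∃ u : SL2 L, u.1 = !![1, 0; (g.1 0 0 + g.1 1 1) / g.1 0 1, 1] :=
        ⟨⟨_, by simp [Matrix.det_fin_two]⟩, rfl⟩
      refine ⟨u, by simp [hu], ?_⟩
      simp [hu, Matrix.SpecialLinearGroup.coe_mul, Matrix.mul_apply, Fin.sum_univ_two]
      field_simp
      linear_combination (-(g.1 1 1)) * CharTwo.two_eq_zero (R := L)
  · refine ⟨zc ((g.1 0 0 + g.1 1 1) / g.1 1 0), by simp [zc_val, Matrix.SpecialLinearGroup.coe_mul, Matrix.mul_apply, Fin.sum_univ_two], ?_⟩
    simp [zc_val, Matrix.mul_apply, Fin.sum_univ_two, Matrix.SpecialLinearGroup.coe_mul, Matrix.SpecialLinearGroup.coe_one]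
    field_simp
    linear_combination g.1 0 0 * CharTwo.two_eq_zero (R := L)

end CfsgLib.RankOneRecog.Unitary
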