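import Cfsg.Agent.Lib.RankOneRecog.QStruct
import Cfsg.Agent.Lib.RankOneRecog.Unitary.Rows
import Cfsg.Agent.Lib.SpecLin.SLTwoClassSize

/-!
The frame of the coordinatisation in the case `|Q| = q ^ 3`: `SL₂` is regular off its orbit of `q + 1`
points, which labels the elements of `Q` outside `Zsub`.
-/

set_option autoImplicit false

noncomputable section

namespace CfsgLib.RankOneRecog.Unitary

open CfsgLib.RankOneInvol CfsgLib.RankOneTwo
open MulAction (stabilizer mem_stabilizer_iff)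

universe u v

/-- the orbit of `a` under the subgroup `SL₂` -/
def InOrbit (G : Type u) [Group G] {Ω : Type v} [MulAction G Ω] (a : Ω) (t : G) (x : Ω) : Prop :=
  x = a ∨ ∃ z ∈ Zsub G a, z • t • a = x

variable {G : Type u} {Ω : Type v} [Group G] [MulAction G Ω]

/-- the data of the case `|Q| = q ^ 3` -/
structure Frame (a : Ω) (t : G) (Q : Subgroup G) (L : Type) [Field L] [Fintype L] [CharP L 2] where
  setup : Cfsg.IsRankOneSetup G Ω a t Q
  four : ∃ x y : G, x ≠ 1 ∧ y ≠ 1 ∧ x ≠ y ∧ x * x = 1 ∧ y * y = 1 ∧ x * y = y * x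
  ι : SL2 L →* G
  ι_inj : Function.Injective ι
  ι_J : ι Jm = t
  ι_Z : ∀ z, z ∈ Zsub G a ↔ ∃ c, ι (zc c) = z
  ι_K : ∀ k, k ∈ Ksub G a t ↔ ∃ s, ι (kc s) = k
  nonComm : ∃ x y : Q, x * y ≠ y * x
  card_cube : Nat.card Q = Nat.card (Zsub G a) ^ 3
  p0 : Ω
  p0_out : ¬ InOrbit G a t p0

namespace Frame

variable [Finite G] {a : Ω} {t : G} {Q : Subgroup G} {L : Type} [Field L] [Fintype L] [CharP L 2]
  (F : Frame a t Q L)
include F

theorem zc_mem (c : L) : F.ι (zc c) ∈ Zsub G a := (F.ι_Z _).2 ⟨c, rfl⟩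

theorem zc_mem_Q (c : L) : F.ι (zc c) ∈ Q := Zsub_le F.setup F.four (F.zc_mem c)

theorem kc_mem (s : Lˣ) : F.ι (kc s) ∈ Ksub G a t := (F.ι_K _).2 ⟨s, rfl⟩

theorem kc_mem_twoPt (s : Lˣ) : F.ι (kc s) ∈ twoPt G a t := Ksub_le F.setup F.four (F.kc_mem s)

theorem card_Z : Nat.card (Zsub G a) = Fintype.card L := by
  rw [← Nat.card_eq_fintype_card]
  refine (Nat.card_eq_of_bijective (fun c => (⟨F.ι (zc c), F.zc_mem c⟩ : Zsub G a))
    ⟨fun c d h => zc_inj (F.ι_inj (congrArg Subtype.val h)), fun z => ?_⟩).symm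
  obtain ⟨c, hc⟩ := (F.ι_Z _).1 z.2
  exact ⟨c, Subtype.ext hc⟩

theorem card_K : Nat.card (Ksub G a t) + 1 = Fintype.card L := by
  rw [← F.card_Z, card_Zsub F.setup F.four]

theorem one_lt_q : 1 < Fintype.card L := Fintype.one_lt_card

theorem orbit_iff {x : Ω} : InOrbit G a t x ↔ ∃ g, F.ι g • a = x := by
  constructor
  · rintro (rfl | ⟨z, hz, rfl⟩)
    · exact ⟨1, by rw [map_one, one_smul]⟩
    · obtain ⟨c, rfl⟩ := (F.ι_Z _).1 hz
      exact ⟨zc c * Jm, by rw [map_mul, F.ι_J, mul_smul]⟩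
  · rintro ⟨g, rfl⟩
    rcases bruhat g with ⟨c, s, rfl⟩ | ⟨e, s, d, rfl⟩
    · left
      rw [map_mul, mul_smul, (mem_twoPt.1 (F.kc_mem_twoPt s)).1, Q_smul F.setup (F.zc_mem_Q c)]
    · refine Or.inr ⟨F.ι (zc e), F.zc_mem e, ?_⟩
      rw [map_mul, map_mul, map_mul, F.ι_J, mul_smul, mul_smul, mul_smul, Q_smul F.setup (F.zc_mem_Q d),
        (mem_twoPt.1 (F.kc_mem_twoPt s)).2]

theorem orbit_smul_iff (g : SL2 L) {x : Ω} : InOrbit G a t (F.ι g • x) ↔ InOrbit G a t x := by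
  rw [F.orbit_iff, F.orbit_iff]
  constructor
  · rintro ⟨h, e⟩
    exact ⟨g⁻¹ * h, by rw [map_mul, mul_smul, e, map_inv, inv_smul_smul]⟩
  · rintro ⟨h, rfl⟩
    exact ⟨g * h, by rw [map_mul, mul_smul]⟩

theorem card_orbit : Nat.card {x : Ω // InOrbit G a t x} = Fintype.card L + 1 := by
  classical
  haveI := CfsgLib.RankOneInvol.finite_omega F.setup
  let f : Option L → {x : Ω // InOrbit G a t x} := fun o =>
    o.elim ⟨a, Or.inl rfl⟩ fun c => ⟨F.ι (zc c) • t • a, Or.inr ⟨_, F.zc_mem c, rfl⟩⟩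
  have hne : ∀ c, F.ι (zc c) • t • a ≠ a := fun c e => ta_ne F.setup (by
    rw [← inv_smul_smul (F.ι (zc c)) (t • a), e]
    exact Q_smul F.setup (Q.inv_mem (F.zc_mem_Q c)))
  have hf : Function.Bijective f := by
    refine ⟨?_, ?_⟩
    · rintro (_ | c) (_ | d) h
      · rfl
      · exact absurd (congrArg Subtype.val h).symm (hne d)
      · exact absurd (congrArg Subtype.val h) (hne c)
      · exact congrArg some (zc_inj (F.ι_inj (Q_inj F.setup (F.zc_mem_Q c) (F.zc_mem_Q d)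
          (congrArg Subtype.val h))))
    · rintro ⟨x, rfl | ⟨z, hz, rfl⟩⟩
      · exact ⟨none, rfl⟩
      · obtain ⟨c, rfl⟩ := (F.ι_Z _).1 hz
        exact ⟨some c, rfl⟩
  rw [← Nat.card_eq_of_bijective f hf, Finite.card_option, Nat.card_eq_fintype_card]

/-- an element of prime order not dividing `q + 1` fixes a point of the orbit -/
theorem exists_fixed_orbit {g : SL2 L} {p : ℕ} [Fact p.Prime] (hp : ¬ p ∣ Fintype.card L + 1)
    (hg : F.ι g ^ p = 1) : ∃ x, InOrbit G a t x ∧ F.ι g • x = x := by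
  classical
  haveI := CfsgLib.RankOneInvol.finite_omega F.setup
  haveI := Fintype.ofFinite Ω
  let X := {x : Ω // InOrbit G a t x}
  let act : SL2 L →* Equiv.Perm X :=
    { toFun := fun g =>
        { toFun := fun x => ⟨F.ι g • (x : Ω), (F.orbit_smul_iff g).2 x.2⟩
          invFun := fun x => ⟨F.ι g⁻¹ • (x : Ω), (F.orbit_smul_iff g⁻¹).2 x.2⟩
          left_inv := fun x => Subtype.ext (by simp [map_inv])
          right_inv := fun x => Subtype.ext (by simp [map_inv]) }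
      map_one' := Equiv.ext fun x => Subtype.ext (by simp)
      map_mul' := fun g h => Equiv.ext fun x => Subtype.ext (by simp [map_mul, mul_smul]) }
  have hnd : ¬ p ∣ Fintype.card X := by
    rw [← Nat.card_eq_fintype_card, F.card_orbit]; exact hp
  have hg' : g ^ p = 1 := F.ι_inj (by rw [map_pow, hg, map_one])
  obtain ⟨x, hx⟩ := Equiv.Perm.exists_fixed_point_of_prime hnd (σ := act g) (n := 1)
    (by rw [pow_one, ← map_pow, hg', map_one])
  exact ⟨x, x.2, congrArg Subtype.val hx⟩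

theorem even_q : Even (Fintype.card L) := by
  obtain ⟨f, hf, h, -⟩ := exists_exponent F.setup F.four
  rw [← F.card_Z, h]
  exact Nat.even_pow.2 ⟨even_two, by omega⟩

/-- an involution of `SL₂` fixes no point off the orbit -/
theorem invol_out {g : SL2 L} (hg : g * g = 1) (hg1 : g ≠ 1) {c : Ω} (hc : ¬ InOrbit G a t c) :
    F.ι g • c ≠ c := by
  intro h
  haveI : Fact (Nat.Prime 2) := ⟨Nat.prime_two⟩
  have he : ¬ 2 ∣ Fintype.card L + 1 := by
    obtain ⟨m, hm⟩ := F.even_q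
    omega
  obtain ⟨x, hx, hfix⟩ := F.exists_fixed_orbit he (g := g) (by rw [pow_two, ← map_mul, hg, map_one])
  have h1 : F.ι g ≠ 1 := fun e => hg1 (F.ι_inj (e.trans (map_one F.ι).symm))
  exact hc (invol_eq_of_fixed F.setup h1 (by rw [← map_mul, hg, map_one]) h hfix ▸ hx)

/-- `SL₂` is semiregular off the orbit -/
theorem semiregular {g : SL2 L} {c : Ω} (hc : ¬ InOrbit G a t c) (h : F.ι g • c = c) : g = 1 := by
  classical
  have hS := F.setup
  by_contra hg
  obtain ⟨u, v, hu, hv, rfl⟩ := exists_invol_mul g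
  have huu : F.ι u * F.ι u = 1 := by rw [← map_mul, hu, map_one]
  have hvv : F.ι v * F.ι v = 1 := by rw [← map_mul, hv, map_one]
  by_cases hu1 : u = 1
  · subst hu1
    rw [one_mul] at h hg
    exact F.invol_out hv hg hc h
  by_cases hv1 : v = 1
  · subst hv1
    rw [mul_one] at h hg
    exact F.invol_out hu hg hc h
  set U := F.ι u
  set V := F.ι v
  rw [map_mul, mul_smul] at h
  have hU1 : U ≠ 1 := fun e => hu1 (F.ι_inj (e.trans (map_one F.ι).symm))
  have hV1 : V ≠ 1 := fun e => hv1 (F.ι_inj (e.trans (map_one F.ι).symm))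
  have hne : U • c ≠ c := F.invol_out hu hu1 hc
  have hVc : V • c = U • c := by
    conv_rhs => rw [← h, smul_smul, huu, one_smul]
  obtain ⟨m, hma, hmb⟩ := two_trans hS (Ne.symm hne) (ta_ne hS).symm
  have hswap : ∀ {W : G}, W * W = 1 → W ≠ 1 → W • c = U • c → IsSwap G a t (m * W * m⁻¹) :=
    fun {W} hW hW1 hWc => ⟨conj_ne_one hW1 m, by
      calc m * W * m⁻¹ * (m * W * m⁻¹) = m * (W * W) * m⁻¹ := by group
        _ = 1 := by rw [hW]; group, by
      rw [← hma, mul_smul, mul_smul, inv_smul_smul, hWc, hmb, hma]⟩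
  have hU := t_mul_mem_invSet hS (hswap huu hU1 rfl)
  have hV := t_mul_mem_invSet hS (hswap hvv hV1 hVc)
  have hy : m * (U * V) * m⁻¹ ∈ Ksub G a t := by
    have e : m * (U * V) * m⁻¹ = (t * (m * U * m⁻¹))⁻¹ * (t * (m * V * m⁻¹)) := by
      rw [mul_inv_rev, mul_inv_rev, mul_inv_rev, inv_inv, inv_eq_of_mul_eq_one_right huu]
      group
    rw [e]
    exact mul_mem (inv_mem ((mem_Ksub_iff hS F.four).2 hU)) ((mem_Ksub_iff hS F.four).2 hV)
  set g := u * v
  have hgmem : m * F.ι g * m⁻¹ ∈ Ksub G a t := by rwa [map_mul]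
  obtain ⟨p, hp, hpd⟩ := Nat.exists_prime_and_dvd (fun e => hg (orderOf_eq_one_iff.1 e))
  haveI := Fact.mk hp
  set g' := g ^ (orderOf g / p) with hg'
  have hg'o : orderOf g' = p := orderOf_pow_orderOf_div (orderOf_pos g).ne' hpd
  have hk : m * F.ι g' * m⁻¹ ∈ Ksub G a t := by
    rw [hg', map_pow, ← conj_pow]; exact pow_mem hgmem _
  have hg'1 : g' ≠ 1 := fun e => hp.ne_one (by rw [← hg'o, e, orderOf_one])
  have hk1 : m * F.ι g' * m⁻¹ ≠ 1 := conj_ne_one (fun e => hg'1 (F.ι_inj (e.trans (map_one F.ι).symm))) m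
  have hpK : p ∣ Nat.card (Ksub G a t) := by
    have : orderOf (m * F.ι g' * m⁻¹) = p := by
      rw [← hg'o, ← orderOf_injective F.ι F.ι_inj g']
      exact MulEquiv.orderOf_eq (MulAut.conj m) (F.ι g')
    rw [← this]
    exact Subgroup.orderOf_dvd_natCard _ hk
  have hodd : Odd (Nat.card (Ksub G a t)) :=
    Odd.of_dvd_nat hS.odd_card (Subgroup.card_dvd_of_le (Ksub_le hS F.four))
  have hpn : ¬ p ∣ Fintype.card L + 1 := fun e => by
    rw [← F.card_K, add_assoc] at e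
    have h2 := (Nat.dvd_add_right hpK).1 e
    rw [(Nat.prime_dvd_prime_iff_eq hp Nat.prime_two).1 h2] at hpK
    exact hodd.not_two_dvd_nat hpK
  obtain ⟨x, hx, hfix⟩ := F.exists_fixed_orbit hpn (g := g')
    (by rw [← map_pow, ← hg'o, pow_orderOf_eq_one, map_one])
  rcases invSet_fixes_two hS ((mem_Ksub_iff hS F.four).1 hk) hk1 (c := m • x)
    (by rw [mul_smul, mul_smul, inv_smul_smul, hfix]) with e | e
  · exact hc (smul_left_cancel m (e.trans hma.symm) ▸ hx)
  · exact hc ((F.orbit_smul_iff u).1 (smul_left_cancel m (e.trans hmb.symm) ▸ hx))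

theorem out_smul (g : SL2 L) : ¬ InOrbit G a t (F.ι g • F.p0) :=
  fun h => F.p0_out ((F.orbit_smul_iff g).1 h)

theorem smul_p0_inj {g g' : SL2 L} (h : F.ι g • F.p0 = F.ι g' • F.p0) : g = g' := by
  refine (inv_mul_eq_one.1 (F.semiregular F.p0_out (g := g'⁻¹ * g) ?_)).symm
  rw [map_mul, mul_smul, h, map_inv, inv_smul_smul]

/-- `SL₂` is transitive off the orbit -/
theorem smul_p0_surj {x : Ω} (hx : ¬ InOrbit G a t x) : ∃ g, F.ι g • F.p0 = x := by
  classical
  haveI := CfsgLib.RankOneInvol.finite_omega F.setup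
  let f : SL2 L → {x : Ω // ¬ InOrbit G a t x} := fun g => ⟨F.ι g • F.p0, F.out_smul g⟩
  have hinj : Function.Injective f := fun g g' h => F.smul_p0_inj (congrArg Subtype.val h)
  have hcard : Nat.card {x : Ω // ¬ InOrbit G a t x} ≤ Nat.card (SL2 L) := by
    have h1 : Nat.card Ω = Nat.card {x : Ω // InOrbit G a t x} + Nat.card {x : Ω // ¬ InOrbit G a t x} := by
      rw [← Nat.card_sum]
      exact Nat.card_congr (Equiv.sumCompl _).symm
    rw [CfsgLib.RankOne.card_omega F.setup, F.card_cube, F.card_Z, F.card_orbit] at h1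
    rw [CfsgLib.SpecLin.SLTwo.card_sl_two, Nat.mul_sub, mul_one]
    have e : Fintype.card L * Fintype.card L ^ 2 = Fintype.card L ^ 3 := by ring
    omega
  obtain ⟨g, hg⟩ := (Nat.bijective_iff_injective_and_card f).2
    ⟨hinj, le_antisymm (Nat.card_le_card_of_injective f hinj) hcard⟩ |>.2 ⟨x, hx⟩
  exact ⟨g, congrArg Subtype.val hg⟩

theorem exists_label (g : SL2 L) : ∃ x ∈ Q, x • t • a = F.ι g • F.p0 :=
  Q_trans F.setup fun e => F.out_smul g (Or.inl e)

/-- the element of `Q` labelled by `g` -/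
def lab (g : SL2 L) : G := (F.exists_label g).choose

theorem lab_mem (g : SL2 L) : F.lab g ∈ Q := (F.exists_label g).choose_spec.1

theorem lab_spec (g : SL2 L) : F.lab g • t • a = F.ι g • F.p0 := (F.exists_label g).choose_spec.2

theorem lab_eq {g : SL2 L} {x : G} (hx : x ∈ Q) (h : x • t • a = F.ι g • F.p0) : x = F.lab g :=
  Q_inj F.setup hx (F.lab_mem g) (h.trans (F.lab_spec g).symm)

theorem lab_inj {g g' : SL2 L} (h : F.lab g = F.lab g') : g = g' :=
  F.smul_p0_inj (by rw [← F.lab_spec, h, F.lab_spec])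

theorem lab_not_mem (g : SL2 L) : F.lab g ∉ Zsub G a :=
  fun h => F.out_smul g (Or.inr ⟨_, h, F.lab_spec g⟩)

theorem lab_surj {x : G} (hx : x ∈ Q) (hxZ : x ∉ Zsub G a) : ∃ g, F.lab g = x := by
  have hout : ¬ InOrbit G a t (x • t • a) := by
    rintro (e | ⟨z, hz, e⟩)
    · exact ta_ne F.setup (smul_left_cancel x (e.trans (Q_smul F.setup hx).symm))
    · exact hxZ (Q_inj F.setup (Zsub_le F.setup F.four hz) hx e ▸ hz)
  obtain ⟨g, hg⟩ := F.smul_p0_surj hout
  exact ⟨g, (F.lab_eq hx hg.symm).symm⟩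

theorem lab_zc_mul (c : L) (g : SL2 L) : F.lab (zc c * g) = F.ι (zc c) * F.lab g :=
  (F.lab_eq (Q.mul_mem (F.zc_mem_Q c) (F.lab_mem g)) (by
    rw [mul_smul, F.lab_spec, map_mul, mul_smul])).symm

theorem zc_comm (c : L) {x : G} (hx : x ∈ Q) : F.ι (zc c) * x = x * F.ι (zc c) :=
  Zsub_comm F.setup F.four (F.zc_mem c) hx

theorem lab_kc_mul (s : Lˣ) (g : SL2 L) :
    F.lab (kc s * g) = F.ι (kc s) * F.lab g * (F.ι (kc s))⁻¹ := by
  obtain ⟨h1, h2⟩ := mem_twoPt.1 (F.kc_mem_twoPt s)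
  refine (F.lab_eq (Q_conj F.setup h1 (F.lab_mem g)) ?_).symm
  rw [mul_smul, mul_smul, inv_smul_eq_iff.2 h2.symm, F.lab_spec, map_mul, mul_smul]

section Square

variable [FaithfulSMul G Ω]

theorem exists_sq (g : SL2 L) : ∃ c : L, F.ι (zc c) = F.lab g * F.lab g :=
  (F.ι_Z _).1 (sq_mem_Zsub F.setup F.four F.nonComm (F.lab_mem g))

/-- the square of a labelled element, as an element of the field -/
def dlt (g : SL2 L) : L := (F.exists_sq g).choose

theorem dlt_spec (g : SL2 L) : F.ι (zc (F.dlt g)) = F.lab g * F.lab g := (F.exists_sq g).choose_spec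

theorem dlt_unique {g : SL2 L} {c : L} (h : F.lab g * F.lab g = F.ι (zc c)) : F.dlt g = c :=
  zc_inj (F.ι_inj ((F.dlt_spec g).trans h))

theorem dlt_ne_zero (g : SL2 L) : F.dlt g ≠ 0 := fun e => by
  have h := F.dlt_spec g
  rw [e, zc_zero, map_one] at h
  exact F.lab_not_mem g (mem_Zsub_of_sq F.setup F.four (F.lab_mem g) h.symm)

theorem dlt_zc_mul (c : L) (g : SL2 L) : F.dlt (zc c * g) = F.dlt g := by
  refine F.dlt_unique ?_
  have e := F.zc_comm c (F.lab_mem g)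
  have e2 : F.ι (zc c) * F.ι (zc c) = 1 := by rw [← map_mul, zc_self, map_one]
  rw [F.lab_zc_mul, F.dlt_spec]
  calc F.ι (zc c) * F.lab g * (F.ι (zc c) * F.lab g)
      = F.ι (zc c) * (F.lab g * F.ι (zc c)) * F.lab g := by group
    _ = F.ι (zc c) * F.ι (zc c) * (F.lab g * F.lab g) := by rw [← e]; group
    _ = F.lab g * F.lab g := by rw [e2, one_mul]

theorem dlt_congr {g g' : SL2 L} (h : bot g = bot g') : F.dlt g = F.dlt g' := by
  have hd : det2 (top g + top g') (bot g) = 0 := by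
    rw [det2_add_left, det_rows, h, det_rows, CharTwo.add_self_eq_zero]
  obtain ⟨c, hc⟩ := exists_smul_of_det2_eq_zero (bot_ne_zero g) hd
  have : g' = zc c * g := by
    refine ext_rows ?_ ?_
    · rw [top_zc_mul, ← hc, ← add_assoc, CharTwo.add_self_eq_zero, zero_add]
    · rw [bot_zc_mul, h]
  rw [this, F.dlt_zc_mul]

/-- the inverse of a labelled element -/
theorem lab_inv (g : SL2 L) : (F.lab g)⁻¹ = F.lab (zc (F.dlt g) * g) := by
  refine inv_eq_of_mul_eq_one_right ?_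
  rw [F.lab_zc_mul, F.zc_comm _ (F.lab_mem g), ← mul_assoc, ← F.dlt_spec, ← map_mul, zc_self, map_one]

theorem dlt_kc_mul (s : Lˣ) (g : SL2 L) : F.dlt (kc s * g) = (s : L) ^ 2 * F.dlt g := by
  refine F.dlt_unique ?_
  rw [F.lab_kc_mul]
  calc F.ι (kc s) * F.lab g * (F.ι (kc s))⁻¹ * (F.ι (kc s) * F.lab g * (F.ι (kc s))⁻¹)
      = F.ι (kc s) * (F.lab g * F.lab g) * (F.ι (kc s))⁻¹ := by group
    _ = _ := by rw [← F.dlt_spec, ← map_mul, ← map_inv, ← map_mul, kc_zc, mul_assoc, mul_inv_cancel,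
          mul_one]

theorem exists_bot {r : Row L} (hr : r ≠ 0) : ∃ g : SL2 L, bot g = r := by
  by_cases h : r 1 = 0
  · have h0 : r 0 ≠ 0 := fun e => hr (funext fun i => by fin_cases i <;> assumption)
    exact ⟨ofRows ![0, (r 0)⁻¹] r (by simp [det2, h0]), bot_ofRows _ _ _⟩
  · exact ⟨ofRows ![(r 1)⁻¹, 0] r (by simp [det2, h]), bot_ofRows _ _ _⟩

open scoped Classical in
/-- the quadratic function on rows -/
def del (r : Row L) : L := if h : r = 0 then 0 else F.dlt (F.exists_bot h).choose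

theorem del_bot (g : SL2 L) : F.del (bot g) = F.dlt g := by
  rw [del, dif_neg (bot_ne_zero g)]
  exact F.dlt_congr (F.exists_bot (bot_ne_zero g)).choose_spec

theorem del_ne_zero {r : Row L} (hr : r ≠ 0) : F.del r ≠ 0 := by
  rw [del, dif_neg hr]
  exact F.dlt_ne_zero _

theorem del_smul {c : L} (hc : c ≠ 0) (r : Row L) : F.del (c • r) = F.del r / c ^ 2 := by
  by_cases hr : r = 0
  · subst hr
    simp [del]
  obtain ⟨g, rfl⟩ := F.exists_bot hr
  have h := bot_kc_mul (Units.mk0 c hc)⁻¹ g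
  rw [Units.val_inv_eq_inv_val, Units.val_mk0, inv_inv] at h
  rw [← h, F.del_bot, F.dlt_kc_mul, F.del_bot, Units.val_inv_eq_inv_val, Units.val_mk0, inv_pow,
    inv_mul_eq_div]

/-- `g₀ = z_δ g` -/
def g0 (g : SL2 L) : SL2 L := zc (F.dlt g) * g

theorem bot_g0 (g : SL2 L) : bot (F.g0 g) = bot g := bot_zc_mul _ _

theorem top_g0 (g : SL2 L) : top (F.g0 g) = top g + F.del (bot g) • bot g := by
  rw [g0, top_zc_mul, F.del_bot]

theorem g0_g0 (g : SL2 L) : F.g0 (F.g0 g) = g := by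
  rw [g0, g0, F.dlt_zc_mul, ← mul_assoc, zc_self, one_mul]

end Square

end Frame

end CfsgLib.RankOneRecog.Unitary
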