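import Cfsg.Agent.Lib.RankOneRecog.Paired
import Cfsg.Agent.Lib.RankOneRecog.Line
import Cfsg.Agent.Lib.RankOneRecog.Unitary.Frame

/-!
Existence of the data of the case `|Q| = q ^ 3`: the copy of `SL₂` and a point off its orbit.
-/

set_option autoImplicit false

noncomputable section

namespace CfsgLib.RankOneRecog.Unitary

open CfsgLib.RankOneInvol CfsgLib.RankOneTwo
open MulAction (stabilizer)

universe u v

variable {G : Type u} {Ω : Type v} [Group G] [Finite G] [MulAction G Ω] [FaithfulSMul G Ω] {a : Ω} {t : G}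
  {Q : Subgroup G}

/-- **a frame exists** if `Q` is non-abelian of order `q ^ 3` -/
theorem exists_frame (hS : Cfsg.IsRankOneSetup G Ω a t Q)
    (h2 : ∃ x y : G, x ≠ 1 ∧ y ≠ 1 ∧ x ≠ y ∧ x * x = 1 ∧ y * y = 1 ∧ x * y = y * x)
    (hna : ∃ x y : Q, x * y ≠ y * x) (hcard : Nat.card Q = Nat.card (Zsub G a) ^ 3) :
    ∃ (L : Type) (_ : Field L) (_ : Fintype L) (_ : CharP L 2),
      (∃ n, 2 ≤ n ∧ Fintype.card L = 2 ^ n) ∧ Fintype.card L = Nat.card (Zsub G a) ∧
      Nonempty (Frame a t Q L) := by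
  classical
  obtain ⟨L, iF, iT, iC, ι, hL, hn, hinj, hJ, hZ, hK⟩ :=
    exists_line hS h2 (exists_tst_of_cube hS h2 hna hcard)
  haveI := CfsgLib.RankOneInvol.finite_omega hS
  obtain ⟨p0, hp0⟩ : ∃ p : Ω, ¬ InOrbit G a t p := by
    by_contra h
    push Not at h
    have hle : Nat.card Ω ≤ Nat.card (Option (Zsub G a)) := by
      refine Nat.card_le_card_of_surjective (fun o => o.elim a fun z => (z : G) • t • a) fun p => ?_
      rcases h p with rfl | ⟨z, hz, rfl⟩
      · exact ⟨none, rfl⟩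
      · exact ⟨some ⟨z, hz⟩, rfl⟩
    rw [Finite.card_option, CfsgLib.RankOne.card_omega hS, hcard] at hle
    obtain ⟨n, hn2, hLn⟩ := hn
    have hq : 2 ≤ Nat.card (Zsub G a) := by
      rw [← hL, hLn]
      exact le_trans (by norm_num) (Nat.pow_le_pow_right two_pos hn2)
    generalize Nat.card (Zsub G a) = q at hle hq
    have h2q : 2 * q ≤ q ^ 3 := by
      calc 2 * q ≤ q * q := Nat.mul_le_mul_right q hq
        _ ≤ q * q * q := Nat.le_mul_of_pos_right _ (by omega)
        _ = q ^ 3 := by ring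
    omega
  exact ⟨L, iF, iT, iC, hn, hL,
    ⟨⟨hS, h2, ι, hinj, hJ, hZ, hK, hna, hcard, p0, hp0⟩⟩⟩

end CfsgLib.RankOneRecog.Unitary
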