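import Mathlib

/-!
The field computations of the recognition of the three-dimensional unitary groups in characteristic two.

`F` has `q ^ 2` elements, the conjugate of `x` is `x ^ q`, `Φ` and `c` are functions of the class of
a nonzero element modulo the fixed field, and `c` takes fixed nonzero values.
-/

set_option autoImplicit false
set_option linter.style.haveILetI false
set_option linter.unusedSectionVars false

namespace CfsgLib.RankOneRecog.Unitary

variable {F : Type*} [Field F]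

/-- The alternating form `P^q B + P B^q`. -/
def detF (q : ℕ) (P B : F) : F := P ^ q * B + P * B ^ q

/-- The point attached to `P`, `B` and the value `k` at `P`. -/
def ptA (q : ℕ) (k P B : F) : F := B / detF q P B + k / P ^ q

/-- The hypotheses on the class functions `Φ` and `c`. -/
structure FieldData (q f : ℕ) {A : Type*} [CommGroup A] (Φ : F → A) (c : F → F) (ρ : F) : Prop where
  card : Nat.card F = q ^ 2
  q_eq : q = 2 ^ f
  f_two : 2 ≤ f
  phi_real : ∀ x l : F, x ≠ 0 → l ≠ 0 → l ^ q = l → Φ (l * x) = Φ x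
  c_scale : ∀ x l : F, x ≠ 0 → l ≠ 0 → l ^ q = l → c (l * x) = c x
  c_fixed : ∀ x : F, x ≠ 0 → c x ^ q = c x
  c_ne : ∀ x : F, x ≠ 0 → c x ≠ 0
  rho_ne : ρ ≠ 1
  rho_pow : ρ ^ (q + 1) = 1
  phi_rho : ∀ x : F, x ≠ 0 → Φ (ρ * x) = Φ x
  c_rho : ∀ x : F, x ≠ 0 → c (ρ * x) = c x
  hrefl : ∀ P B : F, detF q P B ≠ 0 → Φ (ptA q (c P) P B) * Φ B = Φ P ^ 2
  hc : ∀ P B : F, detF q P B ≠ 0 → Φ P = Φ B → c P + c B + c (ptA q (c P) P B) = 1

section

variable {A : Type*} [CommGroup A] {q f : ℕ} {Φ : F → A} {c : F → F} {ρ : F} (h : FieldData q f Φ c ρ)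

include h in
theorem FieldData.finite : Finite F :=
  Nat.finite_of_card_ne_zero (by rw [h.card, h.q_eq]; positivity)

variable [CharP F 2]

theorem two_eq_zero : (2 : F) = 0 := CharTwo.two_eq_zero

include h in
theorem FieldData.bar_add (x y : F) : (x + y) ^ q = x ^ q + y ^ q := by
  haveI : Fact (Nat.Prime 2) := ⟨Nat.prime_two⟩
  rw [h.q_eq]
  exact add_pow_char_pow x y 2 f

include h in
theorem FieldData.bar_bar (x : F) : (x ^ q) ^ q = x := by
  haveI := h.finite
  haveI := Fintype.ofFinite F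
  rw [← pow_mul, ← sq, ← h.card, Nat.card_eq_fintype_card, FiniteField.pow_card]

include h in
theorem FieldData.detF_real (P B : F) : detF q P B ^ q = detF q P B := by
  unfold detF
  rw [h.bar_add, mul_pow, mul_pow, h.bar_bar, h.bar_bar, add_comm]

theorem ne_zero_of_detF {P B : F} (hq : q ≠ 0) (hu : detF q P B ≠ 0) : P ≠ 0 ∧ B ≠ 0 := by
  constructor <;> rintro rfl <;> simp [detF, zero_pow hq] at hu

include h in
theorem FieldData.q_ne : q ≠ 0 := by rw [h.q_eq]; positivity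

/-- With value `1` at `P`, the point is `P ^ 2 / B` up to a fixed scalar. -/
theorem ptA_one {P B : F} (hP : P ≠ 0) (hB : B ≠ 0) (hu : detF q P B ≠ 0) :
    ptA q 1 P B = B ^ (q + 1) / (detF q P B * P ^ (q + 1)) * (P ^ 2 / B) := by
  have h2 : (2 : F) = 0 := two_eq_zero
  have hPq : P ^ q ≠ 0 := pow_ne_zero _ hP
  unfold ptA
  unfold detF at hu ⊢
  have e : B ^ (q + 1) / ((P ^ q * B + P * B ^ q) * P ^ (q + 1)) * (P ^ 2 / B) =
      P * B ^ q / ((P ^ q * B + P * B ^ q) * P ^ q) := by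
    rw [div_mul_div_comm, div_eq_div_iff (mul_ne_zero (mul_ne_zero hu (pow_ne_zero _ hP)) hB)
      (mul_ne_zero hu hPq)]
    ring
  rw [e, div_add_div _ _ hu hPq, div_eq_div_iff (mul_ne_zero hu hPq) (mul_ne_zero hu hPq)]
  linear_combination (B * P ^ q * ((P ^ q * B + P * B ^ q) * P ^ q)) * h2

include h in
theorem FieldData.scalar_ne {P B : F} (hu : detF q P B ≠ 0) :
    B ^ (q + 1) / (detF q P B * P ^ (q + 1)) ≠ 0 ∧
      (B ^ (q + 1) / (detF q P B * P ^ (q + 1))) ^ q = B ^ (q + 1) / (detF q P B * P ^ (q + 1)) := by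
  obtain ⟨hP, hB⟩ := ne_zero_of_detF h.q_ne hu
  refine ⟨div_ne_zero (pow_ne_zero _ hB) (mul_ne_zero hu (pow_ne_zero _ hP)), ?_⟩
  have e : ∀ x : F, (x ^ (q + 1)) ^ q = x ^ (q + 1) := fun x => by
    rw [pow_succ, mul_pow, h.bar_bar, mul_comm]
  rw [div_pow, mul_pow, e, e, h.detF_real]

include h in
theorem FieldData.exists_scale {x y : F} (hx : x ≠ 0) (hy : y ≠ 0) (hu : detF q x y = 0) :
    (y / x) ≠ 0 ∧ (y / x) ^ q = y / x := by
  refine ⟨div_ne_zero hy hx, ?_⟩
  have hxq : x ^ q ≠ 0 := pow_ne_zero _ hx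
  have h2 : (2 : F) = 0 := two_eq_zero
  rw [div_pow, div_eq_div_iff hxq hx]
  unfold detF at hu
  linear_combination hu - (x ^ q * y) * h2

/-- The reflection at a point of value `1` -/
theorem FieldData.refl_one {z x : F} (h : FieldData q f Φ c ρ) (hz : z ≠ 0) (hx : x ≠ 0) (hz1 : c z = 1) :
    Φ (z ^ 2 / x) * Φ x = Φ z ^ 2 ∧ (Φ z = Φ x → c (z ^ 2 / x) = c x) := by
  have hne : z ^ 2 / x ≠ 0 := div_ne_zero (pow_ne_zero _ hz) hx
  by_cases hu : detF q z x = 0
  · obtain ⟨hl, hlr⟩ := h.exists_scale hz hx hu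
    obtain ⟨e1, e2⟩ : z / x ≠ 0 ∧ (z / x) ^ q = z / x := by
      refine ⟨div_ne_zero hz hx, ?_⟩
      rw [← inv_div x z, inv_pow, hlr]
    have ex : Φ x = Φ z := by
      conv_lhs => rw [show x = x / z * z by field_simp]
      exact h.phi_real z _ hz hl hlr
    have ec : c x = c z := by
      conv_lhs => rw [show x = x / z * z by field_simp]
      exact h.c_scale z _ hz hl hlr
    have e : z ^ 2 / x = z / x * z := by field_simp
    rw [e, h.phi_real z _ hz e1 e2, h.c_scale z _ hz e1 e2, ex, ec, sq]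
    exact ⟨rfl, fun _ => rfl⟩
  · obtain ⟨hl, hlr⟩ := h.scalar_ne hu
    have e := ptA_one hz hx hu
    have h1 := h.hrefl z x hu
    rw [hz1, e, h.phi_real _ _ hne hl hlr] at h1
    refine ⟨h1, fun hΦ => ?_⟩
    have h2 := h.hc z x hu hΦ
    rw [hz1, e, h.c_scale _ _ hne hl hlr] at h2
    have h3 : (2 : F) = 0 := two_eq_zero
    linear_combination h2 - (c x) * h3

/-- The multiplier preserves the fibre of `a` and `c` on it. -/
def Keeps (Φ : F → A) (c : F → F) (a : A) (t : F) : Prop :=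
  t ≠ 0 ∧ ∀ x : F, x ≠ 0 → Φ x = a → Φ (t * x) = a ∧ c (t * x) = c x

theorem Keeps.mul {a : A} {s t : F} (hs : Keeps Φ c a s) (ht : Keeps Φ c a t) : Keeps Φ c a (s * t) := by
  refine ⟨mul_ne_zero hs.1 ht.1, fun x hx hxa => ?_⟩
  obtain ⟨h1, h2⟩ := ht.2 x hx hxa
  obtain ⟨h3, h4⟩ := hs.2 _ (mul_ne_zero ht.1 hx) h1
  rw [mul_assoc]
  exact ⟨h3, h4.trans h2⟩

theorem Keeps.pow {a : A} {t : F} (ht : Keeps Φ c a t) : ∀ n : ℕ, Keeps Φ c a (t ^ n)
  | 0 => ⟨by simp, fun x _ hxa => by simp [hxa]⟩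
  | n + 1 => by rw [pow_succ]; exact (Keeps.pow ht n).mul ht

include h in
/-- Two points of value `1` in a fibre give a multiplier. -/
theorem FieldData.keeps_sq {a : A} {z z' : F} (hz : z ≠ 0) (hz' : z' ≠ 0) (ha : Φ z = a) (ha' : Φ z' = a)
    (h1 : c z = 1) (h1' : c z' = 1) : Keeps Φ c a ((z / z') ^ 2) := by
  refine ⟨pow_ne_zero _ (div_ne_zero hz hz'), fun x hx hxa => ?_⟩
  obtain ⟨p1, p2⟩ := h.refl_one hz' hx h1'
  rw [ha', hxa, sq a, mul_right_cancel_iff] at p1
  have hx' : z' ^ 2 / x ≠ 0 := div_ne_zero (pow_ne_zero _ hz') hx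
  obtain ⟨r1, r2⟩ := h.refl_one hz hx' h1
  rw [ha, p1, sq a, mul_right_cancel_iff] at r1
  have e : z ^ 2 / (z' ^ 2 / x) = (z / z') ^ 2 * x := by field_simp
  rw [e] at r1 r2
  exact ⟨r1, (r2 (ha.trans p1.symm)).trans (p2 (ha'.trans hxa.symm))⟩

include h in
theorem FieldData.rho_inv : ρ ≠ 0 ∧ ρ ^ q * ρ = 1 ∧ ρ + ρ ^ q ≠ 0 := by
  have hρ : ρ ≠ 0 := fun e => by simpa [e] using h.rho_pow
  have e : ρ ^ q * ρ = 1 := by rw [← pow_succ, h.rho_pow]
  refine ⟨hρ, e, fun e' => h.rho_ne ?_⟩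
  have e2 : ρ ^ q = ρ := (CharTwo.add_eq_zero.1 e').symm
  rw [e2] at e
  exact (CharTwo.sq_injective (R := F)) (by simpa [sq] using e)

include h in
/-- The function `c` is `1`. -/
theorem FieldData.c_eq_one {x : F} (hx : x ≠ 0) : c x = 1 := by
  by_contra hk
  obtain ⟨hρ, hρq, hρs⟩ := h.rho_inv
  set a := Φ x with ha
  set k := c x with hk0
  -- `ρ` and its conjugate keep the fibre
  have hkeep : Keeps Φ c a ρ := ⟨hρ, fun y hy hya => ⟨(h.phi_rho y hy).trans hya, h.c_rho y hy⟩⟩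
  have hxq : x ^ q ≠ 0 := pow_ne_zero _ hx
  have hqq : (ρ ^ q) ^ q = ρ := h.bar_bar ρ
  have hzero : ∀ s : F, Keeps Φ c a s → detF q x (s * x) ≠ 0 →
      Φ (ptA q k x (s * x)) = a ∧ c (ptA q k x (s * x)) = 1 := by
    intro s hs hu
    obtain ⟨e1, e2⟩ := hs.2 x hx rfl
    have h1 := h.hrefl x (s * x) hu
    rw [e1, sq, mul_right_cancel_iff] at h1
    have h2 := h.hc x (s * x) hu e1.symm
    rw [e2] at h2
    have h3 : (2 : F) = 0 := two_eq_zero
    exact ⟨h1, by linear_combination h2 - k * h3⟩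
  have hu1 : detF q x (ρ * x) = x ^ q * x * (ρ + ρ ^ q) := by unfold detF; rw [mul_pow]; ring
  have hu2 : detF q x (ρ ^ q * x) = x ^ q * x * (ρ + ρ ^ q) := by
    unfold detF; rw [mul_pow, hqq]; ring
  have hu : x ^ q * x * (ρ + ρ ^ q) ≠ 0 := mul_ne_zero (mul_ne_zero hxq hx) hρs
  obtain ⟨a1, c1⟩ := hzero ρ hkeep (hu1 ▸ hu)
  obtain ⟨a2, c2⟩ := hzero (ρ ^ q) (hkeep.pow q) (hu2 ▸ hu)
  set Y := ρ / (ρ + ρ ^ q) with hY
  have hsum : (ρ + ρ ^ q) ^ q = ρ + ρ ^ q := by rw [h.bar_add, hqq, add_comm]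
  have hYq : Y ^ q = ρ ^ q / (ρ + ρ ^ q) := by rw [hY, div_pow, hsum]
  have eA1 : ptA q k x (ρ * x) = (Y + k) / x ^ q := by
    unfold ptA; rw [hu1, hY]; field_simp
  have eA2 : ptA q k x (ρ ^ q * x) = (Y + k) ^ q / x ^ q := by
    unfold ptA; rw [hu2, h.bar_add, hYq, hk0, h.c_fixed x hx]; field_simp
  have hYk : Y + k ≠ 0 := by
    intro e
    have hyk : Y = k := CharTwo.add_eq_zero.1 e
    have hρe : ρ = k * (ρ + ρ ^ q) := by rw [← hyk, hY]; field_simp
    have : ρ ^ q = ρ := by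
      conv_lhs => rw [hρe, mul_pow, hsum, hk0, h.c_fixed x hx]
      exact hρe.symm
    exact hρs (by rw [this]; exact CharTwo.add_self_eq_zero ρ)
  set z := ptA q k x (ρ * x) with hz
  set z' := ptA q k x (ρ ^ q * x) with hz'
  have hz0 : z ≠ 0 := by rw [eA1]; exact div_ne_zero hYk hxq
  have hz0' : z' ≠ 0 := by rw [eA2]; exact div_ne_zero (pow_ne_zero _ hYk) hxq
  -- `z * z'` is a fixed multiple of `x ^ 2`
  set l := (Y + k) ^ (q + 1) / (x ^ (q + 1)) ^ 2 with hl
  have hl0 : l ≠ 0 := div_ne_zero (pow_ne_zero _ hYk) (pow_ne_zero _ (pow_ne_zero _ hx))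
  have hnorm : ∀ w : F, (w ^ (q + 1)) ^ q = w ^ (q + 1) := fun w => by
    rw [pow_succ, mul_pow, h.bar_bar, mul_comm]
  have hlq : l ^ q = l := by rw [hl, div_pow, hnorm, ← pow_mul, mul_comm 2 q, pow_mul, hnorm]
  have hprod : z * z' = l * x ^ 2 := by
    rw [eA1, eA2, hl]; field_simp; ring
  -- `(z / x) ^ 4` keeps the fibre
  have hl2 : Keeps Φ c a (l ^ 2) := by
    refine ⟨pow_ne_zero _ hl0, fun y hy hya => ?_⟩
    have e : (l ^ 2) ^ q = l ^ 2 := by rw [← pow_mul, mul_comm, pow_mul, hlq]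
    exact ⟨(h.phi_real y _ hy (pow_ne_zero _ hl0) e).trans hya, h.c_scale y _ hy (pow_ne_zero _ hl0) e⟩
  have hm : Keeps Φ c a ((z / x) ^ 4) := by
    have := hl2.mul (h.keeps_sq hz0 hz0' a1 a2 c1 c2)
    convert this using 1
    have e : z' = l * x ^ 2 / z := by rw [← hprod]; field_simp
    rw [e]
    field_simp
  have hm1 : Keeps Φ c a (z / x) := by
    haveI := h.finite
    haveI := Fintype.ofFinite F
    have h4 := hm.pow (q ^ 2 / 4)
    rwa [← pow_mul, Nat.mul_div_cancel' ?_, ← h.card, Nat.card_eq_fintype_card,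
      FiniteField.pow_card] at h4
    rw [h.q_eq, ← pow_mul]
    exact (show 4 = 2 ^ 2 by rfl) ▸ pow_dvd_pow 2 (by have := h.f_two; omega)
  obtain ⟨-, e⟩ := hm1.2 x hx rfl
  rw [div_mul_cancel₀ z hx, c1] at e
  exact hk e.symm

include h in
/-- With `c = 1` the map `Φ` is multiplicative up to a constant. -/
theorem FieldData.refl {P B : F} (hP : P ≠ 0) (hB : B ≠ 0) : Φ (P ^ 2 / B) * Φ B = Φ P ^ 2 :=
  (h.refl_one hP hB (h.c_eq_one hP)).1

include h in
/-- An automorphism valued homomorphism compatible with the reflections is trivial on the differences. -/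
theorem FieldData.tau_eq_one (τ : A →* (F ≃+* F))
    (hτ : ∀ P B : F, detF q P B ≠ 0 → τ ((Φ P)⁻¹ * Φ B) (B * P ^ q / detF q P B) = B * P ^ q / detF q P B)
    {P B : F} (hP : P ≠ 0) (hB : B ≠ 0) : τ ((Φ P)⁻¹ * Φ B) = 1 := by
  haveI := h.finite
  haveI := Fintype.ofFinite F
  obtain ⟨g, hg⟩ := IsCyclic.exists_generator (α := Fˣ)
  set d := (Φ 1)⁻¹ * Φ (g : F) with hd
  -- `Φ (g ^ i)` is `Φ 1 * d ^ i`
  have hseq : ∀ i : ℕ, Φ ((g : F) ^ i) = Φ 1 * d ^ i ∧ Φ ((g : F) ^ (i + 1)) = Φ 1 * d ^ (i + 1) := by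
    intro i
    induction i with
    | zero => exact ⟨by simp, by simp [hd]⟩
    | succ i ih =>
      refine ⟨ih.2, ?_⟩
      have := h.refl (pow_ne_zero (i + 1) g.ne_zero) (pow_ne_zero i g.ne_zero)
      rw [show ((g : F) ^ (i + 1)) ^ 2 / (g : F) ^ i = (g : F) ^ (i + 1 + 1) by
        rw [div_eq_iff (pow_ne_zero i g.ne_zero), ← pow_mul, ← pow_add]; congr 1; ring, ih.1, ih.2] at this
      refine mul_right_cancel (this.trans ?_)
      rw [pow_succ d (i + 1), pow_succ d i, sq]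
      simp [mul_comm, mul_left_comm]
  have hpow : ∀ x : F, x ≠ 0 → ∃ i : ℕ, x = (g : F) ^ i := by
    intro x hx
    obtain ⟨i, hi⟩ := (mem_powers_iff_mem_zpowers (x := g)).2 (hg (Units.mk0 x hx))
    exact ⟨i, by simpa using (congrArg Units.val hi).symm⟩
  -- `τ d` fixes an element of order `q + 1`
  have hord : orderOf g = q ^ 2 - 1 := by
    rw [orderOf_eq_card_of_forall_mem_zpowers hg, Nat.card_units, h.card]
  have hq4 : 4 ≤ q := by
    rw [h.q_eq]
    exact (show 4 = 2 ^ 2 by rfl) ▸ Nat.pow_le_pow_right (by norm_num) h.f_two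
  have hu : detF q 1 (g : F) ≠ 0 := by
    intro e
    unfold detF at e
    rw [one_pow, one_mul, one_mul] at e
    have h1 : g ^ (q - 1) = 1 := by
      have e2 : (g : F) ^ q = (g : F) := (CharTwo.add_eq_zero.1 e).symm
      have e3 : g ^ (q - 1) * g = 1 * g := by
        rw [← pow_succ, one_mul, show q - 1 + 1 = q by omega]
        exact Units.ext (by rw [Units.val_pow_eq_pow_val]; exact e2)
      exact mul_right_cancel e3
    have h2 := orderOf_dvd_of_pow_eq_one h1
    rw [hord] at h2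
    have h3 := Nat.le_of_dvd (by omega) h2
    have : 4 * q ≤ q ^ 2 := by rw [sq]; exact Nat.mul_le_mul_right q hq4
    omega
  set Y := (g : F) / detF q 1 (g : F) with hY
  have hfix : τ d Y = Y := by
    have := hτ 1 (g : F) hu
    simpa [hY, hd] using this
  have hY1 : τ d (Y + 1) = Y + 1 := by rw [map_add, hfix, map_one]
  set y := Y / (Y + 1) with hy
  have hyfix : τ d y = y := by rw [hy, map_div₀, hfix, hY1]
  have hyval : y = (g : F) / (g : F) ^ q := by
    have h2 : (2 : F) = 0 := two_eq_zero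
    have e : Y + 1 = (g : F) ^ q / detF q 1 (g : F) := by
      rw [hY, div_add_one hu]
      congr 1
      unfold detF
      rw [one_pow]
      linear_combination (g : F) * h2
    rw [hy, e, hY, div_div_div_cancel_right₀ hu]
  -- so it is trivial
  let K : Subfield F := RingHom.eqLocusField (τ d).toRingHom (RingHom.id F)
  have hyK : y ∈ K := hyfix
  haveI := Fintype.ofFinite K
  have hK1 : ((q + 1 : ℕ)) ≤ Nat.card K - 1 := by
    have hy0 : (⟨y, hyK⟩ : K) ≠ 0 := fun e => by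
      have e' : y = 0 := congrArg Subtype.val e
      rw [hyval] at e'
      exact div_ne_zero g.ne_zero (pow_ne_zero _ g.ne_zero) e'
    have h1 := FiniteField.pow_card_sub_one_eq_one (⟨y, hyK⟩ : K) hy0
    rw [← Nat.card_eq_fintype_card] at h1
    have h2 : y ^ (Nat.card K - 1) = 1 := by simpa using congrArg Subtype.val h1
    have hpos : 0 < Nat.card K - 1 := by
      have := Finite.one_lt_card (α := K)
      omega
    have hy' : y = (((g ^ (q - 1))⁻¹ : Fˣ) : F) := by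
      rw [hyval, Units.val_inv_eq_inv_val, Units.val_pow_eq_pow_val]
      have : (g : F) ^ q = (g : F) ^ (q - 1) * g := by rw [← pow_succ, show q - 1 + 1 = q by omega]
      rw [this]
      field_simp
    have h3 : (g ^ (q - 1)) ^ (Nat.card K - 1) = 1 := by
      have : ((g ^ (q - 1))⁻¹) ^ (Nat.card K - 1) = 1 :=
        Units.ext (by rw [Units.val_pow_eq_pow_val, ← hy', h2]; rfl)
      rwa [inv_pow, inv_eq_one] at this
    rw [← pow_mul] at h3
    have h4 := orderOf_dvd_of_pow_eq_one h3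
    rw [hord, show q ^ 2 - 1 = (q - 1) * (q + 1) by
      obtain ⟨r, rfl⟩ : ∃ r, q = r + 1 := ⟨q - 1, by omega⟩
      simp only [Nat.add_sub_cancel]; ring_nf; omega] at h4
    exact Nat.le_of_dvd hpos ((Nat.mul_dvd_mul_iff_left (by omega)).1 h4)
  have hK2 : Nat.card F = Nat.card K ^ Module.finrank K F := Module.natCard_eq_pow_finrank
  have hKtop : K = ⊤ := by
    by_contra hne
    have hfr : 2 ≤ Module.finrank K F := by
      by_contra hlt
      have h1 : 0 < Module.finrank K F := Module.finrank_pos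
      have h2 : Module.finrank K F = 1 := by omega
      refine hne (SetLike.coe_injective ?_)
      rw [h2, pow_one] at hK2
      exact Set.eq_of_subset_of_ncard_le (Set.subset_univ _)
        (by rw [Subfield.coe_top, Set.ncard_univ, hK2]; exact le_of_eq (Nat.card_coe_set_eq _))
    have : (q + 1) ^ 2 ≤ q ^ 2 := by
      rw [← h.card, hK2]
      exact (Nat.pow_le_pow_left (by omega) 2).trans (Nat.pow_le_pow_right Nat.card_pos hfr)
    nlinarith
  have hd1 : τ d = 1 := RingEquiv.ext fun x => (show x ∈ K by rw [hKtop]; trivial)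
  obtain ⟨i, rfl⟩ := hpow P hP
  obtain ⟨j, rfl⟩ := hpow B hB
  rw [(hseq i).1, (hseq j).1, map_mul, map_inv, map_mul, map_mul, map_pow, map_pow, hd1]
  simp

end

/-- No four pairwise independent vectors of the plane pairwise satisfy `δ δ' det ^ 2 = 1`. -/
theorem no_four {L : Type*} [Field L] [CharP L 2] [Finite L] (r : Fin 4 → Fin 2 → L) (δ : Fin 4 → L)
    (h : ∀ i j, i ≠ j → δ i * δ j * (r i 0 * r j 1 + r i 1 * r j 0) ^ 2 = 1) : False := by
  have hs : ∀ i, ∃ s : L, s ^ 2 = δ i := fun i => by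
    obtain ⟨s, hs⟩ := FiniteField.isSquare_of_char_two (ringChar.eq L 2) (δ i)
    exact ⟨s, by rw [hs, sq]⟩
  choose s hs using hs
  have key : ∀ i j, i ≠ j → s i * s j * (r i 0 * r j 1 + r i 1 * r j 0) = 1 := fun i j hij =>
    (CharTwo.sq_injective (R := L)) (by
      show (s i * s j * _) ^ 2 = 1 ^ 2
      rw [mul_pow, mul_pow, hs, hs, one_pow]
      exact h i j hij)
  have h2 : (2 : L) = 0 := CharTwo.two_eq_zero
  have e01 := key 0 1 (by decide)
  have e02 := key 0 2 (by decide)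
  have e03 := key 0 3 (by decide)
  have e12 := key 1 2 (by decide)
  have e13 := key 1 3 (by decide)
  have e23 := key 2 3 (by decide)
  have p1 := congrArg₂ (· * ·) e01 e23
  have p2 := congrArg₂ (· * ·) e02 e13
  have p3 := congrArg₂ (· * ·) e03 e12
  apply (one_ne_zero : (1 : L) ≠ 0)
  linear_combination -(p1 + p2 + p3) + (s 0 * s 1 * s 2 * s 3 *
    (r 0 0 * r 1 0 * r 2 1 * r 3 1 + r 0 0 * r 2 0 * r 1 1 * r 3 1 + r 0 0 * r 3 0 * r 1 1 * r 2 1 +
      r 0 1 * r 1 1 * r 2 0 * r 3 0 + r 0 1 * r 2 1 * r 1 0 * r 3 0 + r 0 1 * r 3 1 * r 1 0 * r 2 0) - 1) * h2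

end CfsgLib.RankOneRecog.Unitary
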