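import Cfsg.Agent.Lib.RankOneRecog.Unitary.Frame

/-!
The Bruhat decomposition of the conjugates of the labelled elements under `t`, and the equations it
gives.
-/

set_option autoImplicit false

noncomputable section

namespace CfsgLib.RankOneRecog.Unitary

open CfsgLib.RankOneInvol CfsgLib.RankOneTwo
open MulAction (stabilizer mem_stabilizer_iff)

universe u v

variable {G : Type u} {Ω : Type v} [Group G] [MulAction G Ω] [Finite G] [FaithfulSMul G Ω]
  {a : Ω} {t : G} {Q : Subgroup G} {L : Type} [Field L] [Fintype L] [CharP L 2]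

namespace Frame

variable (F : Frame a t Q L)
include F

theorem lab_inv' (g : SL2 L) : (F.lab g)⁻¹ = F.lab (F.g0 g) := F.lab_inv g

theorem ι_Jm_smul_p0 (g : SL2 L) : t • F.ι g • F.p0 = F.ι (Jm * g) • F.p0 := by
  rw [map_mul, F.ι_J, mul_smul]

/-- the middle factor of the decomposition of `t x t` -/
def hh (g : SL2 L) : G := (F.lab (Jm * g))⁻¹ * t * F.lab g * t * F.lab (Jm * F.g0 g) * t

theorem hh_mem (g : SL2 L) : F.hh g ∈ twoPt G a t := by
  have hS := F.setup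
  have hq : ∀ g : SL2 L, (F.lab g)⁻¹ • a = a := fun g => Q_smul hS (Q.inv_mem (F.lab_mem g))
  refine mem_twoPt.2 ⟨?_, ?_⟩
  · simp only [hh, mul_smul]
    rw [F.lab_spec, F.ι_Jm_smul_p0, ← mul_assoc Jm, Jm_sq, one_mul, ← F.lab_spec, ← F.lab_inv',
      smul_inv_smul, t_smul_smul hS, hq]
  · simp only [hh, mul_smul]
    rw [t_smul_smul hS, Q_smul hS (F.lab_mem _), F.lab_spec, F.ι_Jm_smul_p0, ← F.lab_spec,
      inv_smul_smul]

theorem t_lab_t (g : SL2 L) :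
    t * F.lab g * t = F.lab (Jm * g) * F.hh g * t * (F.lab (Jm * F.g0 g))⁻¹ := by
  have h : F.lab (Jm * g) * F.hh g * t * (F.lab (Jm * F.g0 g))⁻¹ =
      t * F.lab g * t * F.lab (Jm * F.g0 g) * (t * t) * (F.lab (Jm * F.g0 g))⁻¹ := by
    rw [hh]; group
  rw [h, F.setup.mul_self, mul_one, mul_inv_cancel_right]

theorem hh_unique {g : SL2 L} {q q' d : G} (hq : q ∈ Q) (hq' : q' ∈ Q) (hd : d ∈ twoPt G a t)
    (h : t * F.lab g * t = q * d * t * q') : d = F.hh g :=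
  (canonical_unique F.setup hq (F.lab_mem (Jm * g)) hd (F.hh_mem g) hq' (Q.inv_mem (F.lab_mem _))
    (h.symm.trans (F.t_lab_t g))).2.1

/-- `h` of the label of the inverse -/
theorem hh_g0 (g : SL2 L) : F.hh (F.g0 g) = t * (F.hh g)⁻¹ * t := by
  refine (F.hh_unique (q := F.lab (Jm * F.g0 g)) (q' := (F.lab (Jm * g))⁻¹) (F.lab_mem _)
    (Q.inv_mem (F.lab_mem _)) (conj_t_twoPt F.setup (inv_mem (F.hh_mem g))) ?_).symm
  have e := congrArg (·⁻¹) (F.t_lab_t g)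
  simp only [mul_inv_rev, t_inv F.setup, inv_inv] at e
  rw [F.lab_inv' g] at e
  rw [mul_assoc t, e]
  simp only [mul_assoc]
  rw [← mul_assoc t t, F.setup.mul_self, one_mul]

/-- `h` of `J g` -/
theorem hh_Jm (g : SL2 L) : F.hh (Jm * g) = (F.hh g)⁻¹ := by
  set y := F.lab (Jm * F.g0 g)
  set e := t * (F.hh g)⁻¹ * t with he
  have hed : e ∈ twoPt G a t := conj_t_twoPt F.setup (inv_mem (F.hh_mem g))
  refine (F.hh_unique (q := F.lab g) (q' := e⁻¹⁻¹⁻¹ * y * e) (F.lab_mem _) ?_ (inv_mem (F.hh_mem g)) ?_).symm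
  · rw [inv_inv]
    have := Q_conj F.setup (mem_twoPt.1 (inv_mem hed)).1 (F.lab_mem (Jm * F.g0 g))
    rwa [inv_inv] at this
  · have h1 : F.lab (Jm * g) = t * F.lab g * t * y * t * (F.hh g)⁻¹ := by
      rw [F.t_lab_t g]
      simp only [mul_assoc, y]
      rw [inv_mul_cancel_left, ← mul_assoc t t, F.setup.mul_self, one_mul, mul_inv_cancel, mul_one]
    rw [h1]
    simp only [mul_assoc, inv_inv, he, mul_inv_rev, t_inv F.setup]
    simp only [← mul_assoc, F.setup.mul_self, one_mul]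
    simp only [mul_assoc, F.setup.mul_self, mul_one]
    simp only [← mul_assoc]
    simp only [mul_assoc, inv_mul_cancel_left, F.setup.mul_self, mul_one]

/-- the point `X` attached to `g` and `u` -/
def pX (g : SL2 L) (u : L) : SL2 L := Jm * zc (u⁻¹ + F.del (top (F.g0 g))) * Jm * F.g0 g

theorem top_pX (g : SL2 L) (u : L) : top (F.pX g u) = top (F.g0 g) := by
  simp only [pX, mul_assoc, top_Jm_mul, bot_zc_mul, bot_Jm_mul]

theorem bot_pX (g : SL2 L) (u : L) :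
    bot (F.pX g u) = bot g + (u⁻¹ + F.del (top (F.g0 g))) • top (F.g0 g) := by
  simp only [pX, mul_assoc, bot_Jm_mul, top_zc_mul, top_Jm_mul, bot_g0]

/-- equation (a) -/
theorem eq_a (g : SL2 L) {u : L} (hu : u ≠ 0) :
    (F.lab (Jm * g))⁻¹ * F.lab (Jm * (zc u * g)) = F.hh g * F.lab (F.pX g u) * (F.hh g)⁻¹ := by
  have hS := F.setup
  have hhD := mem_twoPt.1 (F.hh_mem g)
  refine Q_inj hS (Q.mul_mem (Q.inv_mem (F.lab_mem _)) (F.lab_mem _))
    (Q_conj hS hhD.1 (F.lab_mem _)) ?_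
  rw [mul_smul, mul_smul (F.hh g * _), inv_smul_eq_iff.2 hhD.2.symm, hh]
  simp only [mul_smul]
  rw [F.lab_spec (F.pX g u), F.ι_Jm_smul_p0]
  have hX : Jm * F.pX g u = zc (u⁻¹ + F.del (top (F.g0 g))) * (Jm * F.g0 g) := by
    simp only [pX, ← mul_assoc, Jm_sq, one_mul]
  rw [hX, ← F.lab_spec, smul_smul (F.lab (Jm * F.g0 g)), F.lab_zc_mul,
    ← mul_assoc (F.lab (Jm * F.g0 g)), ← F.zc_comm _ (F.lab_mem _), mul_assoc, ← F.dlt_spec, ← F.del_bot, bot_Jm_mul, ← map_mul, ← zc_add,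
    add_assoc, CharTwo.add_self_eq_zero, add_zero]
  have hmid : t • F.ι (zc u⁻¹) • t • a = F.ι (zc u) • t • a := by
    have h := congrArg F.ι (Jm_zc_Jm (inv_ne_zero hu))
    simp only [map_mul, F.ι_J, inv_inv] at h
    rw [← mul_smul, ← mul_smul, h]
    simp only [mul_smul]
    rw [Q_smul hS (F.zc_mem_Q _), (mem_twoPt.1 (F.kc_mem_twoPt _)).2]
  rw [hmid, smul_smul (F.lab g), ← F.zc_comm u (F.lab_mem g), ← F.lab_zc_mul, F.lab_spec (zc u * g),
    F.ι_Jm_smul_p0, F.lab_spec (Jm * (zc u * g))]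

theorem g0_zc_mul (u : L) (g : SL2 L) : F.g0 (zc u * g) = zc u * F.g0 g := by
  rw [g0, g0, F.dlt_zc_mul, ← mul_assoc, ← zc_add, add_comm, zc_add, mul_assoc]

theorem zc_zc_mul (u : L) (g : SL2 L) : zc u * (zc u * g) = g := by
  rw [← mul_assoc, zc_self, one_mul]

/-- equation (b) -/
theorem eq_b (g : SL2 L) {u : L} (hu : u ≠ 0) :
    ((F.hh g)⁻¹ * F.hh (zc u * g)) * F.lab (F.pX (zc u * g) u) * ((F.hh g)⁻¹ * F.hh (zc u * g))⁻¹ =
      F.lab (F.g0 (F.pX g u)) := by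
  have h1 := F.eq_a g hu
  have h2 := F.eq_a (zc u * g) hu
  rw [F.zc_zc_mul] at h2
  have h3 : F.hh (zc u * g) * F.lab (F.pX (zc u * g) u) * (F.hh (zc u * g))⁻¹ =
      (F.hh g * F.lab (F.pX g u) * (F.hh g)⁻¹)⁻¹ := by
    rw [← h1, ← h2, mul_inv_rev, inv_inv]
  rw [← F.lab_inv']
  calc _ = (F.hh g)⁻¹ * (F.hh (zc u * g) * F.lab (F.pX (zc u * g) u) * (F.hh (zc u * g))⁻¹) * F.hh g := by
        group
    _ = _ := by rw [h3]; group

/-- equation (c): the middle factor of `X` -/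
theorem eq_c (g : SL2 L) {u : L} (hu : u ≠ 0) :
    F.hh (F.pX g u) * ((F.hh g)⁻¹ * F.hh (zc u * g)) = F.ι (kc (Units.mk0 u⁻¹ (inv_ne_zero hu))) := by
  have hS := F.setup
  set X := F.pX g u
  set v := (F.hh g)⁻¹ * F.hh (zc u * g) with hv
  have hvD : v ∈ twoPt G a t := mul_mem (inv_mem (F.hh_mem g)) (F.hh_mem _)
  have hvt := conj_t_twoPt hS hvD
  set q2 := (F.lab (Jm * F.g0 (zc u * g)))⁻¹
  set w := t * v * t with hw
  have key : F.ι (zc u) = (F.lab g)⁻¹ * F.lab (zc u * g) := by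
    rw [F.lab_zc_mul, F.zc_comm u (F.lab_mem g), inv_mul_cancel_left]
  have lhs : t * F.ι (zc u) * t = F.ι (zc u⁻¹) * F.ι (kc (Units.mk0 u⁻¹ (inv_ne_zero hu))) * t *
      F.ι (zc u⁻¹) := by
    have h := congrArg F.ι (Jm_zc_Jm hu)
    simpa only [map_mul, F.ι_J] using h
  have rhs : t * F.ι (zc u) * t = (F.lab (Jm * F.g0 g) * F.lab (Jm * X)) * (F.hh X * v) * t *
      ((w⁻¹ * (F.lab (Jm * F.g0 X))⁻¹ * w) * q2) := by
    have e1 : t * (F.lab g)⁻¹ * t = F.lab (Jm * F.g0 g) * t * (F.hh g)⁻¹ * (F.lab (Jm * g))⁻¹ := by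
      have e := congrArg (·⁻¹) (F.t_lab_t g)
      simp only [mul_inv_rev, t_inv hS, inv_inv] at e
      rw [mul_assoc t, e]
      simp only [mul_assoc]
    have e2 := F.t_lab_t (zc u * g)
    have ha := F.eq_a g hu
    calc t * F.ι (zc u) * t = (t * (F.lab g)⁻¹ * t) * (t * F.lab (zc u * g) * t) := by
          rw [key, conj_t_mul hS]
      _ = F.lab (Jm * F.g0 g) * t * (F.hh g)⁻¹ *
            ((F.lab (Jm * g))⁻¹ * F.lab (Jm * (zc u * g))) * F.hh (zc u * g) * t * q2 := by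
          rw [e1, e2]; simp only [q2]; group
      _ = F.lab (Jm * F.g0 g) * (t * F.lab X * t) * (t * v * t) * q2 := by
          rw [ha]
          simp only [mul_assoc, hv, inv_mul_cancel_left]
          rw [← mul_assoc t t, hS.mul_self, one_mul]
      _ = _ := by
          rw [F.t_lab_t X]
          have e3 : t * w = v * t := by
            rw [hw, ← mul_assoc, ← mul_assoc, hS.mul_self, one_mul]
          calc F.lab (Jm * F.g0 g) * (F.lab (Jm * X) * F.hh X * t * (F.lab (Jm * F.g0 X))⁻¹) * (t * v * t) * q2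
              = F.lab (Jm * F.g0 g) * F.lab (Jm * X) * F.hh X * (t * w) *
                  (w⁻¹ * (F.lab (Jm * F.g0 X))⁻¹ * w * q2) := by rw [← hw]; group
            _ = _ := by rw [e3]; group
  have hq : w⁻¹ * (F.lab (Jm * F.g0 X))⁻¹ * w ∈ Q := by
    have := Q_conj hS (mem_twoPt.1 (inv_mem hvt)).1 (Q.inv_mem (F.lab_mem (Jm * F.g0 X)))
    rwa [inv_inv] at this
  exact ((canonical_unique hS (F.zc_mem_Q _) (Q.mul_mem (F.lab_mem _) (F.lab_mem _)) (F.kc_mem_twoPt _)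
    (mul_mem (F.hh_mem X) hvD) (F.zc_mem_Q _) (Q.mul_mem hq (Q.inv_mem (F.lab_mem _)))
    (lhs.symm.trans rhs)).2.1).symm

/-- `h` of `k g` -/
theorem hh_kc_mul (s : Lˣ) (g : SL2 L) :
    F.hh (kc s * g) = (F.ι (kc s))⁻¹ * F.hh g * (F.ι (kc s))⁻¹ := by
  have hS := F.setup
  set k := F.ι (kc s)
  have hk := F.kc_mem_twoPt s
  have htk : t * k = k⁻¹ * t := by
    rw [← F.ι_J, ← map_mul, Jm_kc, map_mul, ← kc_inv, map_inv]
  have hkt : k * t = t * k⁻¹ := by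
    calc k * t = k * (t * k) * k⁻¹ := by group
      _ = t * k⁻¹ := by rw [htk]; group
  refine (F.hh_unique (q := k⁻¹ * F.lab (Jm * g) * k) (q' := k⁻¹ * (F.lab (Jm * F.g0 g))⁻¹ * k⁻¹⁻¹) ?_ ?_
    (mul_mem (mul_mem (inv_mem hk) (F.hh_mem g)) (inv_mem hk)) ?_).symm
  · have := Q_conj hS (mem_twoPt.1 (inv_mem hk)).1 (F.lab_mem (Jm * g))
    rwa [inv_inv] at this
  · exact Q_conj hS (mem_twoPt.1 (inv_mem hk)).1 (Q.inv_mem (F.lab_mem _))
  · rw [F.lab_kc_mul, inv_inv]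
    calc t * (k * F.lab g * k⁻¹) * t = (t * k) * F.lab g * (k⁻¹ * t) := by group
      _ = k⁻¹ * (t * F.lab g * t) * k := by
          rw [← htk]; rw [show t * k * F.lab g = k⁻¹ * t * F.lab g by rw [htk]]; group
      _ = k⁻¹ * F.lab (Jm * g) * F.hh g * t * (F.lab (Jm * F.g0 g))⁻¹ * k := by rw [F.t_lab_t]; group
      _ = k⁻¹ * F.lab (Jm * g) * F.hh g * (k⁻¹ * t * k⁻¹) * (F.lab (Jm * F.g0 g))⁻¹ * k := by
          rw [mul_assoc k⁻¹ t k⁻¹, ← hkt, inv_mul_cancel_left]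
      _ = _ := by simp only [k]; group

end Frame

end CfsgLib.RankOneRecog.Unitary
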