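import Cfsg.Agent.Lib.RankOneRecog.Unitary.Conj
import Cfsg.Agent.Lib.RankOneRecog.Unitary.Algebra

/-!
The `V` component of the middle factors is the coboundary of a function on the projective line.
-/

set_option autoImplicit false

noncomputable section

namespace CfsgLib.RankOneRecog.Unitary

open CfsgLib.RankOneInvol CfsgLib.RankOneTwo
open MulAction (stabilizer mem_stabilizer_iff)

universe u v

section Rows

variable {L : Type} [Field L] [CharP L 2]

/-- the base row -/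
def bRow (L : Type) [Field L] : Row L := ![0, 1]

/-- two independent rows span -/
theorem det2_expand (B P α : Row L) : det2 P α • B = det2 B α • P + det2 P B • α := by
  funext i
  fin_cases i <;> simp [det2]
  · linear_combination (-(P 0 * α 0 * B 1)) * CharTwo.two_eq_zero (R := L)
  · linear_combination (-(P 1 * α 1 * B 0)) * CharTwo.two_eq_zero (R := L)

theorem ne_zero_of_det2 {P α : Row L} (h : det2 P α ≠ 0) : P ≠ 0 ∧ α ≠ 0 := by
  constructor <;> rintro rfl <;> simp [det2] at h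

theorem det2_eq_zero_trans {x y z : Row L} (hy : y ≠ 0) (h1 : det2 x y = 0) (h2 : det2 z y = 0) :
    det2 x z = 0 := by
  obtain ⟨c, rfl⟩ := exists_smul_of_det2_eq_zero hy h1
  obtain ⟨d, rfl⟩ := exists_smul_of_det2_eq_zero hy h2
  rw [det2_smul_left, det2_smul_right, det2_self, mul_zero, mul_zero]

end Rows

variable {G : Type u} {Ω : Type v} [Group G] [MulAction G Ω] [Finite G] [FaithfulSMul G Ω]
  {a : Ω} {t : G} {Q : Subgroup G} {L : Type} [Field L] [Fintype L] [CharP L 2]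

namespace Frame

variable (F : Frame a t Q L)
include F

/-- the `V` component of the middle factor -/
def gV (g : SL2 L) : Vsub G a t := F.vPart ⟨F.hh g, F.hh_mem g⟩

theorem g0_kc_mul (s : Lˣ) (g : SL2 L) : F.g0 (kc s * g) = kc s * F.g0 g := by
  rw [g0, g0, F.dlt_kc_mul, ← mul_assoc, ← mul_assoc, kc_zc]

theorem gV_kc_mul (s : Lˣ) (g : SL2 L) : F.gV (kc s * g) = F.gV g := by
  have hk : F.vPart ⟨(F.ι (kc s))⁻¹, inv_mem (F.kc_mem_twoPt s)⟩ = 1 := by
    rw [show (⟨(F.ι (kc s))⁻¹, inv_mem (F.kc_mem_twoPt s)⟩ : twoPt G a t) =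
      (⟨F.ι (kc s), F.kc_mem_twoPt s⟩ : twoPt G a t)⁻¹ from rfl, map_inv, F.vPart_kc, inv_one]
  have e : (⟨F.hh (kc s * g), F.hh_mem _⟩ : twoPt G a t) =
      ⟨(F.ι (kc s))⁻¹, inv_mem (F.kc_mem_twoPt s)⟩ * ⟨F.hh g, F.hh_mem g⟩ *
        ⟨(F.ι (kc s))⁻¹, inv_mem (F.kc_mem_twoPt s)⟩ := Subtype.ext (F.hh_kc_mul s g)
  rw [gV, e, map_mul, map_mul, hk, one_mul, mul_one, ← gV]

theorem gV_g0 (g : SL2 L) : F.gV (F.g0 g) = (F.gV g)⁻¹ := by
  have e : (⟨F.hh (F.g0 g), F.hh_mem _⟩ : twoPt G a t) =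
      ⟨t * (F.hh g)⁻¹ * t, conj_t_twoPt F.setup (inv_mem (F.hh_mem g))⟩ := Subtype.ext (F.hh_g0 g)
  rw [gV, e]
  exact (F.vPart_conj_t (⟨F.hh g, F.hh_mem g⟩ : twoPt G a t)⁻¹).trans (map_inv _ _)

theorem gV_Jm (g : SL2 L) : F.gV (Jm * g) = (F.gV g)⁻¹ := by
  rw [gV, gV, ← map_inv]
  exact congrArg F.vPart (Subtype.ext (F.hh_Jm g))

theorem gV_pX (g : SL2 L) {u : L} (hu : u ≠ 0) :
    F.gV (F.pX g u) = (F.gV (zc u * g))⁻¹ * F.gV g := by
  have e : (⟨F.hh (F.pX g u), F.hh_mem _⟩ : twoPt G a t) *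
      ((⟨F.hh g, F.hh_mem g⟩ : twoPt G a t)⁻¹ * ⟨F.hh (zc u * g), F.hh_mem _⟩) =
      ⟨F.ι (kc (Units.mk0 u⁻¹ (inv_ne_zero hu))), F.kc_mem_twoPt _⟩ := Subtype.ext (F.eq_c g hu)
  have h := congrArg F.vPart e
  rw [F.vPart_kc, map_mul, map_mul, map_inv] at h
  simp only [gV]
  rw [eq_inv_of_mul_eq_one_left h, mul_inv_rev, inv_inv]

open scoped Classical in
/-- the pair function -/
def Gp (P α : Row L) : Vsub G a t :=
  if h : det2 P α ≠ 0 then
    F.gV (F.g0 (ofRows P ((det2 P α)⁻¹ • α) (by rw [det2_smul_right, inv_mul_cancel₀ h])))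
  else 1

theorem Gp_rows (g : SL2 L) : F.Gp (top (F.g0 g)) (bot g) = F.gV g := by
  have h1 : det2 (top (F.g0 g)) (bot g) = 1 := by rw [← F.bot_g0 g]; exact det_rows _
  rw [Gp, dif_pos (by rw [h1]; exact one_ne_zero)]
  have e : ofRows (top (F.g0 g)) ((det2 (top (F.g0 g)) (bot g))⁻¹ • bot g)
      (by rw [det2_smul_right, h1]; norm_num) = F.g0 g := by
    refine ext_rows (top_ofRows _ _ _) ?_
    rw [bot_ofRows, h1, inv_one, one_smul, F.bot_g0]
  rw [e, F.g0_g0]

theorem Gp_eq {P α : Row L} (h : det2 P α = 1) : F.Gp P α = F.gV (F.g0 (ofRows P α h)) := by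
  have := F.Gp_rows (F.g0 (ofRows P α h))
  rwa [F.g0_g0, top_ofRows, F.bot_g0, bot_ofRows] at this

theorem Gp_smul {P α : Row L} (h : det2 P α ≠ 0) {c e : L} (hc : c ≠ 0) (he : e ≠ 0) :
    F.Gp (c • P) (e • α) = F.Gp P α := by
  have h' : det2 (c • P) (e • α) ≠ 0 := by
    rw [det2_smul_left, det2_smul_right]; exact mul_ne_zero hc (mul_ne_zero he h)
  rw [Gp, dif_pos h', Gp, dif_pos h, ← F.gV_kc_mul (Units.mk0 c hc) (F.g0 (ofRows P _ _)),
    ← F.g0_kc_mul]
  congr 2
  refine ext_rows ?_ ?_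
  · rw [top_kc_mul, top_ofRows, top_ofRows, Units.val_mk0]
  · rw [bot_kc_mul, bot_ofRows, bot_ofRows, Units.val_mk0, smul_smul, smul_smul]
    congr 1
    rw [det2_smul_left, det2_smul_right]
    field_simp

theorem Gp_refl {P α : Row L} (h : det2 P α = 1) :
    F.Gp (P + F.del α • α) α = (F.Gp P α)⁻¹ := by
  have h1 := F.Gp_rows (ofRows P α h)
  rw [F.top_g0, top_ofRows, bot_ofRows] at h1
  rw [h1, F.Gp_eq h, F.gV_g0, inv_inv]

theorem cocycle_aux {P α : Row L} (h : det2 P α = 1) {u : L} (hu : u ≠ 0) :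
    F.Gp (P + u • α) P = (F.Gp P α)⁻¹ * F.Gp (P + u • α) α := by
  set g := F.g0 (ofRows P α h) with hg
  have hg0 : F.g0 g = ofRows P α h := F.g0_g0 _
  have hbot : bot g = α := by rw [hg, F.bot_g0, bot_ofRows]
  have e1 := F.Gp_rows (Jm * F.pX g u)
  rw [F.top_g0, top_Jm_mul, bot_Jm_mul, F.top_pX, bot_pX, hg0, top_ofRows, hbot] at e1
  have e2 : α + (u⁻¹ + F.del P) • P + F.del P • P = u⁻¹ • (P + u • α) := by
    rw [add_assoc, ← add_smul, add_assoc, CharTwo.add_self_eq_zero, add_zero, smul_add, smul_smul,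
      inv_mul_cancel₀ hu, one_smul, add_comm]
  have hd : det2 (P + u • α) P ≠ 0 := by
    rw [det2_add_left, det2_self, det2_smul_left, det2_comm, h, zero_add, mul_one]; exact hu
  rw [e2, F.gV_Jm, F.gV_pX g hu, mul_inv_rev, inv_inv] at e1
  have e3 := F.Gp_smul (P := P + u • α) (α := P) hd (inv_ne_zero hu) (one_ne_zero (α := L))
  rw [one_smul] at e3
  rw [← e3, e1]
  congr 1
  · rw [F.Gp_eq h]
  · have := F.Gp_rows (zc u * g)
    rwa [F.g0_zc_mul, top_zc_mul, bot_zc_mul, hg0, top_ofRows, bot_ofRows, hbot, eq_comm] at this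

theorem Gp_cocycle {B P α : Row L} (h1 : det2 P α ≠ 0) (h2 : det2 B P ≠ 0) (h3 : det2 B α ≠ 0) :
    F.Gp B P = (F.Gp P α)⁻¹ * F.Gp B α := by
  set d := det2 P α with hd
  have h' : det2 P (d⁻¹ • α) = 1 := by rw [det2_smul_right, inv_mul_cancel₀ h1]
  have hPB : det2 P B ≠ 0 := by rwa [det2_comm]
  set u := det2 P B * d / det2 B α with hu
  have hu0 : u ≠ 0 := div_ne_zero (mul_ne_zero hPB h1) h3
  have hB : B = (det2 B α / d) • (P + u • d⁻¹ • α) := by
    have e : (det2 P B / d) = det2 B α / d * u * d⁻¹ := by rw [hu]; field_simp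
    rw [smul_add, smul_smul, smul_smul, ← e]
    calc B = d⁻¹ • (d • B) := by rw [smul_smul, inv_mul_cancel₀ h1, one_smul]
      _ = _ := by rw [hd, det2_expand, smul_add, smul_smul, smul_smul, ← hd, inv_mul_eq_div, inv_mul_eq_div]
  have hc := F.cocycle_aux h' hu0
  set B' := P + u • d⁻¹ • α
  have hcd : det2 B α / d ≠ 0 := div_ne_zero h3 h1
  have hB'P : det2 B' P ≠ 0 := fun e => h2 (by rw [hB, det2_smul_left, e, mul_zero])
  have hB'α : det2 B' α ≠ 0 := fun e => h3 (by rw [hB, det2_smul_left, e, mul_zero])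
  have e1 := F.Gp_smul hB'P hcd (one_ne_zero (α := L))
  have e2 := F.Gp_smul hB'α hcd (one_ne_zero (α := L))
  have e3 := F.Gp_smul h1 (one_ne_zero (α := L)) (inv_ne_zero h1)
  have e4 := F.Gp_smul hB'α (one_ne_zero (α := L)) (inv_ne_zero h1)
  rw [one_smul, ← hB] at e1 e2
  rw [one_smul] at e3 e4
  rw [e1, e2, hc, e3, e4]

open scoped Classical in
/-- the function on the projective line -/
def phi (x : Row L) : Vsub G a t := if det2 x (bRow L) = 0 then 1 else F.Gp x (bRow L)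

theorem phi_smul {c : L} (hc : c ≠ 0) (x : Row L) : F.phi (c • x) = F.phi x := by
  classical
  unfold phi
  by_cases h : det2 x (bRow L) = 0
  · rw [if_pos h, if_pos (by rw [det2_smul_left, h, mul_zero])]
  · rw [if_neg h, if_neg (by rw [det2_smul_left]; exact mul_ne_zero hc h)]
    have := F.Gp_smul h hc (one_ne_zero (α := L))
    rwa [one_smul] at this

theorem Gp_eq_phi {x y : Row L} (h : det2 x y ≠ 0) : F.Gp x y = (F.phi y)⁻¹ * F.phi x := by
  classical
  obtain ⟨hx0, hy0⟩ := ne_zero_of_det2 h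
  have hb : (bRow L) ≠ (0 : Row L) := fun e => by simpa [bRow] using congrFun e 1
  by_cases hy : det2 y (bRow L) = 0
  · have hx : det2 x (bRow L) ≠ 0 := fun e => h (det2_eq_zero_trans hb e hy)
    obtain ⟨c, hc⟩ := exists_smul_of_det2_eq_zero hb hy
    have hc0 : c ≠ 0 := fun e => hy0 (by rw [hc, e, zero_smul])
    rw [phi, if_pos hy, inv_one, one_mul, phi, if_neg hx]
    have := F.Gp_smul hx (one_ne_zero (α := L)) hc0
    rwa [one_smul, ← hc] at this
  rw [show F.phi y = F.Gp y (bRow L) from if_neg hy]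
  by_cases hx : det2 x (bRow L) = 0
  · rw [show F.phi x = 1 from if_pos hx, mul_one]
    obtain ⟨c, hc⟩ := exists_smul_of_det2_eq_zero hb hx
    have hc0 : c ≠ 0 := fun e => hx0 (by rw [hc, e, zero_smul])
    have hby : det2 (bRow L) y ≠ 0 := by rwa [det2_comm]
    have h1 : det2 y ((bRow L) + y) ≠ 0 := by rwa [det2_add_right, det2_self, add_zero]
    have h3 : det2 (bRow L) ((bRow L) + y) ≠ 0 := by rwa [det2_add_right, det2_self, zero_add]
    have c1 := F.Gp_cocycle h1 hby h3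
    have c2 := F.Gp_cocycle h3 hy h1
    have e := F.Gp_smul hby hc0 (one_ne_zero (α := L))
    rw [one_smul, ← hc] at e
    rw [e, c1, c2, mul_inv_rev, inv_inv]
  · rw [show F.phi x = F.Gp x (bRow L) from if_neg hx]
    exact F.Gp_cocycle hy h hx

/-- the semilinear action of `V` on rows -/
def semi (v : Vsub G a t) (r : Row L) : Row L := rowMul (rowMap (F.sigma v) r) (F.rho v)

theorem semi_one (r : Row L) : F.semi 1 r = r := by
  have h1 : F.rho 1 = 1 := F.smul_p0_inj (by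
    rw [F.rho_spec, map_one, one_smul, Subgroup.coe_one, one_smul])
  rw [semi, h1, rowMul_one]
  funext i
  show F.Tv 1 (r i) = r i
  exact F.Tv_eq (by rw [Subgroup.coe_one, one_mul, inv_one, mul_one])

theorem semi_smul (v : Vsub G a t) (c : L) (r : Row L) : F.semi v (c • r) = F.sigma v c • F.semi v r := by
  rw [semi, rowMap_smul, rowMul_smul]; rfl

theorem semi_add (v : Vsub G a t) (r r' : Row L) : F.semi v (r + r') = F.semi v r + F.semi v r' := by
  rw [semi, rowMap_add, rowMul_add]; rfl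

theorem del_semi (v : Vsub G a t) (r : Row L) : F.del (F.semi v r) = F.sigma v (F.del r) := F.del_conj v r

theorem det2_semi (v : Vsub G a t) (P α : Row L) :
    det2 (F.semi v P) (F.semi v α) = F.sigma v (det2 P α) := by
  have hd := (F.rho v).2
  rw [Matrix.det_fin_two, CharTwo.sub_eq_add] at hd
  simp only [semi, rowMul, rowMap, det2, Matrix.vecMul, dotProduct, Fin.sum_univ_two, map_add, map_mul]
  linear_combination (F.sigma v (P 0) * F.sigma v (α 1) + F.sigma v (P 1) * F.sigma v (α 0)) * hd +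
    (F.sigma v (P 0) * F.sigma v (α 0) * (F.rho v).1 0 0 * (F.rho v).1 0 1 +
      F.sigma v (P 1) * F.sigma v (α 1) * (F.rho v).1 1 0 * (F.rho v).1 1 1) * CharTwo.two_eq_zero (R := L)

theorem Gp_semi (v : Vsub G a t) {P α : Row L} (h : det2 P α ≠ 0) :
    F.Gp (F.semi v P) (F.semi v α) = v * F.Gp P α * v⁻¹ := by
  set d := det2 P α with hd
  have h' : det2 P (d⁻¹ • α) = 1 := by rw [det2_smul_right, inv_mul_cancel₀ h]
  have e1 := F.Gp_smul h (one_ne_zero (α := L)) (inv_ne_zero h)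
  rw [one_smul] at e1
  have hs : det2 (F.semi v P) (F.semi v α) ≠ 0 := by
    rw [F.det2_semi]; exact (map_ne_zero _).2 h
  have e2 := F.Gp_smul hs (one_ne_zero (α := L)) ((map_ne_zero (F.sigma v)).2 (inv_ne_zero h))
  rw [one_smul, ← F.semi_smul] at e2
  rw [← e1, ← e2, F.Gp_eq h']
  set g := F.g0 (ofRows P (d⁻¹ • α) h') with hg
  have e3 := F.Gp_rows (slMap (F.sigma v) g * F.rho v)
  rw [F.g0_conj, top_mul, bot_mul, top_slMap, bot_slMap, hg, F.g0_g0, F.bot_g0, top_ofRows,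
    bot_ofRows] at e3
  refine e3.trans ?_
  rw [gV, gV, ← hg]
  have e4 : (⟨F.hh (slMap (F.sigma v) g * F.rho v), F.hh_mem _⟩ : twoPt G a t) =
      ⟨(v : G), (F.mem_Vsub.1 v.2).1⟩ * ⟨F.hh g, F.hh_mem g⟩ *
        (⟨(v : G), (F.mem_Vsub.1 v.2).1⟩ : twoPt G a t)⁻¹ := Subtype.ext (F.hh_conj v g)
  rw [e4, map_mul, map_mul, map_inv, F.vPart_eq_self v.2]

/-- the third point of a pair -/
def pA (P B : Row L) : Row L := (det2 P B)⁻¹ • B + F.del P • P

theorem phi_refl {P B : Row L} (h : det2 P B ≠ 0) :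
    (F.phi P)⁻¹ * F.phi (F.pA P B) = (F.phi B)⁻¹ * F.phi P := by
  have h' : det2 ((det2 P B)⁻¹ • B) P = 1 := by
    rw [det2_smul_left, det2_comm B P, inv_mul_cancel₀ h]
  have h'' : det2 (F.pA P B) P ≠ 0 := by
    rw [pA, det2_add_left, det2_smul_left (F.del P), det2_self, mul_zero, add_zero, h']
    exact one_ne_zero
  have e := F.Gp_refl h'
  rw [show (det2 P B)⁻¹ • B + F.del P • P = F.pA P B from rfl, F.Gp_eq_phi h'', F.Gp_eq_phi (by rw [h']; exact one_ne_zero), mul_inv_rev, inv_inv,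
    F.phi_smul (inv_ne_zero h)] at e
  exact e

/-- equation (b) on rows -/
theorem eq_pair {P B : Row L} (h : det2 P B ≠ 0) :
    ∃ s : L, s ≠ 0 ∧ s • F.semi ((F.phi P)⁻¹ * F.phi B) B = P + F.del (F.pA P B) • F.pA P B ∧
      F.semi ((F.phi P)⁻¹ * F.phi B) (F.pA B P) = s • F.pA P B := by
  set u := det2 P B with hu
  set α := u⁻¹ • (B + P) with hα
  have h' : det2 P α = 1 := by
    rw [hα, det2_smul_right, det2_add_right, det2_self, add_zero, inv_mul_cancel₀ h]
  have hBeq : P + u • α = B := by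
    rw [hα, smul_smul, mul_inv_cancel₀ h, one_smul, add_comm B, ← add_assoc]
    funext i
    simp [CharTwo.add_self_eq_zero]
  have hBα : det2 B α ≠ 0 := by
    rw [← hBeq, det2_add_left, det2_smul_left, det2_self, mul_zero, add_zero, h']; exact one_ne_zero
  set g := F.g0 (ofRows P α h') with hg
  have hg0 : F.g0 g = ofRows P α h' := F.g0_g0 _
  have hbot : bot g = α := by rw [hg, F.bot_g0, bot_ofRows]
  have t1 : top (F.pX g u) = P := by rw [F.top_pX, hg0, top_ofRows]
  have hA : ∀ X Y : Row L, det2 X Y = u → X + Y = u • α → α + (u⁻¹ + F.del X) • X = F.pA X Y := by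
    intro X Y hd hXY
    have : α = u⁻¹ • (X + Y) := by rw [hXY, smul_smul, inv_mul_cancel₀ h, one_smul]
    rw [pA, hd, this, smul_add, add_smul]
    funext i
    simp only [Pi.add_apply, Pi.smul_apply, smul_eq_mul]
    linear_combination (u⁻¹ * X i) * CharTwo.two_eq_zero (R := L)
  have hPB : P + B = u • α := by
    rw [← hBeq, ← add_assoc]; funext i; simp [CharTwo.add_self_eq_zero]
  have t2 : bot (F.pX g u) = F.pA P B := by
    rw [F.bot_pX, hg0, top_ofRows, hbot, hA P B rfl hPB]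
  have t3 : top (F.pX (zc u * g) u) = B := by
    rw [F.top_pX, F.g0_zc_mul, hg0, top_zc_mul, top_ofRows, bot_ofRows, hBeq]
  have t4 : bot (F.pX (zc u * g) u) = F.pA B P := by
    rw [F.bot_pX, F.g0_zc_mul, hg0, top_zc_mul, top_ofRows, bot_ofRows, hBeq, bot_zc_mul, hbot,
      hA B P ((det2_comm _ _).trans rfl) (by rw [add_comm, hPB])]
  set v := (F.hh g)⁻¹ * F.hh (zc u * g)
  have hvD : v ∈ twoPt G a t := mul_mem (inv_mem (F.hh_mem g)) (F.hh_mem _)
  have hw : F.vPart ⟨v, hvD⟩ = (F.phi P)⁻¹ * F.phi B := by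
    rw [show (⟨v, hvD⟩ : twoPt G a t) =
      (⟨F.hh g, F.hh_mem g⟩ : twoPt G a t)⁻¹ * ⟨F.hh (zc u * g), F.hh_mem _⟩ from rfl,
      map_mul, map_inv]
    show (F.gV g)⁻¹ * F.gV (zc u * g) = _
    rw [← F.Gp_rows g, ← F.Gp_rows (zc u * g), F.g0_zc_mul, hg0, top_zc_mul, top_ofRows, bot_ofRows,
      hBeq, bot_zc_mul, hbot, F.Gp_eq_phi (by rw [h']; exact one_ne_zero), F.Gp_eq_phi hBα]
    group
  set w := F.vPart ⟨v, hvD⟩ with hwdef
  obtain ⟨s, hs⟩ := (F.ι_K _).1 (F.vPart_spec ⟨v, hvD⟩)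
  rw [← hwdef] at hs
  have hv : v = F.ι (kc s) * (w : G) := by
    rw [hs]
    exact (inv_mul_cancel_right v (w : G)).symm
  have e := F.eq_b g h
  have e' : F.lab (kc s * (slMap (F.sigma w) (F.pX (zc u * g) u) * F.rho w)) = F.lab (F.g0 (F.pX g u)) := by
    rw [← e, F.lab_kc_mul, ← F.lab_conj, show (F.hh g)⁻¹ * F.hh (zc u * g) = v from rfl, hv]
    group
  have e'' := F.lab_inj e'
  refine ⟨s, s.ne_zero, ?_, ?_⟩
  · have := congrArg top e''
    rw [top_kc_mul, top_mul, top_slMap, t3, F.top_g0, t1, t2] at this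
    rw [← hw]; exact this
  · have := congrArg bot e''
    rw [bot_kc_mul, bot_mul, bot_slMap, t4, F.bot_g0, t2] at this
    rw [← hw, ← this, smul_smul, mul_inv_cancel₀ s.ne_zero, one_smul]; rfl

/-- pairs with equal value -/
theorem eq_of_phi_eq {P B : Row L} (h : det2 P B ≠ 0) (he : F.phi P = F.phi B) :
    F.del P * F.del B * det2 P B ^ 2 = 1 ∧ F.del (F.pA P B) * F.del P = 1 := by
  obtain ⟨s, hs, e1, e2⟩ := F.eq_pair h
  rw [he, inv_mul_cancel, F.semi_one] at e1
  rw [he, inv_mul_cancel, F.semi_one] at e2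
  have hPA : det2 P (F.pA P B) = 1 := by
    rw [pA, det2_add_right, det2_smul_right, det2_smul_right, det2_self, mul_zero, add_zero,
      inv_mul_cancel₀ h]
  have hBA : det2 B (F.pA P B) = F.del P * det2 P B := by
    rw [pA, det2_add_right, det2_smul_right, det2_smul_right, det2_self, mul_zero, zero_add,
      det2_comm B P]
  have hBA' : det2 B (F.pA B P) = 1 := by
    rw [pA, det2_add_right, det2_smul_right, det2_smul_right, det2_self, mul_zero, add_zero,
      inv_mul_cancel₀ (by rwa [det2_comm])]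
  have hPA' : det2 P (F.pA B P) = F.del B * det2 P B := by
    rw [pA, det2_add_right, det2_smul_right, det2_smul_right, det2_self, mul_zero, zero_add]
  have a2 := congrArg (det2 B) e1
  rw [det2_smul_right, det2_self, mul_zero, det2_add_right, det2_comm B P, det2_smul_right, hBA] at a2
  have b2 := congrArg (det2 B) e2
  rw [hBA', det2_smul_right, hBA] at b2
  have b3 := congrArg (det2 P) e2
  rw [hPA', det2_smul_right, hPA, mul_one] at b3
  refine ⟨?_, ?_⟩
  · rw [← b3] at b2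
    linear_combination -b2
  · apply mul_left_cancel₀ h
    linear_combination -a2 - (det2 P B) * CharTwo.two_eq_zero (R := L)

/-- the fibres of `phi` have at most three points -/
theorem no_four_fibre (r : Fin 4 → Row L) (hr : ∀ i j, i ≠ j → det2 (r i) (r j) ≠ 0)
    (he : ∀ i j, F.phi (r i) = F.phi (r j)) : False :=
  no_four r (fun i => F.del (r i)) fun i j hij => (F.eq_of_phi_eq (hr i j hij) (he i j)).1

end Frame

end CfsgLib.RankOneRecog.Unitary
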