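import Cfsg.Agent.Lib.RankOneRecog.Unitary.Bruhat

/-!
The subgroup `V = C_D(t)`, its field automorphisms, and its action on the labels.
-/

set_option autoImplicit false

noncomputable section

namespace CfsgLib.RankOneRecog.Unitary

open CfsgLib.RankOneInvol CfsgLib.RankOneTwo
open MulAction (stabilizer mem_stabilizer_iff)

universe u v

/-- the automorphisms of a finite field of characteristic two commute -/
theorem ringAut_comm {L : Type} [Field L] [Finite L] [CharP L 2] (σ τ : L ≃+* L) (x : L) :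
    σ (τ x) = τ (σ x) := by
  letI : Algebra (ZMod 2) L := ZMod.algebra L 2
  let toAlg : (L ≃+* L) → (L ≃ₐ[ZMod 2] L) := fun e =>
    AlgEquiv.ofRingEquiv (f := e) fun r =>
      RingHom.congr_fun (RingHom.ext_zmod (e.toRingHom.comp (algebraMap (ZMod 2) L)) (algebraMap (ZMod 2) L)) r
  have h := IsCyclic.isMulCommutative.is_comm.comm (toAlg σ) (toAlg τ)
  exact AlgEquiv.congr_fun h x

/-- `V = C_D(t)` -/
def Vsub (G : Type u) [Group G] {Ω : Type v} [MulAction G Ω] (a : Ω) (t : G) : Subgroup G :=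
  twoPt G a t ⊓ Subgroup.centralizer ({t} : Set G)

/-- the entrywise image of a row -/
def rowMap {L : Type} [Field L] (σ : L ≃+* L) (r : Row L) : Row L := fun i => σ (r i)

/-- the entrywise image of a matrix -/
def slMap {L : Type} [Field L] (σ : L ≃+* L) : SL2 L →* SL2 L :=
  Matrix.SpecialLinearGroup.map (σ : L →+* L)

section Maps

variable {L : Type} [Field L] [CharP L 2] (σ : L ≃+* L)

theorem slMap_apply (g : SL2 L) (i j : Fin 2) : (slMap σ g).1 i j = σ (g.1 i j) := rfl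

theorem top_slMap (g : SL2 L) : top (slMap σ g) = rowMap σ (top g) := rfl

theorem bot_slMap (g : SL2 L) : bot (slMap σ g) = rowMap σ (bot g) := rfl

theorem slMap_zc (c : L) : slMap σ (zc c) = zc (σ c) :=
  Subtype.ext (Matrix.ext fun i j => by fin_cases i <;> fin_cases j <;> simp [slMap_apply, zc_val])

theorem slMap_kc (s : Lˣ) : slMap σ (kc s) = kc (Units.map (σ : L →* L) s) :=
  Subtype.ext (Matrix.ext fun i j => by
    fin_cases i <;> fin_cases j <;> simp [slMap_apply, kc_val, map_inv₀])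

theorem slMap_Jm : slMap σ (Jm : SL2 L) = Jm :=
  Subtype.ext (Matrix.ext fun i j => by fin_cases i <;> fin_cases j <;> simp [slMap_apply, Jm_val])

theorem rowMap_add (r r' : Row L) : rowMap σ (r + r') = rowMap σ r + rowMap σ r' := by
  funext i; simp [rowMap]

theorem rowMap_smul (c : L) (r : Row L) : rowMap σ (c • r) = σ c • rowMap σ r := by
  funext i; simp [rowMap]

end Maps

variable {G : Type u} {Ω : Type v} [Group G] [MulAction G Ω] [Finite G] [FaithfulSMul G Ω]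
  {a : Ω} {t : G} {Q : Subgroup G} {L : Type} [Field L] [Fintype L] [CharP L 2]

namespace Frame

variable (F : Frame a t Q L)
include F

theorem mem_Vsub {v : G} : v ∈ Vsub G a t ↔ v ∈ twoPt G a t ∧ t * v * t = v := by
  rw [Vsub, Subgroup.mem_inf, Subgroup.mem_centralizer_iff]
  refine and_congr_right fun _ => ⟨fun h => ?_, fun h w hw => ?_⟩
  · rw [h t rfl, mul_assoc, F.setup.mul_self, mul_one]
  · rw [Set.mem_singleton_iff] at hw
    rw [hw]
    calc t * v = t * v * t * t := by rw [mul_assoc (t * v), F.setup.mul_self, mul_one]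
      _ = v * t := by rw [h]

theorem conj_t_kc (s : Lˣ) : t * F.ι (kc s) * t = (F.ι (kc s))⁻¹ := by
  have h := congrArg F.ι (Jm_kc s)
  simp only [map_mul, F.ι_J] at h
  rw [h, mul_assoc, F.setup.mul_self, mul_one, ← map_inv, kc_inv]

/-- `K ∩ V = 1` -/
theorem eq_one_of_mem {x : G} (hK : x ∈ Ksub G a t) (hV : x ∈ Vsub G a t) : x = 1 := by
  obtain ⟨s, rfl⟩ := (F.ι_K _).1 hK
  obtain ⟨hD, h⟩ := F.mem_Vsub.1 hV
  rw [F.conj_t_kc] at h
  exact eq_one_of_mem_of_sq F.setup.odd_card hD (inv_eq_iff_mul_eq_one.1 h)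

theorem exists_decomp (d : twoPt G a t) :
    ∃ v : Vsub G a t, (d : G) * (v : G)⁻¹ ∈ Ksub G a t := by
  obtain ⟨k, v, hk, hv, hvt, e⟩ := decomp_V' F.setup d.2
  exact ⟨⟨v, F.mem_Vsub.2 ⟨hv, hvt⟩⟩, by
    rw [e, mul_inv_cancel_right]; exact (mem_Ksub_iff F.setup F.four).2 hk⟩

/-- the `V` component of an element of `D` -/
def vPartFun (d : twoPt G a t) : Vsub G a t := (F.exists_decomp d).choose

theorem vPartFun_unique {d : twoPt G a t} {v : Vsub G a t} (h : (d : G) * (v : G)⁻¹ ∈ Ksub G a t) :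
    F.vPartFun d = v := by
  have h' : (d : G) * ((F.vPartFun d : Vsub G a t) : G)⁻¹ ∈ Ksub G a t := (F.exists_decomp d).choose_spec
  refine Subtype.ext (inv_mul_eq_one.1 (F.eq_one_of_mem ?_
    (mul_mem (inv_mem (F.vPartFun d).2) v.2)))
  have hk := mul_mem (inv_mem h') h
  have hD : ((F.vPartFun d : Vsub G a t) : G) ∈ twoPt G a t := (F.mem_Vsub.1 (F.vPartFun d).2).1
  have := Ksub_conj F.setup F.four (inv_mem hD) hk
  have e2 : ((F.vPartFun d : Vsub G a t) : G)⁻¹ * (((d : G) * ((F.vPartFun d : Vsub G a t) : G)⁻¹)⁻¹ *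
      ((d : G) * (v : G)⁻¹)) * (((F.vPartFun d : Vsub G a t) : G)⁻¹)⁻¹ =
      (((F.vPartFun d : Vsub G a t) : G)⁻¹ * ((F.vPartFun d : Vsub G a t) : G)) *
        ((v : G)⁻¹ * ((F.vPartFun d : Vsub G a t) : G)) := by group
  rw [e2, inv_mul_cancel, one_mul] at this
  have := inv_mem this
  rwa [mul_inv_rev, inv_inv] at this

theorem vPartFun_mul (d d' : twoPt G a t) : F.vPartFun (d * d') = F.vPartFun d * F.vPartFun d' := by
  refine F.vPartFun_unique ?_
  set v := ((F.vPartFun d : Vsub G a t) : G)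
  set v' := ((F.vPartFun d' : Vsub G a t) : G)
  have hv : (d : G) * v⁻¹ ∈ Ksub G a t := (F.exists_decomp d).choose_spec
  have hv' : (d' : G) * v'⁻¹ ∈ Ksub G a t := (F.exists_decomp d').choose_spec
  have e : (d : G) * (d' : G) * (v * v')⁻¹ = (d : G) * v⁻¹ * (v * ((d' : G) * v'⁻¹) * v⁻¹) := by group
  show (d : G) * (d' : G) * (v * v')⁻¹ ∈ Ksub G a t
  rw [e]
  exact mul_mem hv (Ksub_conj F.setup F.four (F.mem_Vsub.1 (F.vPartFun d).2).1 hv')

/-- the projection of `D` on `V` -/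
def vPart : twoPt G a t →* Vsub G a t := MonoidHom.mk' F.vPartFun F.vPartFun_mul

theorem vPart_spec (d : twoPt G a t) : (d : G) * ((F.vPart d : Vsub G a t) : G)⁻¹ ∈ Ksub G a t :=
  (F.exists_decomp d).choose_spec

theorem vPart_kc (s : Lˣ) : F.vPart ⟨F.ι (kc s), F.kc_mem_twoPt s⟩ = 1 :=
  F.vPartFun_unique (by simpa using F.kc_mem s)

theorem vPart_eq_self {v : G} (hv : v ∈ Vsub G a t) :
    F.vPart ⟨v, (F.mem_Vsub.1 hv).1⟩ = ⟨v, hv⟩ :=
  F.vPartFun_unique (by simp)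

theorem vPart_conj_t (d : twoPt G a t) :
    F.vPart ⟨t * d * t, conj_t_twoPt F.setup d.2⟩ = F.vPart d := by
  refine F.vPartFun_unique ?_
  obtain ⟨s, hs⟩ := (F.ι_K _).1 (F.vPart_spec d)
  set v := ((F.vPart d : Vsub G a t) : G)
  have hvt := (F.mem_Vsub.1 (F.vPart d).2).2
  show t * (d : G) * t * v⁻¹ ∈ Ksub G a t
  have e : t * (d : G) * t * v⁻¹ = (t * ((d : G) * v⁻¹) * t) * ((t * v * t) * v⁻¹) := by
    simp only [mul_assoc, tt_cancel F.setup, inv_mul_cancel_left]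
  rw [e, hvt, mul_inv_cancel, mul_one, ← hs, F.conj_t_kc]
  exact inv_mem (F.kc_mem s)

/-- `t z₁ t = z₁ t z₁` -/
theorem paired_one : IsPaired t a Q (F.ι (zc 1)) t (F.ι (zc 1)) := by
  have h1 : F.ι (zc (1 : L)) ≠ 1 := fun e => one_ne_zero (zc_inj (F.ι_inj (e.trans (by
    rw [zc_zero, map_one]) : F.ι (zc (1 : L)) = F.ι (zc 0))))
  refine ⟨mem_invols.2 ⟨Q_smul F.setup (F.zc_mem_Q 1), h1, Zsub_sq F.setup F.four (F.zc_mem 1)⟩,
    isSwap_t F.setup, F.zc_mem_Q 1, ?_⟩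
  have h := congrArg F.ι (Jm_zc_Jm (one_ne_zero (α := L)))
  simp only [inv_one, map_mul, F.ι_J, ← map_inv, zc_inv] at h ⊢
  rw [h, Units.mk0_one]
  simp [kc_one]

theorem vConj_zc_one {v : G} (hv : v ∈ Vsub G a t) : v * F.ι (zc 1) * v⁻¹ = F.ι (zc 1) := by
  obtain ⟨hD, hvt⟩ := F.mem_Vsub.1 hv
  rw [(centralizer_base F.setup F.paired_one hD).2 hvt, mul_inv_cancel_right]

theorem exists_T (v : Vsub G a t) (c : L) : ∃ c', (v : G) * F.ι (zc c) * (v : G)⁻¹ = F.ι (zc c') := by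
  obtain ⟨c', hc'⟩ := (F.ι_Z _).1 (Zsub_conj F.setup F.four
    (mem_twoPt.1 (F.mem_Vsub.1 v.2).1).1 (F.zc_mem c))
  exact ⟨c', hc'.symm⟩

/-- the action of `V` on the field -/
def Tv (v : Vsub G a t) (c : L) : L := (F.exists_T v c).choose

theorem Tv_spec (v : Vsub G a t) (c : L) :
    (v : G) * F.ι (zc c) * (v : G)⁻¹ = F.ι (zc (F.Tv v c)) := (F.exists_T v c).choose_spec

theorem Tv_eq {v : Vsub G a t} {c c' : L} (h : (v : G) * F.ι (zc c) * (v : G)⁻¹ = F.ι (zc c')) :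
    F.Tv v c = c' := zc_inj (F.ι_inj ((F.Tv_spec v c).symm.trans h))

theorem Tv_one (v : Vsub G a t) : F.Tv v 1 = 1 := F.Tv_eq (F.vConj_zc_one v.2)

theorem Tv_add (v : Vsub G a t) (c d : L) : F.Tv v (c + d) = F.Tv v c + F.Tv v d := by
  refine F.Tv_eq ?_
  rw [zc_add, zc_add, map_mul, map_mul, ← F.Tv_spec, ← F.Tv_spec]; group

theorem Tv_zero (v : Vsub G a t) : F.Tv v 0 = 0 := by
  refine F.Tv_eq ?_
  rw [zc_zero, map_one, mul_one, mul_inv_cancel]

theorem exists_kappa (v : Vsub G a t) (s : Lˣ) :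
    ∃ s', (v : G) * F.ι (kc s) * (v : G)⁻¹ = F.ι (kc s') := by
  obtain ⟨s', hs'⟩ := (F.ι_K _).1 (Ksub_conj F.setup F.four (F.mem_Vsub.1 v.2).1 (F.kc_mem s))
  exact ⟨s', hs'.symm⟩

theorem Tv_mul (v : Vsub G a t) (x y : L) : F.Tv v (x * y) = F.Tv v x * F.Tv v y := by
  have h0 := F.Tv_zero v
  by_cases hx : x = 0
  · rw [hx, zero_mul, h0, zero_mul]
  obtain ⟨w, hw⟩ := CfsgLib.SuzukiTwo.sq_surjective (fun l : L => CharTwo.add_self_eq_zero l) x
  have hw0 : w ≠ 0 := fun e => hx (by rw [← hw, e, zero_mul])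
  obtain ⟨s', hs'⟩ := F.exists_kappa v (Units.mk0 w hw0)
  have key : ∀ y : L, F.Tv v (w ^ 2 * y) = (s' : L) ^ 2 * F.Tv v y := by
    intro y
    refine F.Tv_eq ?_
    have e1 : F.ι (zc (w ^ 2 * y)) = F.ι (kc (Units.mk0 w hw0)) * F.ι (zc y) * (F.ι (kc (Units.mk0 w hw0)))⁻¹ := by
      rw [← map_mul, kc_zc, map_mul, mul_inv_cancel_right, Units.val_mk0]
    have e2 : F.ι (zc ((s' : L) ^ 2 * F.Tv v y)) = F.ι (kc s') * F.ι (zc (F.Tv v y)) * (F.ι (kc s'))⁻¹ := by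
      rw [← map_mul, kc_zc, map_mul, mul_inv_cancel_right]
    rw [e1, e2, ← hs', ← F.Tv_spec]; group
  have hx2 : x = w ^ 2 := by rw [← hw, sq]
  have h1 := key 1
  rw [mul_one, F.Tv_one, mul_one] at h1
  rw [hx2, key y, h1]

/-- the field automorphism of an element of `V` -/
def sigma (v : Vsub G a t) : L ≃+* L :=
  RingEquiv.ofBijective
    ({ toFun := F.Tv v
       map_one' := F.Tv_one v
       map_mul' := F.Tv_mul v
       map_zero' := F.Tv_zero v
       map_add' := F.Tv_add v } : L →+* L)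
    (Finite.injective_iff_bijective.1 (RingHom.injective _))

theorem sigma_zc (v : Vsub G a t) (c : L) :
    (v : G) * F.ι (zc c) * (v : G)⁻¹ = F.ι (zc (F.sigma v c)) := F.Tv_spec v c

theorem sigma_mul (v w : Vsub G a t) (x : L) : F.sigma (v * w) x = F.sigma v (F.sigma w x) := by
  show F.Tv (v * w) x = F.Tv v (F.Tv w x)
  refine F.Tv_eq ?_
  rw [← F.Tv_spec, ← F.Tv_spec, Subgroup.coe_mul]; group

theorem sigma_kc (v : Vsub G a t) (s : Lˣ) :
    (v : G) * F.ι (kc s) * (v : G)⁻¹ = F.ι (kc (Units.map (F.sigma v : L →* L) s)) := by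
  obtain ⟨s', hs'⟩ := F.exists_kappa v s
  rw [hs']
  congr 2
  refine Units.ext ?_
  apply CharTwo.sq_injective (R := L)
  show (s' : L) ^ 2 = (F.sigma v (s : L)) ^ 2
  rw [← map_pow]
  symm
  refine F.Tv_eq ?_
  have e1 : F.ι (zc ((s : L) ^ 2)) = F.ι (kc s) * F.ι (zc 1) * (F.ι (kc s))⁻¹ := by
    rw [← map_mul, kc_zc, map_mul, mul_inv_cancel_right, mul_one]
  have e2 : F.ι (zc ((s' : L) ^ 2)) = F.ι (kc s') * F.ι (zc 1) * (F.ι (kc s'))⁻¹ := by
    rw [← map_mul, kc_zc, map_mul, mul_inv_cancel_right, mul_one]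
  rw [e1, e2, ← hs']
  conv_rhs => rw [← F.vConj_zc_one v.2]
  group

theorem sigma_conj (v : Vsub G a t) (g : SL2 L) :
    (v : G) * F.ι g * (v : G)⁻¹ = F.ι (slMap (F.sigma v) g) := by
  let f : SL2 L →* G := ((MulAut.conj (v : G)).toMonoidHom).comp F.ι
  let f' : SL2 L →* G := F.ι.comp (slMap (F.sigma v))
  have hz : ∀ c, f (zc c) = f' (zc c) := fun c => by
    show (v : G) * F.ι (zc c) * (v : G)⁻¹ = F.ι (slMap (F.sigma v) (zc c))
    rw [F.sigma_zc, slMap_zc]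
  have hk : ∀ s, f (kc s) = f' (kc s) := fun s => by
    show (v : G) * F.ι (kc s) * (v : G)⁻¹ = F.ι (slMap (F.sigma v) (kc s))
    rw [F.sigma_kc, slMap_kc]
  have hj : f Jm = f' Jm := by
    show (v : G) * F.ι Jm * (v : G)⁻¹ = F.ι (slMap (F.sigma v) Jm)
    rw [slMap_Jm, F.ι_J, mul_inv_eq_iff_eq_mul]
    exact (Subgroup.mem_centralizer_iff.1 (Subgroup.mem_inf.1 v.2).2 t rfl).symm
  show f g = f' g
  rcases bruhat g with ⟨c, s, rfl⟩ | ⟨e, s, d, rfl⟩
  · rw [map_mul, map_mul, hz, hk]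
  · simp only [map_mul, hz, hk, hj]

theorem exists_rho (v : Vsub G a t) : ∃ ρ, F.ι ρ • F.p0 = (v : G) • F.p0 := by
  refine F.smul_p0_surj fun h => F.p0_out ?_
  have hD := (mem_twoPt.1 (F.mem_Vsub.1 v.2).1)
  rcases h with h | ⟨z, hz, h⟩
  · exact Or.inl (smul_left_cancel (v : G) (h.trans hD.1.symm))
  · refine Or.inr ⟨(v : G)⁻¹ * z * (v : G)⁻¹⁻¹, Zsub_conj F.setup F.four (inv_smul_eq_iff.2 hD.1.symm) hz, ?_⟩
    rw [inv_inv, mul_smul, hD.2, mul_smul, h, inv_smul_smul]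

/-- the element of `SL₂` moving `p₀` as `v` does -/
def rho (v : Vsub G a t) : SL2 L := (F.exists_rho v).choose

theorem rho_spec (v : Vsub G a t) : F.ι (F.rho v) • F.p0 = (v : G) • F.p0 := (F.exists_rho v).choose_spec

theorem lab_conj (v : Vsub G a t) (g : SL2 L) :
    (v : G) * F.lab g * (v : G)⁻¹ = F.lab (slMap (F.sigma v) g * F.rho v) := by
  obtain ⟨h1, h2⟩ := mem_twoPt.1 (F.mem_Vsub.1 v.2).1
  refine F.lab_eq (Q_conj F.setup h1 (F.lab_mem g)) ?_
  rw [mul_smul, mul_smul, inv_smul_eq_iff.2 h2.symm, F.lab_spec, map_mul, mul_smul, F.rho_spec,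
    ← F.sigma_conj, mul_smul, mul_smul, inv_smul_smul]

theorem dlt_conj (v : Vsub G a t) (g : SL2 L) :
    F.dlt (slMap (F.sigma v) g * F.rho v) = F.sigma v (F.dlt g) := by
  refine F.dlt_unique ?_
  rw [← F.lab_conj, ← F.sigma_zc, F.dlt_spec]; group

theorem g0_conj (v : Vsub G a t) (g : SL2 L) :
    F.g0 (slMap (F.sigma v) g * F.rho v) = slMap (F.sigma v) (F.g0 g) * F.rho v := by
  rw [g0, g0, F.dlt_conj, map_mul, slMap_zc, mul_assoc]

theorem del_conj (v : Vsub G a t) (r : Row L) :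
    F.del (rowMul (rowMap (F.sigma v) r) (F.rho v)) = F.sigma v (F.del r) := by
  by_cases hr : r = 0
  · subst hr
    have : rowMul (rowMap (F.sigma v) 0) (F.rho v) = 0 := by
      rw [show rowMap (F.sigma v) (0 : Row L) = 0 from funext fun i => map_zero _]
      exact Matrix.zero_vecMul _
    simp [del, this]
  obtain ⟨g, rfl⟩ := F.exists_bot hr
  rw [← bot_slMap, ← bot_mul, F.del_bot, F.dlt_conj, F.del_bot]

theorem hh_conj (v : Vsub G a t) (g : SL2 L) :
    F.hh (slMap (F.sigma v) g * F.rho v) = (v : G) * F.hh g * (v : G)⁻¹ := by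
  obtain ⟨hD, hvt⟩ := F.mem_Vsub.1 v.2
  have htv : t * (v : G) = (v : G) * t :=
    Subgroup.mem_centralizer_iff.1 (Subgroup.mem_inf.1 v.2).2 t rfl
  refine (F.hh_unique (q := (v : G) * F.lab (Jm * g) * (v : G)⁻¹)
    (q' := (v : G) * (F.lab (Jm * F.g0 g))⁻¹ * (v : G)⁻¹)
    (Q_conj F.setup (mem_twoPt.1 hD).1 (F.lab_mem _))
    (Q_conj F.setup (mem_twoPt.1 hD).1 (Q.inv_mem (F.lab_mem _)))
    (mul_mem (mul_mem hD (F.hh_mem g)) (inv_mem hD)) ?_).symm
  rw [← F.lab_conj]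
  calc t * ((v : G) * F.lab g * (v : G)⁻¹) * t = (t * (v : G)) * F.lab g * ((v : G)⁻¹ * t) := by group
    _ = (v : G) * (t * F.lab g * t) * (v : G)⁻¹ := by
        rw [htv, show (v : G)⁻¹ * t = t * (v : G)⁻¹ by
          rw [inv_mul_eq_iff_eq_mul, ← mul_assoc, ← htv, mul_inv_cancel_right]]
        group
    _ = (v : G) * F.lab (Jm * g) * (v : G)⁻¹ * ((v : G) * F.hh g * (v : G)⁻¹) * ((v : G) * t * (v : G)⁻¹) *
          ((v : G) * (F.lab (Jm * F.g0 g))⁻¹ * (v : G)⁻¹) := by rw [F.t_lab_t]; group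
    _ = _ := by rw [← htv, mul_inv_cancel_right]

end Frame

end CfsgLib.RankOneRecog.Unitary
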