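import Cfsg.Agent.Lib.RankOneRecog.Unitary.Torus

/-!
Nine points of the projective line over the field of eight elements coloured with three colours, such
that every point carries a transvection fixing its colour and exchanging the other two: the matrices
preserving the colours form a group of order three without eigenvector.
-/

set_option autoImplicit false
set_option linter.style.haveILetI false
set_option linter.unusedSectionVars false

namespace CfsgLib.RankOneRecog.Unitary

open Matrix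

variable {L : Type} [Field L] [Finite L] [CharP L 2]

local notation "Row" => (Fin 2 → L)
local notation "SL2" => SpecialLinearGroup (Fin 2) L
local notation:max "m[" g "]" => ((g : SpecialLinearGroup (Fin 2) L) : Matrix (Fin 2) (Fin 2) L)

/-- The colouring `Φ` and the coefficients `δ` of the transvections. -/
structure EightData (Φ : (Fin 2 → L) → ZMod 3) (δ : (Fin 2 → L) → L) : Prop where
  card : Nat.card L = 8
  delta_smul : ∀ (c : L) (r : Fin 2 → L), c ≠ 0 → r ≠ 0 → δ (c • r) = δ r / c ^ 2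
  delta_ne : ∀ r : Fin 2 → L, r ≠ 0 → δ r ≠ 0
  phi_smul : ∀ (c : L) (r : Fin 2 → L), c ≠ 0 → r ≠ 0 → Φ (c • r) = Φ r
  fibre : ∀ v : ZMod 3, {r : Fin 2 → L | r ≠ 0 ∧ Φ r = v}.ncard = 21
  hrefl : ∀ P α : Fin 2 → L, detRow P α = 1 → Φ P + Φ (P + δ α • α) = 2 * Φ α

/-- The transvection with centre `α` and coefficient `d`. -/
def trans (d : L) (α : Row) : SL2 :=
  ⟨!![1 + d * α 1 * α 0, d * α 1 * α 1; d * α 0 * α 0, 1 + d * α 0 * α 1], by
    have h2 : (2 : L) = 0 := CharTwo.two_eq_zero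
    rw [Matrix.det_fin_two_of]
    linear_combination (d * α 0 * α 1) * h2⟩

theorem vecMul_trans (d : L) (α P : Row) : P ᵥ* m[trans d α] = P + (d * detRow P α) • α := by
  ext i
  fin_cases i <;>
    simp [trans, detRow, Matrix.vecMul, dotProduct, Fin.sum_univ_two] <;> ring

theorem detRow_self (α : Row) : detRow α α = 0 := by
  have h2 : (2 : L) = 0 := CharTwo.two_eq_zero
  simp only [detRow]
  linear_combination (α 0 * α 1) * h2

theorem detRow_smul_left (c : L) (r s : Row) : detRow (c • r) s = c * detRow r s := by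
  simp only [detRow, Pi.smul_apply, smul_eq_mul]; ring

theorem detRow_add_left (r r' s : Row) : detRow (r + r') s = detRow r s + detRow r' s := by
  simp only [detRow, Pi.add_apply]; ring

theorem exists_smul_of_detRow {P α : Row} (hα : α ≠ 0) (h : detRow P α = 0) : ∃ c : L, P = c • α := by
  have h2 : (2 : L) = 0 := CharTwo.two_eq_zero
  unfold detRow at h
  by_cases h0 : α 0 = 0
  · have h1 : α 1 ≠ 0 := fun e => hα (by ext i; fin_cases i <;> simp [h0, e])
    have hP0 : P 0 = 0 := by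
      rw [h0, mul_zero, add_zero, mul_eq_zero] at h
      exact h.resolve_right h1
    exact ⟨P 1 / α 1, by ext i; fin_cases i <;> simp [h0, hP0, div_mul_cancel₀ _ h1]⟩
  · refine ⟨P 0 / α 0, ?_⟩
    ext i
    fin_cases i
    · simp [div_mul_cancel₀ _ h0]
    · simp only [Fin.isValue, Fin.mk_one, Pi.smul_apply, smul_eq_mul]
      rw [div_mul_eq_mul_div, eq_div_iff h0]
      linear_combination h - (P 0 * α 1) * h2

theorem vecMul_mul (r : Row) (g h : SL2) : r ᵥ* m[g * h] = r ᵥ* m[g] ᵥ* m[h] :=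
  (Matrix.vecMul_vecMul r m[g] m[h]).symm

theorem vecMul_one' (r : Row) : r ᵥ* m[(1 : SL2)] = r :=
  Matrix.vecMul_one r

theorem vecMul_inv_cancel (r : Row) (g : SL2) : r ᵥ* m[g] ᵥ* m[g⁻¹] = r := by
  rw [← vecMul_mul, mul_inv_cancel, vecMul_one']

theorem vecMul_cancel_inv (r : Row) (g : SL2) : r ᵥ* m[g⁻¹] ᵥ* m[g] = r := by
  rw [← vecMul_mul, inv_mul_cancel, vecMul_one']

theorem vecMul_ne_zero {r : Row} (hr : r ≠ 0) (g : SL2) : r ᵥ* m[g] ≠ 0 := fun e =>
  hr (by rw [← vecMul_inv_cancel r g, e, Matrix.zero_vecMul])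

theorem eq_of_vecMul {g h : SL2} (H : ∀ r : Row, r ᵥ* m[g] = r ᵥ* m[h]) : g = h :=
  Subtype.ext (Matrix.ext fun i j => by simpa using congrFun (H (Pi.single i 1)) j)

/-- A row is not on the line of another. -/
def Indep (r s : Row) : Prop := ∀ c : L, r ≠ c • s

theorem Indep.detRow_ne {r s : Row} (hs : s ≠ 0) (h : Indep r s) : detRow r s ≠ 0 := fun e => by
  obtain ⟨c, hc⟩ := exists_smul_of_detRow hs e
  exact h c hc

/-- Three eigenrows in general position force the identity. -/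
theorem eq_one_of_three (g : SL2) {r s t : Row} (hr : r ≠ 0) (hs : s ≠ 0) (hrs : Indep r s) (htr : Indep t r)
    (hts : Indep t s) (er : ∃ c : L, r ᵥ* m[g] = c • r) (es : ∃ c : L, s ᵥ* m[g] = c • s)
    (et : ∃ c : L, t ᵥ* m[g] = c • t) : g = 1 := by
  have h2 : (2 : L) = 0 := CharTwo.two_eq_zero
  obtain ⟨a, ha⟩ := er
  obtain ⟨b, hb⟩ := es
  obtain ⟨e, he⟩ := et
  have hd : detRow r s ≠ 0 := hrs.detRow_ne hs
  have expand : ∀ x : Row, x = (detRow x s / detRow r s) • r + (detRow x r / detRow r s) • s := fun x => by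
    ext i
    fin_cases i <;>
    · simp only [detRow, Fin.isValue, Fin.zero_eta, Fin.mk_one, Pi.add_apply, Pi.smul_apply, smul_eq_mul] at hd ⊢
      rw [div_mul_eq_mul_div, div_mul_eq_mul_div, ← add_div, eq_div_iff hd]
      first
        | linear_combination -(x 1 * r 0 * s 0) * h2
        | linear_combination -(x 0 * r 1 * s 1) * h2
  set u := detRow t s / detRow r s with hu
  set v := detRow t r / detRow r s with hv
  have hu0 : u ≠ 0 := div_ne_zero (hts.detRow_ne hs) hd
  have hv0 : v ≠ 0 := div_ne_zero (htr.detRow_ne hr) hd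
  have ht := expand t
  rw [ht, Matrix.add_vecMul, Matrix.smul_vecMul, Matrix.smul_vecMul, ha, hb] at he
  have hdet : ∀ x y : L, x • r + y • s = 0 → x = 0 ∧ y = 0 := fun x y hxy => by
    have h1 := congrArg (fun z => detRow z s) hxy
    have h3 := congrArg (fun z => detRow z r) hxy
    simp only [detRow_add_left, detRow_smul_left, detRow_self, mul_zero, add_zero, zero_add] at h1 h3
    have hd' : detRow s r ≠ 0 := fun e' => hd (by rw [← e']; simp only [detRow]; ring)
    have z : detRow (0 : Row) s = 0 ∧ detRow (0 : Row) r = 0 := by simp [detRow]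
    rw [z.1] at h1
    rw [z.2] at h3
    exact ⟨(mul_eq_zero.1 h1).resolve_right hd, (mul_eq_zero.1 h3).resolve_right hd'⟩
  obtain ⟨h1, h3⟩ := hdet (u * a - e * u) (v * b - e * v) (by
    rw [← sub_eq_zero] at he
    rw [← he]
    ext i
    simp only [Pi.add_apply, Pi.sub_apply, Pi.smul_apply, smul_eq_mul]
    ring)
  have hae : a = e := mul_left_cancel₀ hu0 (by linear_combination h1)
  have hbe : b = e := mul_left_cancel₀ hv0 (by linear_combination h3)
  have hall : ∀ x : Row, x ᵥ* m[g] = e • x := fun x => by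
    conv_lhs => rw [expand x]
    conv_rhs => rw [expand x]
    rw [Matrix.add_vecMul, Matrix.smul_vecMul, Matrix.smul_vecMul, ha, hb, hae, hbe, smul_add, smul_comm e,
      smul_comm e]
  have hm : m[g] = e • (1 : Matrix (Fin 2) (Fin 2) L) := Matrix.ext fun i j => by
    have := congrFun (hall (Pi.single i 1)) j
    simpa [Matrix.one_apply, Pi.single_apply, eq_comm] using this
  have he1 : e = 1 := by
    have h4 := g.det_coe
    rw [hm, Matrix.det_smul, Matrix.det_one, mul_one, Fintype.card_fin] at h4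
    exact (CharTwo.sq_injective (R := L)) (by simpa using h4)
  exact Subtype.ext (hm.trans (by rw [he1, one_smul]; rfl))

section

variable {Φ : (Fin 2 → L) → ZMod 3} {δ : (Fin 2 → L) → L} (h : EightData Φ δ)

/-- The colour preserving matrices. -/
def colourGroup (Φ : Row → ZMod 3) : Subgroup SL2 where
  carrier := {g | ∀ r : Row, r ≠ 0 → Φ (r ᵥ* m[g]) = Φ r}
  one_mem' r _ := by rw [vecMul_one']
  mul_mem' {g g'} hg hg' r hr := by
    rw [vecMul_mul, hg' _ (vecMul_ne_zero hr g), hg r hr]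
  inv_mem' {g} hg r hr := by
    conv_rhs => rw [← vecMul_cancel_inv r g]
    exact (hg _ (vecMul_ne_zero hr g⁻¹)).symm

include h in
theorem EightData.phi_trans {α P : Row} (hα : α ≠ 0) (hP : P ≠ 0) :
    Φ (P ᵥ* m[trans (δ α) α]) = 2 * Φ α - Φ P := by
  rw [vecMul_trans]
  by_cases hd : detRow P α = 0
  · obtain ⟨c, rfl⟩ := exists_smul_of_detRow hα hd
    have hc : c ≠ 0 := fun e => hP (by rw [e, zero_smul])
    rw [hd, mul_zero, zero_smul, add_zero, h.phi_smul c α hc hα]
    ring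
  · set d := detRow P α
    have hP' : detRow (d⁻¹ • P) α = 1 := by rw [detRow_smul_left, inv_mul_cancel₀ hd]
    have e1 := h.hrefl _ α hP'
    have hne : d⁻¹ • P + δ α • α ≠ 0 := fun e => by
      have := congrArg (fun z => detRow z α) e
      simp only [detRow_add_left, detRow_smul_left, detRow_self, mul_zero, add_zero] at this
      exact one_ne_zero (hP'.symm.trans (by rw [detRow_smul_left, this]; simp [detRow]))
    have e2 : P + (δ α * d) • α = d • (d⁻¹ • P + δ α • α) := by
      rw [smul_add, smul_smul, smul_smul, mul_inv_cancel₀ hd, one_smul, mul_comm]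
    rw [e2, h.phi_smul d _ hd hne, ← e1, h.phi_smul _ _ (inv_ne_zero hd) hP]
    ring

include h in
theorem EightData.card_multiples (v : ZMod 3) (n : ℕ) (f : Fin n → Row) (hn : n ≤ 2) :
    ∃ r : Row, r ≠ 0 ∧ Φ r = v ∧ ∀ i, Indep r (f i) := by
  classical
  haveI := Fintype.ofFinite L
  by_contra hcon
  push_neg at hcon
  have hsub : {r : Row | r ≠ 0 ∧ Φ r = v} ⊆ Set.range (fun p : Fin n × L => p.2 • f p.1) := by
    rintro r ⟨hr, hv⟩
    obtain ⟨i, hi⟩ := hcon r hr hv
    simp only [Indep, ne_eq, not_forall, not_not] at hi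
    obtain ⟨c, rfl⟩ := hi
    exact ⟨(i, c), rfl⟩
  have h1 := (Set.ncard_le_ncard hsub (Set.finite_range _)).trans
    ((Nat.card_coe_set_eq _).symm.trans_le (Finite.card_range_le _))
  rw [h.fibre v, Nat.card_prod, Nat.card_fin, h.card] at h1
  have : n * 8 ≤ 2 * 8 := Nat.mul_le_mul_right 8 hn
  omega

include h in
theorem EightData.no_four_lines (v : ZMod 3) (f : Fin 4 → Row) (hf : ∀ i, f i ≠ 0 ∧ Φ (f i) = v)
    (hi : ∀ i j, i ≠ j → Indep (f i) (f j)) : False := by
  classical
  haveI := Fintype.ofFinite L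
  let F : Fin 4 × Lˣ → {r : Row | r ≠ 0 ∧ Φ r = v} := fun p =>
    ⟨(p.2 : L) • f p.1, smul_ne_zero p.2.ne_zero (hf p.1).1,
      (h.phi_smul _ _ p.2.ne_zero (hf p.1).1).trans (hf p.1).2⟩
  have hF : Function.Injective F := by
    rintro ⟨i, c⟩ ⟨j, c'⟩ e
    have e' : (c : L) • f i = (c' : L) • f j := congrArg Subtype.val e
    by_cases hij : i = j
    · subst hij
      have := smul_left_injective L (hf i).1 e'
      rw [Units.ext this]
    · refine absurd ?_ (hi i j hij ((c : L)⁻¹ * c'))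
      rw [mul_smul, ← e', smul_smul, inv_mul_cancel₀ c.ne_zero, one_smul]
  have h1 := Nat.card_le_card_of_injective F hF
  rw [Nat.card_prod, Nat.card_fin, Nat.card_units, h.card, Nat.card_coe_set_eq, h.fibre v] at h1
  omega

theorem eq_one_of_sq {g : SL2} (hg : g * g = 1) (hne : g ≠ 1) :
    ∃ r : Row, r ≠ 0 ∧ r ᵥ* m[g] = r := by
  by_contra hcon
  push_neg at hcon
  refine hne (eq_of_vecMul fun r => ?_)
  rw [vecMul_one']
  by_contra hr
  refine hcon (r + r ᵥ* m[g]) (fun e => hr ?_) ?_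
  · ext i
    exact (CharTwo.add_eq_zero.1 (congrFun e i)).symm
  · rw [Matrix.add_vecMul, ← vecMul_mul, hg, vecMul_one', add_comm]

include h in
theorem EightData.sq_fixed {g : SL2} (hg : g ∈ colourGroup Φ) (hgg : g * g = 1) : g = 1 := by
  classical
  haveI := Fintype.ofFinite L
  by_contra hne
  have hfix : ∀ v : ZMod 3, ∃ r : Row, r ≠ 0 ∧ Φ r = v ∧ r ᵥ* m[g] = r := by
    intro v
    by_contra hcon
    push_neg at hcon
    let σ : {r : Row | r ≠ 0 ∧ Φ r = v} → {r : Row | r ≠ 0 ∧ Φ r = v} := fun r =>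
      ⟨r.1 ᵥ* m[g], vecMul_ne_zero r.2.1 g, (hg r.1 r.2.1).trans r.2.2⟩
    have hσ : Function.Involutive σ := fun r => Subtype.ext (by
      show r.1 ᵥ* m[g] ᵥ* m[g] = r.1
      rw [← vecMul_mul, hgg, vecMul_one'])
    have hodd : ¬2 ∣ Fintype.card {r : Row | r ≠ 0 ∧ Φ r = v} := by
      rw [← Nat.card_eq_fintype_card, Nat.card_coe_set_eq, h.fibre v]
      decide
    haveI : Fact (Nat.Prime 2) := ⟨Nat.prime_two⟩
    obtain ⟨r, hr⟩ := Equiv.Perm.exists_fixed_point_of_prime (p := 2) (n := 1) hodd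
      (σ := hσ.toPerm σ) (by
        ext r : 1
        rw [pow_one, sq, Equiv.Perm.mul_apply, Equiv.Perm.one_apply]
        exact hσ r)
    exact hcon r.1 r.2.1 r.2.2 (congrArg Subtype.val hr)
  obtain ⟨r, hr, hr0, er⟩ := hfix 0
  obtain ⟨s, hs, hs1, es⟩ := hfix 1
  have hind : Indep r s := fun c e => by
    have hc : c ≠ 0 := fun e' => hr (by rw [e, e', zero_smul])
    rw [e, h.phi_smul c s hc hs, hs1] at hr0
    exact absurd hr0 (by decide)
  refine hne (eq_one_of_three g hr hs hind (t := r + s) ?_ ?_ ⟨1, by rw [one_smul, er]⟩ ⟨1, by rw [one_smul, es]⟩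
    ⟨1, by rw [one_smul, Matrix.add_vecMul, er, es]⟩)
  · intro c e
    exact (hind.detRow_ne hs) (by
      have h1 := congrArg (fun z => detRow z r) e
      simp only [detRow_add_left, detRow_smul_left, detRow_self, mul_zero, zero_add] at h1
      rw [← h1]; simp only [detRow]; ring)
  · intro c e
    exact (hind.detRow_ne hs) (by
      have h1 := congrArg (fun z => detRow z s) e
      simp only [detRow_add_left, detRow_smul_left, detRow_self, mul_zero, add_zero] at h1
      exact h1)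

include h in
theorem EightData.eq_one_of_eigen {g : SL2} (hg : g ∈ colourGroup Φ) {r₀ : Row} (hr₀ : r₀ ≠ 0)
    {l : L} (hl : r₀ ᵥ* m[g] = l • r₀) : g = 1 := by
  have hl0 : l ≠ 0 := fun e => vecMul_ne_zero hr₀ g (by rw [hl, e, zero_smul])
  -- every row of the colour of `r₀` is an eigenrow of the square
  have key : ∀ r : Row, r ≠ 0 → Φ r = Φ r₀ → Indep r r₀ → ∃ c : L, r ᵥ* m[g * g] = c • r := by
    intro r hr hv hind
    by_contra hcon
    push_neg at hcon
    have hne1 : ∀ c : L, r ᵥ* m[g] ≠ c • r := fun c e => hcon (c * c) (by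
      rw [vecMul_mul, e, Matrix.smul_vecMul, e, smul_smul])
    have back : ∀ (x : Row) (c : L), x ᵥ* m[g] = c • r₀ → x = (c / l) • r₀ := fun x c e => by
      rw [← vecMul_inv_cancel x g, e]
      conv_rhs => rw [← vecMul_inv_cancel r₀ g, hl, Matrix.smul_vecMul, smul_smul, div_mul_cancel₀ c hl0]
      rw [Matrix.smul_vecMul]
    have sym : ∀ x y : Row, y ≠ 0 → Indep x y → Indep y x := fun x y hy hxy c e => by
      have hc : c ≠ 0 := fun hc => hy (by rw [e, hc, zero_smul])
      exact hxy c⁻¹ (by rw [e, smul_smul, inv_mul_cancel₀ hc, one_smul])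
    have i1 : Indep (r ᵥ* m[g]) r₀ := fun c e => hind _ (back r c e)
    have i2 : Indep (r ᵥ* m[g * g]) r₀ := fun c e => by
      rw [vecMul_mul] at e
      exact i1 _ (back _ c e)
    have i3 : Indep (r ᵥ* m[g * g]) (r ᵥ* m[g]) := fun c e => by
      refine hne1 c ?_
      have := congrArg (fun z => z ᵥ* m[g⁻¹]) e
      simp only [vecMul_mul, vecMul_inv_cancel, Matrix.smul_vecMul] at this
      exact this
    have hg2 : g * g ∈ colourGroup Φ := mul_mem hg hg
    refine h.no_four_lines (Φ r₀) ![r₀, r, r ᵥ* m[g], r ᵥ* m[g * g]] ?_ ?_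
    · intro i
      fin_cases i
      · exact ⟨hr₀, rfl⟩
      · exact ⟨hr, hv⟩
      · exact ⟨vecMul_ne_zero hr g, (hg r hr).trans hv⟩
      · exact ⟨vecMul_ne_zero hr _, (hg2 r hr).trans hv⟩
    · intro i j hij
      fin_cases i <;> fin_cases j <;> simp at hij ⊢
      · exact sym _ _ hr₀ hind
      · exact sym _ _ hr₀ i1
      · exact sym _ _ hr₀ i2
      · exact hind
      · exact sym _ _ hr hne1
      · exact sym _ _ hr hcon
      · exact i1
      · exact hne1
      · exact sym _ _ (vecMul_ne_zero hr g) i3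
      · exact i2
      · exact hcon
      · exact i3
  obtain ⟨r, hr, hv, hi⟩ := h.card_multiples (Φ r₀) 1 ![r₀] (by omega)
  obtain ⟨s, hs, hvs, his⟩ := h.card_multiples (Φ r₀) 2 ![r₀, r] le_rfl
  have hi0 : Indep r r₀ := hi 0
  have his0 : Indep s r₀ := his 0
  have his1 : Indep s r := his 1
  refine h.sq_fixed hg (eq_one_of_three (g * g) hr hr₀ hi0 his1 his0 (key r hr hv hi0) ⟨l * l, ?_⟩
    (key s hs hvs his0))
  rw [vecMul_mul, hl, Matrix.smul_vecMul, hl, smul_smul]

include h in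
/-- The colour preserving matrices form a group of order three without eigenrow, preserving `δ`. -/
theorem EightData.exists_rho : ∃ ρ : SL2, ρ ≠ 1 ∧ ρ ^ 3 = 1 ∧
    (∀ g ∈ Subgroup.zpowers ρ, g ≠ 1 → ∀ r : Row, r ≠ 0 → ∀ l : L, r ᵥ* m[g] ≠ l • r) ∧
    (∀ r : Row, δ (r ᵥ* m[ρ]) = δ r) ∧
    ∀ g : SL2, (∀ r : Row, r ≠ 0 → Φ (r ᵥ* m[g]) = Φ r) ↔ g ∈ Subgroup.zpowers ρ := by
  classical
  haveI := Fintype.ofFinite L
  obtain ⟨α, hα, hαv, -⟩ := h.card_multiples 0 0 ![] (by omega)
  obtain ⟨β, hβ, hβv, hind⟩ := h.card_multiples 0 1 ![α] (by omega)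
  obtain ⟨ρ, hρdef⟩ : ∃ ρ : SL2, ρ = trans (δ α) α * trans (δ β) β := ⟨_, rfl⟩
  have hρ : ρ ∈ colourGroup Φ := fun r hr => by
    rw [hρdef, vecMul_mul, h.phi_trans hβ (vecMul_ne_zero hr _), h.phi_trans hα hr, hαv, hβv]
    ring
  have hρ1 : ρ ≠ 1 := by
    intro e
    have hβfix : β ᵥ* m[trans (δ β) β] = β := by
      rw [vecMul_trans, detRow_self, mul_zero, zero_smul, add_zero]
    have h1 : β ᵥ* m[trans (δ α) α] = β := by
      have e2 : β ᵥ* m[ρ] = β := by rw [e, vecMul_one']
      rw [hρdef, vecMul_mul] at e2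
      have e3 := congrArg (fun z => z ᵥ* m[(trans (δ β) β)⁻¹]) e2
      simp only [vecMul_inv_cancel] at e3
      have e4 := vecMul_inv_cancel β (trans (δ β) β)
      rw [hβfix] at e4
      exact e3.trans e4
    rw [vecMul_trans, add_eq_left, smul_eq_zero, mul_eq_zero] at h1
    have hd : detRow β α ≠ 0 := (hind 0).detRow_ne hα
    rcases h1 with (h1 | h1) | h1
    · exact h.delta_ne α hα h1
    · exact hd h1
    · exact hα h1
  have heig : ∀ g ∈ colourGroup Φ, g ≠ 1 → ∀ r : Row, r ≠ 0 → ∀ l : L, r ᵥ* m[g] ≠ l • r :=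
    fun g hg hne r hr l e => hne (h.eq_one_of_eigen hg hr e)
  have hcard : Nat.card (colourGroup Φ) ≤ 3 := by
    let F : colourGroup Φ × Lˣ → {r : Row | r ≠ 0 ∧ Φ r = 0} := fun p =>
      ⟨(p.2 : L) • (α ᵥ* m[p.1.1]), smul_ne_zero p.2.ne_zero (vecMul_ne_zero hα _),
        (h.phi_smul _ _ p.2.ne_zero (vecMul_ne_zero hα _)).trans ((p.1.2 α hα).trans hαv)⟩
    have hF : Function.Injective F := by
      rintro ⟨⟨g, hg⟩, c⟩ ⟨⟨g', hg'⟩, c'⟩ e
      have e' : (c : L) • (α ᵥ* m[g]) = (c' : L) • (α ᵥ* m[g']) := congrArg Subtype.val e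
      have e1 : g * g'⁻¹ = 1 := h.eq_one_of_eigen (mul_mem hg (inv_mem hg')) hα (l := (c : L)⁻¹ * c') (by
        have := congrArg (fun z => z ᵥ* m[g'⁻¹]) e'
        simp only [Matrix.smul_vecMul, vecMul_inv_cancel] at this
        rw [vecMul_mul, mul_smul, ← this, smul_smul, inv_mul_cancel₀ c.ne_zero, one_smul])
      obtain rfl := mul_inv_eq_one.1 e1
      rw [Units.ext (smul_left_injective L (vecMul_ne_zero hα g) e')]
    have h1 := Nat.card_le_card_of_injective F hF
    rw [Nat.card_prod, Nat.card_units, h.card, Nat.card_coe_set_eq, h.fibre 0] at h1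
    omega
  have hord : orderOf ρ = 3 := by
    have hle : orderOf ρ ≤ 3 := by
      rw [← Nat.card_zpowers]
      exact (Subgroup.card_le_of_le (Subgroup.zpowers_le.2 hρ)).trans hcard
    have h0 : 0 < orderOf ρ := orderOf_pos ρ
    have h1 : orderOf ρ ≠ 1 := fun e => hρ1 (orderOf_eq_one_iff.1 e)
    have h2 : orderOf ρ ≠ 2 := fun e => hρ1 (h.sq_fixed hρ (by
      have := pow_orderOf_eq_one ρ
      rwa [e, sq] at this))
    omega
  have heq : Subgroup.zpowers ρ = colourGroup Φ :=
    Subgroup.eq_of_le_of_card_ge (Subgroup.zpowers_le.2 hρ) (by rwa [Nat.card_zpowers, hord])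
  refine ⟨ρ, hρ1, by rw [← hord, pow_orderOf_eq_one], fun g hg => heig g (heq ▸ hg), fun r => ?_,
    fun g => by rw [heq]; rfl⟩
  by_cases hr : r = 0
  · rw [hr, Matrix.zero_vecMul]
  have hr' := vecMul_ne_zero hr ρ
  -- the conjugate transvection agrees with the one at the image
  have hT : ∀ P : Row, P ᵥ* m[ρ⁻¹ * trans (δ r) r * ρ] =
      P + (δ r * detRow P (r ᵥ* m[ρ])) • (r ᵥ* m[ρ]) := fun P => by
    rw [vecMul_mul, vecMul_mul, vecMul_trans, Matrix.add_vecMul, Matrix.smul_vecMul, vecMul_cancel_inv]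
    congr 3
    conv_rhs => rw [← vecMul_cancel_inv P ρ]
    rw [detRow_vecMul, ρ.det_coe, one_mul]
  have hk : ρ⁻¹ * trans (δ r) r * ρ * trans (δ (r ᵥ* m[ρ])) (r ᵥ* m[ρ]) ∈ colourGroup Φ := by
    intro P hP
    have hP' := vecMul_ne_zero hP ρ⁻¹
    rw [vecMul_mul, h.phi_trans hr' (vecMul_ne_zero hP _), vecMul_mul, vecMul_mul,
      hρ _ (vecMul_ne_zero hP' _), h.phi_trans hr hP', (inv_mem hρ : ρ⁻¹ ∈ colourGroup Φ) P hP, hρ r hr]
    ring
  have h1 := h.eq_one_of_eigen hk hr' (l := 1) (by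
    rw [vecMul_mul, hT, detRow_self, mul_zero, zero_smul, add_zero, vecMul_trans, detRow_self, mul_zero,
      zero_smul, add_zero, one_smul])
  obtain ⟨P, hP, -, hPi⟩ := h.card_multiples 0 1 ![r ᵥ* m[ρ]] (by omega)
  have hd : detRow P (r ᵥ* m[ρ]) ≠ 0 := (hPi 0).detRow_ne hr'
  have h2 := congrArg (fun g : SL2 => P ᵥ* m[g]) h1
  simp only [vecMul_mul _ (ρ⁻¹ * trans (δ r) r * ρ), vecMul_one', hT, vecMul_trans] at h2
  rw [detRow_add_left, detRow_smul_left, detRow_self, mul_zero, add_zero, add_assoc, add_eq_left,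
    ← add_smul, smul_eq_zero, or_iff_left hr', CharTwo.add_eq_zero] at h2
  exact (mul_right_cancel₀ hd h2).symm

end

end CfsgLib.RankOneRecog.Unitary
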