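import Cfsg.Agent.Lib.RankOneRecog.Unitary.Twist

/-!
The field computations: the quadratic function is the inverse of the norm, the class function is trivial,
and the elements of `V` attached to pairs act as explicit multiplications.
-/

set_option autoImplicit false
set_option linter.unusedSectionVars false
set_option linter.style.haveILetI false

noncomputable section

namespace CfsgLib.RankOneRecog.Unitary

open CfsgLib.RankOneInvol CfsgLib.RankOneTwo
open scoped Matrix

universe u v

section Torus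

variable {L : Type} [Field L] [Finite L] [CharP L 2] {R : Subgroup (SL2 L)} {K : Type} [Field K] [Finite K]
  [CharP K 2] (T : TorusData L R K)

theorem exists_exp : ∃ f, Nat.card L = 2 ^ f := by
  letI : Algebra (ZMod 2) L := ZMod.algebra L 2
  exact ⟨_, by rw [Module.natCard_eq_pow_finrank (K := ZMod 2) (V := L), Nat.card_zmod]⟩

theorem card_ne_zero : Nat.card L ≠ 0 := Nat.card_pos.ne'

include T in
theorem bar_bar (x : K) : (x ^ Nat.card L) ^ Nat.card L = x := by
  haveI := Fintype.ofFinite K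
  rw [← pow_mul, ← sq, ← T.card, Nat.card_eq_fintype_card, FiniteField.pow_card]

theorem bar_add (x y : K) : (x + y) ^ Nat.card L = x ^ Nat.card L + y ^ Nat.card L := by
  obtain ⟨f, hf⟩ := exists_exp (L := L)
  haveI : Fact (Nat.Prime 2) := ⟨Nat.prime_two⟩
  rw [hf, add_pow_char_pow]

theorem emb_bar (l : L) : T.emb l ^ Nat.card L = T.emb l := (T.emb_range _).2 ⟨l, rfl⟩

theorem e_eq_zero {r : Row L} : T.e r = 0 ↔ r = 0 := by
  constructor
  · intro h; exact T.e.injective (h.trans (map_zero T.e).symm)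
  · rintro rfl; exact map_zero T.e

theorem symm_ne_zero {x : K} (hx : x ≠ 0) : T.e.symm x ≠ 0 := fun h => hx (by
  rw [← T.e.apply_symm_apply x, h, map_zero])

theorem symm_smul (l : L) (x : K) : T.e.symm (T.emb l * x) = l • T.e.symm x :=
  T.e.injective (by rw [T.e_smul, AddEquiv.apply_symm_apply, AddEquiv.apply_symm_apply])

theorem emb_det (r s : Row L) : T.emb (det2 r s) = detF (Nat.card L) (T.e r) (T.e s) := T.e_det r s

include T in
theorem sq_fixed (τ : K ≃+* K) (hfix : ∀ l, τ (T.emb l) = T.emb l) (y : K) : τ (τ y) = y := by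
  set q := Nat.card L
  have hfx : ∀ x : K, x ^ q = x → τ x = x := fun x hx => by
    obtain ⟨l, rfl⟩ := (T.emb_range x).1 hx
    exact hfix l
  have hN : τ (y * y ^ q) = y * y ^ q := hfx _ (by rw [mul_pow, bar_bar T, mul_comm])
  have hT : τ (y + y ^ q) = y + y ^ q := hfx _ (by rw [bar_add, bar_bar T, add_comm])
  have h2 : τ (y ^ q) = τ y ^ q := map_pow τ y q
  rw [map_mul, h2] at hN
  rw [map_add, h2] at hT
  have hroot : (τ y - y) * (τ y - y ^ q) = 0 := by linear_combination (τ y) * hT - hN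
  rcases mul_eq_zero.1 hroot with h | h
  · rw [sub_eq_zero.1 h, sub_eq_zero.1 h]
  · rw [sub_eq_zero.1 h, h2, sub_eq_zero.1 h, bar_bar T]

end Torus

variable {G : Type u} {Ω : Type v} [Group G] [MulAction G Ω] [Finite G] [FaithfulSMul G Ω]
  {a : Ω} {t : G} {Q : Subgroup G} {L : Type} [Field L] [Fintype L] [CharP L 2]
  {R : Subgroup (SL2 L)} {K : Type} [Field K] [Fintype K] [CharP K 2]

namespace Frame

variable (F : Frame a t Q L) (hR : F.GoodTwist R) (T : TorusData L R K)
include F hR T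

theorem exists_semilinear (v : Vsub G a t) : ∃ (ξ : K) (τ : K ≃+* K), ξ ^ (Nat.card L + 1) = 1 ∧
    (∀ l, τ (T.emb l) = T.emb (F.sigma v l)) ∧ ∀ r, T.e (F.semi v r) = ξ * τ (T.e r) :=
  T.e_semi (F.sigma v) (F.rho v).1 (F.rho v).2 (hR.2.2.2.2.2 v)

/-- the multiplier of `v` -/
def xi (v : Vsub G a t) : K := (F.exists_semilinear hR T v).choose

/-- the automorphism of `v` -/
def tau (v : Vsub G a t) : K ≃+* K := (F.exists_semilinear hR T v).choose_spec.choose

theorem xi_pow (v : Vsub G a t) : F.xi hR T v ^ (Nat.card L + 1) = 1 :=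
  (F.exists_semilinear hR T v).choose_spec.choose_spec.1

theorem xi_ne_zero (v : Vsub G a t) : F.xi hR T v ≠ 0 := fun h => by
  simpa [h] using F.xi_pow hR T v

theorem tau_emb (v : Vsub G a t) (l : L) : F.tau hR T v (T.emb l) = T.emb (F.sigma v l) :=
  (F.exists_semilinear hR T v).choose_spec.choose_spec.2.1 l

theorem e_semi (v : Vsub G a t) (r : Row L) : T.e (F.semi v r) = F.xi hR T v * F.tau hR T v (T.e r) :=
  (F.exists_semilinear hR T v).choose_spec.choose_spec.2.2 r

theorem tau_mul (v w : Vsub G a t) : F.tau hR T (v * w) = F.tau hR T v * F.tau hR T w := by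
  have key : ∀ y : K, F.xi hR T (v * w) * F.tau hR T (v * w) y =
      F.xi hR T v * F.tau hR T v (F.xi hR T w) * F.tau hR T v (F.tau hR T w y) := fun y => by
    have h := F.e_semi hR T (v * w) (T.e.symm y)
    rw [F.semi_mul, F.e_semi hR T v, F.e_semi hR T w, map_mul, AddEquiv.apply_symm_apply, ← mul_assoc] at h
    exact h.symm
  refine RingEquiv.ext fun y => ?_
  have h1 := key 1
  rw [map_one, map_one, map_one, mul_one, mul_one] at h1
  have hy := key y
  rw [h1] at hy
  exact mul_left_cancel₀ (h1 ▸ F.xi_ne_zero hR T _) hy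

/-- the automorphisms of the big field -/
def tauHom : Vsub G a t →* RingAut K := MonoidHom.mk' (F.tau hR T) (F.tau_mul hR T)

theorem tau_ker : F.sigmaHom.ker ≤ (F.tauHom hR T).ker := by
  intro v hv
  have hsq : F.tauHom hR T v ^ 2 = 1 := by
    rw [sq]
    exact RingEquiv.ext fun y => sq_fixed T _ (fun l => by
      show F.tau hR T v (T.emb l) = _
      rw [F.tau_emb, F.sigma_eq_refl hv]) y
  have hodd : F.tauHom hR T v ^ Nat.card (Vsub G a t) = 1 := by
    rw [← map_pow, pow_card_eq_one', map_one]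
  obtain ⟨j, hj⟩ := F.odd_card_V
  rw [hj, pow_succ, pow_mul, hsq, one_pow, one_mul] at hodd
  exact hodd

theorem semi_mul_of_tau {v : Vsub G a t} (h : F.tau hR T v = 1) (r : Row L) :
    T.e (F.semi v r) = F.xi hR T v * T.e r := by
  rw [F.e_semi hR T, h]; rfl

/-- the values of the class function form a commutative group -/
@[reducible] def rangeComm : CommGroup F.sigmaHom.range :=
  { (inferInstance : Group F.sigmaHom.range) with
    mul_comm := fun x y => Subtype.ext (ringAut_mul_comm (x : RingAut L) y) }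

/-- the class function on the big field -/
def phiK (x : K) : F.sigmaHom.range := F.sigmaHom.rangeRestrict (F.phi (T.e.symm x))

/-- the quadratic function on the big field -/
def cK (x : K) : K := x ^ (Nat.card L + 1) * T.emb (F.del (T.e.symm x))

theorem e_smul_del {r : Row L} (hr : r ≠ 0) :
    T.emb (F.del r) * T.e r = F.cK T (T.e r) / T.e r ^ Nat.card L := by
  rw [cK, AddEquiv.symm_apply_apply, eq_div_iff (pow_ne_zero _ fun h => hr ((e_eq_zero T).1 h)), pow_succ]
  ring

theorem e_pA {r s : Row L} (h : det2 r s ≠ 0) :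
    T.e (F.pA r s) = ptA (Nat.card L) (F.cK T (T.e r)) (T.e r) (T.e s) := by
  rw [pA, map_add, T.e_smul, T.e_smul, map_inv₀, emb_det T, F.e_smul_del hR T (ne_zero_of_det2 h).1, ptA,
    inv_mul_eq_div]

theorem det_of_detF {P B : K} (h : detF (Nat.card L) P B ≠ 0) : det2 (T.e.symm P) (T.e.symm B) ≠ 0 :=
  fun e => h (by
    have := emb_det T (T.e.symm P) (T.e.symm B)
    rw [e, map_zero, AddEquiv.apply_symm_apply, AddEquiv.apply_symm_apply] at this
    exact this.symm)

theorem sum_one {P B : K} (h : detF (Nat.card L) P B ≠ 0) :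
    B * P ^ Nat.card L / detF (Nat.card L) P B + B ^ Nat.card L * P / detF (Nat.card L) P B = 1 := by
  rw [← add_div, div_eq_one_iff_eq h, detF]; ring

theorem detF_bar (P B : K) : detF (Nat.card L) P B ^ Nat.card L = detF (Nat.card L) P B := by
  obtain ⟨r, rfl⟩ := T.e.surjective P
  obtain ⟨s, rfl⟩ := T.e.surjective B
  rw [← emb_det T, emb_bar T]

/-- the two equations of a pair, in the big field -/
theorem eq_field {r s : Row L} (h : det2 r s ≠ 0) : ∃ m : L, m ≠ 0 ∧
    T.emb m * (F.xi hR T ((F.phi r)⁻¹ * F.phi s) * F.tau hR T ((F.phi r)⁻¹ * F.phi s) (T.e s)) *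
        T.e (F.pA r s) ^ Nat.card L =
      T.e r * T.e (F.pA r s) ^ Nat.card L + F.cK T (T.e (F.pA r s)) ∧
    F.xi hR T ((F.phi r)⁻¹ * F.phi s) * F.tau hR T ((F.phi r)⁻¹ * F.phi s) (T.e (F.pA s r)) =
      T.emb m * T.e (F.pA r s) := by
  obtain ⟨m, hm, e1, e2⟩ := F.eq_pair h
  have hA : F.pA r s ≠ 0 := fun e => by
    have h1 : det2 r (F.pA r s) = 1 := by
      rw [pA, det2_add_right, det2_smul_right, det2_smul_right, det2_self, mul_zero, add_zero,
        inv_mul_cancel₀ h]
    rw [e] at h1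
    simp [det2] at h1
  have hA0 : T.e (F.pA r s) ^ Nat.card L ≠ 0 := pow_ne_zero _ fun e => hA ((e_eq_zero T).1 e)
  refine ⟨m, hm, ?_, ?_⟩
  · have h1 := congrArg T.e e1
    rw [T.e_smul, F.e_semi hR T, map_add, T.e_smul, F.e_smul_del hR T hA] at h1
    rw [h1, add_mul, div_mul_cancel₀ _ hA0]
  · have h2 := congrArg T.e e2
    rwa [T.e_smul, F.e_semi hR T] at h2

theorem sigmaHom_eq_iff {v w : Vsub G a t} :
    F.sigmaHom.rangeRestrict v = F.sigmaHom.rangeRestrict w ↔ v⁻¹ * w ∈ F.sigmaHom.ker := by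
  rw [MonoidHom.mem_ker, map_mul, map_inv, inv_mul_eq_one, Subtype.ext_iff]
  rfl

theorem fieldData : ∃ f ρ, letI := F.rangeComm;
    FieldData (Nat.card L) f (F.phiK T) (F.cK T) ρ := by
  letI := F.rangeComm
  obtain ⟨f, hf2, hfZ, -⟩ := exists_exponent F.setup F.four
  obtain ⟨ρ, hρ, hρ1⟩ := R.bot_or_exists_ne_one.resolve_left hR.1
  obtain ⟨ξ, hξ, hmul⟩ := T.e_mul ρ hρ
  have hmul' : ∀ x : K, T.e.symm (ξ * x) = rowMul (T.e.symm x) ρ := fun x => T.e.injective (by
    rw [show T.e (rowMul (T.e.symm x) ρ) = ξ * T.e (T.e.symm x) from hmul _, AddEquiv.apply_symm_apply,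
      AddEquiv.apply_symm_apply])
  refine ⟨f, ξ, ⟨T.card, by rw [Nat.card_eq_fintype_card, ← F.card_Z, hfZ], hf2, ?_, ?_, ?_, ?_, ?_, hξ,
    ?_, ?_, ?_, ?_⟩⟩
  · intro x l hx hl hlq
    obtain ⟨l', rfl⟩ := (T.emb_range l).1 hlq
    rw [phiK, phiK, symm_smul T, F.phi_smul (fun e => hl (by rw [e, map_zero]))]
  · intro x l hx hl hlq
    obtain ⟨l', rfl⟩ := (T.emb_range l).1 hlq
    have hl' : l' ≠ 0 := fun e => hl (by rw [e, map_zero])
    rw [cK, cK, symm_smul T, F.del_smul hl', map_div₀, map_pow, mul_pow, pow_succ (T.emb l'), hlq]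
    field_simp
  · intro x hx
    rw [cK, mul_pow, emb_bar T, pow_succ, mul_pow, bar_bar T, mul_comm x]
  · intro x hx
    exact mul_ne_zero (pow_ne_zero _ hx)
      ((map_ne_zero T.emb).2 (F.del_ne_zero (symm_ne_zero T hx)))
  · rintro rfl
    refine hρ1 (ext_rows ?_ ?_)
    · rw [← one_mul ρ, top_mul]
      exact T.e.injective ((hmul _).trans (one_mul _))
    · rw [← one_mul ρ, bot_mul]
      exact T.e.injective ((hmul _).trans (one_mul _))
  · intro x hx
    refine Subtype.ext ?_
    rw [phiK, phiK, hmul']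
    exact hR.2.2.2.1 ρ hρ _ (symm_ne_zero T hx)
  · intro x hx
    rw [cK, cK, hmul', hR.2.2.2.2.1 ρ hρ, mul_pow, hξ, one_mul]
  · intro P B hu
    have h := F.det_of_detF hR T hu
    have e := F.e_pA hR T h
    rw [AddEquiv.apply_symm_apply, AddEquiv.apply_symm_apply] at e
    rw [← e, sq]
    simp only [phiK, AddEquiv.symm_apply_apply]
    have h1 := congrArg F.sigmaHom.rangeRestrict (F.phi_refl h)
    rw [map_mul, map_mul, map_inv, map_inv, inv_mul_eq_iff_eq_mul] at h1
    rw [h1, mul_assoc, mul_comm (_ * _) (F.sigmaHom.rangeRestrict (F.phi (T.e.symm B))), mul_inv_cancel_left]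
  · intro P B hu hPB
    have h := F.det_of_detF hR T hu
    obtain ⟨m, hm, h1, h2⟩ := F.eq_field hR T h
    have hw : (F.phi (T.e.symm P))⁻¹ * F.phi (T.e.symm B) ∈ F.sigmaHom.ker :=
      (F.sigmaHom_eq_iff hR T).1 hPB
    have hτ : F.tau hR T ((F.phi (T.e.symm P))⁻¹ * F.phi (T.e.symm B)) = 1 := F.tau_ker hR T hw
    have h' : det2 (T.e.symm B) (T.e.symm P) ≠ 0 := by rwa [det2_comm]
    rw [F.e_pA hR T h', F.e_pA hR T h] at h2
    rw [F.e_pA hR T h] at h1
    simp only [AddEquiv.apply_symm_apply, hτ, show ∀ x, (1 : RingAut K) x = x from fun x => rfl] at h1 h2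
    set A := ptA (Nat.card L) (F.cK T P) P B with hA
    set ξ' := F.xi hR T ((F.phi (T.e.symm P))⁻¹ * F.phi (T.e.symm B))
    obtain ⟨hP, hB⟩ := ne_zero_of_detF (card_ne_zero (L := L)) hu
    set u := detF (Nat.card L) P B with hud
    set Z := B ^ Nat.card L * P / u with hZ
    have hu' : detF (Nat.card L) B P = u := by rw [hud, detF, detF]; ring
    have eA : P * A ^ Nat.card L = Z + F.cK T P := by
      have hc : F.cK T P ^ Nat.card L = F.cK T P := by
        rw [cK, mul_pow, emb_bar T, pow_succ, mul_pow, bar_bar T, mul_comm P]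
      rw [hA, ptA, bar_add, div_pow, div_pow, bar_bar T, F.detF_bar hR T, hc, hZ, ← hud]
      field_simp
    have eA' : ptA (Nat.card L) (F.cK T B) B P * B ^ Nat.card L = Z + F.cK T B := by
      rw [ptA, hu', hZ]
      field_simp
    have key : (Z + F.cK T P + F.cK T A) * (Z + F.cK T B) =
        T.emb m ^ 2 * (A * A ^ Nat.card L) * (B * B ^ Nat.card L) := by
      rw [← eA, ← eA', ← h1]
      linear_combination (T.emb m * B * B ^ Nat.card L * A ^ Nat.card L) * h2
    have key2 := congrArg (· ^ Nat.card L) key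
    simp only [mul_pow, bar_add, bar_bar T, emb_bar T, ← pow_mul, Nat.mul_comm 2, pow_mul _ _ 2] at key2
    have hbar : ∀ x : K, x ≠ 0 → F.cK T x ^ Nat.card L = F.cK T x := fun x _ => by
      rw [cK, mul_pow, emb_bar T, pow_succ, mul_pow, bar_bar T, mul_comm x]
    have hA0 : A ≠ 0 := by
      intro e
      rw [e, zero_pow card_ne_zero, mul_zero] at eA
      have h3 := F.sum_one hR T hu
      have h4 : Z = F.cK T P := CharTwo.add_eq_zero.1 eA.symm
      have h5 : Z ^ Nat.card L = Z := by rw [h4, hbar P hP]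
      rw [hZ, div_pow, mul_pow, bar_bar T, F.detF_bar hR T, hud] at h5
      rw [← hud, h5, CharTwo.add_self_eq_zero] at h3
      exact zero_ne_one h3
    rw [hbar P hP, hbar B hB, hbar A hA0] at key2
    have hZ1 : Z ^ Nat.card L = Z + 1 := by
      have h3 := F.sum_one hR T hu
      rw [hZ, div_pow, mul_pow, bar_bar T, F.detF_bar hR T, ← hud]
      rw [← hud] at h3
      linear_combination h3 - (B ^ Nat.card L * P / u) * CharTwo.two_eq_zero (R := K)
    rw [hZ1] at key2
    linear_combination key2 - key + (-(Z + 1)) * CharTwo.two_eq_zero (R := K)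

/-- the quadratic function is the inverse of the norm -/
theorem del_norm {r : Row L} (hr : r ≠ 0) :
    T.emb (F.del r) * T.e r = (T.e r ^ Nat.card L)⁻¹ := by
  obtain ⟨f, ρ, h⟩ := F.fieldData hR T
  letI := F.rangeComm
  rw [F.e_smul_del hR T hr, h.c_eq_one fun e => hr ((e_eq_zero T).1 e), one_div]

/-- the automorphisms attached to pairs are trivial -/
theorem tau_phi {r s : Row L} (hr : r ≠ 0) (hs : s ≠ 0) :
    F.tau hR T ((F.phi r)⁻¹ * F.phi s) = 1 := by
  obtain ⟨f, ρ, h⟩ := F.fieldData hR T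
  letI := F.rangeComm
  let τA : F.sigmaHom.range →* RingAut K :=
    MonoidHom.liftOfSurjective F.sigmaHom.rangeRestrict F.sigmaHom.rangeRestrict_surjective
      ⟨F.tauHom hR T, by rw [MonoidHom.ker_rangeRestrict]; exact F.tau_ker hR T⟩
  have hτA : ∀ v, τA (F.sigmaHom.rangeRestrict v) = F.tau hR T v := fun v =>
    MonoidHom.liftOfRightInverse_comp_apply _ _ _ _ v
  have hmain := h.tau_eq_one τA (fun P B hu => by
    have hd := F.det_of_detF hR T hu
    rw [show (F.phiK T P)⁻¹ * F.phiK T B =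
      F.sigmaHom.rangeRestrict ((F.phi (T.e.symm P))⁻¹ * F.phi (T.e.symm B)) by
        rw [map_mul, map_inv]; rfl, hτA]
    obtain ⟨m, hm, h1, h2⟩ := F.eq_field hR T hd
    have hd' : det2 (T.e.symm B) (T.e.symm P) ≠ 0 := by rwa [det2_comm]
    rw [F.e_pA hR T hd', F.e_pA hR T hd] at h2
    rw [F.e_pA hR T hd] at h1
    obtain ⟨hP, hB⟩ := ne_zero_of_detF (card_ne_zero (L := L)) hu
    simp only [AddEquiv.apply_symm_apply, h.c_eq_one hP, h.c_eq_one hB] at h1 h2
    set τ := F.tau hR T ((F.phi (T.e.symm P))⁻¹ * F.phi (T.e.symm B))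
    set ξ' := F.xi hR T ((F.phi (T.e.symm P))⁻¹ * F.phi (T.e.symm B))
    set u := detF (Nat.card L) P B with hud
    set Y := B * P ^ Nat.card L / u with hY
    set A := ptA (Nat.card L) 1 P B with hAd
    have hsum := F.sum_one hR T hu
    rw [← hud, ← hY] at hsum
    have h20 : (2 : K) = 0 := CharTwo.two_eq_zero
    have hZ : B ^ Nat.card L * P / u = Y + 1 := by linear_combination hsum - Y * h20
    have hYq : Y ^ Nat.card L = Y + 1 := by
      rw [← hZ, hY, div_pow, mul_pow, bar_bar T, hud, F.detF_bar hR T]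
    have eA : A * P ^ Nat.card L = Y + 1 := by
      rw [hAd, ptA, hY, ← hud]
      field_simp
    have eA' : ptA (Nat.card L) 1 B P * B ^ Nat.card L = Y := by
      have hu' : detF (Nat.card L) B P = u := by rw [hud, detF, detF]; ring
      rw [ptA, hu', show Y = B ^ Nat.card L * P / u + 1 by rw [hZ, add_assoc, CharTwo.add_self_eq_zero, add_zero]]
      field_simp
    have eAq : A ^ Nat.card L * P = Y := by
      have h3 := congrArg (· ^ Nat.card L) eA
      simp only [mul_pow, bar_bar T, bar_add, one_pow, hYq] at h3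
      rw [h3, add_assoc, CharTwo.add_self_eq_zero, add_zero]
    have hA0 : A ≠ 0 := by
      intro e
      rw [e, zero_mul] at eA
      have : Y ^ Nat.card L = Y := by
        rw [CharTwo.add_eq_zero.1 eA.symm, one_pow]
      rw [hYq, add_eq_left] at this
      exact one_ne_zero this
    rw [h.c_eq_one hA0] at h1
    have e1 : T.emb m * ξ' * τ B * Y = (Y + 1) * P := by linear_combination P * h1 - (T.emb m * ξ' * τ B - P) * eAq
    have e2 : ξ' * τ Y * P ^ Nat.card L = T.emb m * (Y + 1) * τ B ^ Nat.card L := by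
      have h3 : τ Y = τ (ptA (Nat.card L) 1 B P) * τ B ^ Nat.card L := by
        rw [← eA', map_mul, map_pow]
      rw [h3, ← eA]
      linear_combination (P ^ Nat.card L * τ B ^ Nat.card L) * h2
    have hY1 : Y + 1 ≠ 0 := fun e => mul_ne_zero hA0 (pow_ne_zero _ hP) (eA.trans e)
    have key : T.emb m ^ 2 * (τ B * τ B ^ Nat.card L) * Y = P * P ^ Nat.card L * τ Y := by
      refine mul_left_cancel₀ hY1 ?_
      linear_combination (τ Y * P ^ Nat.card L) * e1 - (T.emb m * τ B * Y) * e2
    have key2 := congrArg (· ^ Nat.card L) key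
    have hτY : τ Y ^ Nat.card L = τ Y + 1 := by rw [← map_pow, hYq, map_add, map_one]
    simp only [mul_pow, bar_bar T, emb_bar T, hτY, hYq, ← pow_mul, Nat.mul_comm 2, pow_mul _ _ 2] at key2
    have hN : P * P ^ Nat.card L ≠ 0 := mul_ne_zero hP (pow_ne_zero _ hP)
    have heq : T.emb m ^ 2 * (τ B * τ B ^ Nat.card L) = P * P ^ Nat.card L := by
      linear_combination key2 - key
    rw [heq] at key
    exact (mul_left_cancel₀ hN key).symm) (P := T.e r) (B := T.e s)
    (fun e => hr ((e_eq_zero T).1 e)) (fun e => hs ((e_eq_zero T).1 e))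
  simp only [phiK, AddEquiv.symm_apply_apply, ← map_inv, ← map_mul, hτA] at hmain
  exact hmain

theorem sigma_phi {r s : Row L} (hr : r ≠ 0) (hs : s ≠ 0) :
    (F.phi r)⁻¹ * F.phi s ∈ F.sigmaHom.ker := by
  refine MonoidHom.mem_ker.2 (RingEquiv.ext fun l => T.emb.injective ?_)
  show T.emb (F.sigma _ l) = T.emb l
  rw [← F.tau_emb hR T, F.tau_phi hR T hr hs]
  rfl

/-- the multiplier of a pair -/
theorem xi_pair {r s : Row L} (h : det2 r s ≠ 0) : ∃ m : L, m ≠ 0 ∧
    F.xi hR T ((F.phi r)⁻¹ * F.phi s) * T.e s * (T.e r ^ Nat.card L) ^ 2 =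
      T.emb m * T.e r * (T.e s ^ Nat.card L) ^ 2 := by
  obtain ⟨f, ρ, hd⟩ := F.fieldData hR T
  letI := F.rangeComm
  obtain ⟨m, hm, -, h2⟩ := F.eq_field hR T h
  refine ⟨m, hm, ?_⟩
  obtain ⟨hr, hs⟩ := ne_zero_of_det2 h
  have hr0 : T.e r ≠ 0 := fun e => hr ((e_eq_zero T).1 e)
  have hs0 : T.e s ≠ 0 := fun e => hs ((e_eq_zero T).1 e)
  rw [F.tau_phi hR T hr hs, F.e_pA hR T h, F.e_pA hR T (by rwa [det2_comm]), hd.c_eq_one hr0,
    hd.c_eq_one hs0] at h2
  change F.xi hR T _ * ptA (Nat.card L) 1 (T.e s) (T.e r) = _ at h2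
  have hu : detF (Nat.card L) (T.e r) (T.e s) ≠ 0 := by
    rw [← emb_det T]; exact (map_ne_zero _).2 h
  have hu' : detF (Nat.card L) (T.e s) (T.e r) = detF (Nat.card L) (T.e r) (T.e s) := by
    rw [detF, detF]; ring
  set P := T.e r
  set B := T.e s
  set u := detF (Nat.card L) P B with hud
  have hu2 : P ^ Nat.card L * B + P * B ^ Nat.card L = u := rfl
  have h20 : (2 : K) = 0 := CharTwo.two_eq_zero
  have eA : ptA (Nat.card L) 1 P B * (u * P ^ Nat.card L) = P * B ^ Nat.card L := by
    rw [ptA, ← hud]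
    field_simp
    linear_combination -hu2 + (B * P ^ Nat.card L) * h20
  have eA' : ptA (Nat.card L) 1 B P * (u * B ^ Nat.card L) = B * P ^ Nat.card L := by
    rw [ptA, hu']
    field_simp
    linear_combination -hu2 + (P * B ^ Nat.card L) * h20
  linear_combination (u * B ^ Nat.card L * P ^ Nat.card L) * h2
    - (F.xi hR T ((F.phi r)⁻¹ * F.phi s) * P ^ Nat.card L) * eA' + (T.emb m * B ^ Nat.card L) * eA

end Frame

end CfsgLib.RankOneRecog.Unitary
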