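import Mathlib

/-!
A commutative group of matrices of determinant one in dimension two without eigenvector lies in the
norm one elements of the quadratic extension; semilinear maps normalising it become semilinear maps
of the extension.
-/

set_option autoImplicit false
set_option linter.style.haveILetI false
set_option linter.unusedSectionVars false

namespace CfsgLib.RankOneRecog.Unitary

open Matrix Polynomial

variable {L : Type} [Field L] [Finite L] [CharP L 2]

local notation "Row" => (Fin 2 → L)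

/-- The determinant of two rows, in characteristic two. -/
def detRow {L : Type*} [Field L] (r s : Fin 2 → L) : L := r 0 * s 1 + r 1 * s 0

theorem detRow_vecMul (r s : Row) (M : Matrix (Fin 2) (Fin 2) L) :
    detRow (r ᵥ* M) (s ᵥ* M) = M.det * detRow r s := by
  have h2 : (2 : L) = 0 := CharTwo.two_eq_zero
  simp only [detRow, Matrix.vecMul, dotProduct, Fin.sum_univ_two, Matrix.det_fin_two]
  linear_combination (r 0 * s 0 * M 0 0 * M 0 1 + r 1 * s 1 * M 1 0 * M 1 1 +
    r 0 * s 1 * M 0 1 * M 1 0 + r 1 * s 0 * M 0 1 * M 1 0) * h2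

/-- The norm-one coordinates attached to a commutative group without eigenvector. -/
structure TorusData (L : Type) [Field L] (R : Subgroup (SpecialLinearGroup (Fin 2) L)) (F : Type) [Field F] where
  emb : L →+* F
  card : Nat.card F = Nat.card L ^ 2
  emb_range : ∀ x : F, x ^ Nat.card L = x ↔ ∃ l, emb l = x
  e : (Fin 2 → L) ≃+ F
  e_smul : ∀ (l : L) (r : Fin 2 → L), e (l • r) = emb l * e r
  e_det : ∀ r s : Fin 2 → L, emb (detRow r s) = e r ^ Nat.card L * e s + e r * e s ^ Nat.card L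
  e_mul : ∀ ρ ∈ R, ∃ ξ : F, ξ ^ (Nat.card L + 1) = 1 ∧ ∀ r : Fin 2 → L, e (r ᵥ* (ρ : Matrix (Fin 2) (Fin 2) L)) = ξ * e r
  e_semi : ∀ (σ : L ≃+* L) (M : Matrix (Fin 2) (Fin 2) L), M.det = 1 →
    (∀ ρ ∈ R, ∃ ρ' ∈ R, ∀ r : Fin 2 → L,
      (⇑σ ∘ (r ᵥ* (ρ : Matrix (Fin 2) (Fin 2) L))) ᵥ* M = ((⇑σ ∘ r) ᵥ* M) ᵥ* (ρ' : Matrix (Fin 2) (Fin 2) L)) →
    ∃ (ξ : F) (τ : F ≃+* F), ξ ^ (Nat.card L + 1) = 1 ∧ (∀ l, τ (emb l) = emb (σ l)) ∧
      ∀ r : Fin 2 → L, e ((⇑σ ∘ r) ᵥ* M) = ξ * τ (e r)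

/-- A nontrivial commutative subgroup of `SL(2, L)` without eigenvector gives the quadratic extension
with coordinates on the rows. -/
theorem exists_torusData (R : Subgroup (SpecialLinearGroup (Fin 2) L)) (hne : R ≠ ⊥)
    (hcomm : ∀ x ∈ R, ∀ y ∈ R, x * y = y * x)
    (hfree : ∀ ρ ∈ R, ρ ≠ 1 → ∀ r : Row, r ≠ 0 → ∀ l : L, r ᵥ* (ρ : Matrix (Fin 2) (Fin 2) L) ≠ l • r) :
    ∃ (F : Type) (_ : Field F) (_ : Fintype F) (_ : CharP F 2), Nonempty (TorusData L R F) := by
  classical
  haveI := Fintype.ofFinite L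
  haveI : Fact (Nat.Prime 2) := ⟨Nat.prime_two⟩
  obtain ⟨ρ₀, hρ₀, hρ1⟩ := R.bot_or_exists_ne_one.resolve_left hne
  set M₀ : Matrix (Fin 2) (Fin 2) L := (ρ₀ : Matrix (Fin 2) (Fin 2) L) with hM₀
  set g : L[X] := M₀.charpoly with hg
  have hdeg : g.natDegree = 2 := by rw [hg, Matrix.charpoly_natDegree_eq_dim, Fintype.card_fin]
  have hmon : g.Monic := Matrix.charpoly_monic _
  have hirr : Irreducible g := by
    refine Polynomial.irreducible_of_degree_le_three_of_not_isRoot
      (by rw [hdeg]; simp) fun l hl => ?_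
    rw [IsRoot.def, hg, Matrix.eval_charpoly] at hl
    obtain ⟨r, hr, hr'⟩ := Matrix.exists_vecMul_eq_zero_iff.2 hl
    refine hfree ρ₀ hρ₀ hρ1 r hr l ?_
    rw [Matrix.vecMul_sub, sub_eq_zero] at hr'
    rw [← hM₀, ← hr']
    ext i
    fin_cases i <;> simp [Matrix.vecMul, dotProduct, Fin.sum_univ_two, mul_comm]
  haveI := Fact.mk hirr
  let pb := AdjoinRoot.powerBasis hirr.ne_zero
  haveI : Module.Finite L (AdjoinRoot g) := pb.finite
  haveI : Finite (AdjoinRoot g) := Module.finite_of_finite L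
  letI : Fintype (AdjoinRoot g) := Fintype.ofFinite _
  haveI : CharP (AdjoinRoot g) 2 := charP_of_injective_algebraMap (algebraMap L (AdjoinRoot g)).injective 2
  set q := Nat.card L with hq
  let emb : L →+* AdjoinRoot g := algebraMap L (AdjoinRoot g)
  have hfin : Module.finrank L (AdjoinRoot g) = 2 := by
    rw [pb.finrank, AdjoinRoot.powerBasis_dim, hdeg]
  have hcard : Nat.card (AdjoinRoot g) = q ^ 2 := by
    rw [Module.natCard_eq_pow_finrank (K := L), hfin]
  obtain ⟨f, hf⟩ : ∃ f, q = 2 ^ f := by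
    obtain ⟨n, -, hn⟩ := FiniteField.card L 2
    exact ⟨n, by rw [hq, Nat.card_eq_fintype_card, hn]⟩
  have hadd : ∀ x y : AdjoinRoot g, (x + y) ^ q = x ^ q + y ^ q := fun x y => by
    rw [hf]; exact add_pow_char_pow x y 2 f
  have hbar : ∀ x : AdjoinRoot g, (x ^ q) ^ q = x := fun x => by
    rw [← pow_mul, ← sq, ← hcard, Nat.card_eq_fintype_card, FiniteField.pow_card]
  have hemb : ∀ l : L, emb l ^ q = emb l := fun l => by
    rw [← map_pow, hq, Nat.card_eq_fintype_card, FiniteField.pow_card]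
  -- the fixed points of the conjugation are the base field
  have hrange : ∀ x : AdjoinRoot g, x ^ q = x ↔ ∃ l, emb l = x := by
    intro x
    refine ⟨fun hx => ?_, fun ⟨l, hl⟩ => hl ▸ hemb l⟩
    by_contra hne'
    have hq1 : 1 < q := hq ▸ Finite.one_lt_card
    have hp : (X ^ q - X : (AdjoinRoot g)[X]) ≠ 0 := FiniteField.X_pow_card_sub_X_ne_zero _ hq1
    have hsub : insert x (Finset.univ.image emb) ⊆ (X ^ q - X : (AdjoinRoot g)[X]).roots.toFinset := by
      intro y hy
      rw [Multiset.mem_toFinset, mem_roots hp]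
      rcases Finset.mem_insert.1 hy with rfl | hy
      · simp [hx]
      · obtain ⟨l, -, rfl⟩ := Finset.mem_image.1 hy
        simp [hemb l]
    have h1 := (Finset.card_le_card hsub).trans (Multiset.toFinset_card_le _)
    have h2 := (X ^ q - X : (AdjoinRoot g)[X]).card_roots'
    rw [Finset.card_insert_of_notMem (by simpa using hne'), Finset.card_image_of_injective _ emb.injective,
      Finset.card_univ, ← Nat.card_eq_fintype_card, ← hq] at h1
    rw [FiniteField.X_pow_card_sub_X_natDegree_eq _ hq1] at h2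
    omega
  -- the action of the extension on the rows
  have hvanish : ∀ p : L[X], p ∈ Ideal.span ({g} : Set L[X]) → aeval M₀ p = 0 := by
    intro p hp
    obtain ⟨k, rfl⟩ := Ideal.mem_span_singleton'.1 hp
    rw [map_mul, hg, Matrix.aeval_self_charpoly, mul_zero]
  let φ : AdjoinRoot g →ₐ[L] Matrix (Fin 2) (Fin 2) L :=
    Ideal.Quotient.liftₐ (Ideal.span ({g} : Set L[X])) (aeval M₀) hvanish
  set θ : AdjoinRoot g := AdjoinRoot.root g with hθ
  have hφθ : φ θ = M₀ := (aeval_X M₀ : (aeval M₀ : L[X] →ₐ[L] _) X = M₀)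
  set r₀ : Row := Pi.single 0 1 with hr₀
  have hr₀ne : r₀ ≠ 0 := fun e => by simpa [hr₀] using congrFun e 0
  let ev : AdjoinRoot g →ₗ[L] Row :=
    { toFun := fun x => r₀ ᵥ* φ x
      map_add' := fun x y => by rw [map_add, Matrix.vecMul_add]
      map_smul' := fun l x => by rw [map_smul, RingHom.id_apply, Matrix.vecMul_smul] }
  have hinj : Function.Injective ev := by
    rw [injective_iff_map_eq_zero]
    intro x hx
    by_contra hx0
    apply hr₀ne
    have : r₀ ᵥ* φ x ᵥ* φ x⁻¹ = r₀ := by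
      rw [Matrix.vecMul_vecMul, ← map_mul, mul_inv_cancel₀ hx0, map_one, Matrix.vecMul_one]
    rw [← this, show r₀ ᵥ* φ x = 0 from hx, Matrix.zero_vecMul]
  let e₁ : AdjoinRoot g ≃ₗ[L] Row :=
    LinearEquiv.ofInjectiveOfFinrankEq ev hinj (by rw [hfin, Module.finrank_fin_fun])
  have he₁ : ∀ x, e₁ x = r₀ ᵥ* φ x := fun x => rfl
  -- the determinant in coordinates
  have hH : ∀ x y : AdjoinRoot g, (x ^ q * y + x * y ^ q) ^ q = x ^ q * y + x * y ^ q := fun x y => by
    rw [hadd, mul_pow, mul_pow, hbar, hbar, add_comm]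
  have hbas : ∀ x : AdjoinRoot g, ∃ a b : L, x = emb a + emb b * θ := by
    intro x
    obtain ⟨p, rfl⟩ := AdjoinRoot.mk_surjective x
    rw [← AdjoinRoot.mk_leftInverse hmon (AdjoinRoot.mk g p), AdjoinRoot.modByMonicHom_mk]
    have hlt : (p %ₘ g).natDegree < 2 := by
      have := Polynomial.natDegree_modByMonic_lt p hmon (fun e => by rw [e] at hdeg; simp at hdeg)
      omega
    refine ⟨(p %ₘ g).coeff 0, (p %ₘ g).coeff 1, ?_⟩
    conv_lhs => rw [Polynomial.eq_X_add_C_of_natDegree_le_one (Nat.lt_succ_iff.1 hlt)]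
    simp [emb, hθ, AdjoinRoot.algebraMap_eq, add_comm]
  have hθq : θ ^ q ≠ θ := by
    intro e
    obtain ⟨l, hl⟩ := (hrange θ).1 e
    have h1 : φ θ = φ (emb l) := by rw [hl]
    rw [hφθ, show φ (emb l) = algebraMap L (Matrix (Fin 2) (Fin 2) L) l from φ.commutes l] at h1
    refine hfree ρ₀ hρ₀ hρ1 r₀ hr₀ne l ?_
    rw [← hM₀, h1, Algebra.algebraMap_eq_smul_one, Matrix.vecMul_smul, Matrix.vecMul_one]
  set w : AdjoinRoot g := θ + θ ^ q with hw
  have hw0 : w ≠ 0 := fun e => hθq (CharTwo.add_eq_zero.1 e).symm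
  have hwq : w ^ q = w := by rw [hw, hadd, hbar, add_comm]
  obtain ⟨w', hw'⟩ := (hrange w).1 hwq
  set c := detRow (e₁ 1) (e₁ θ) / w' with hc
  have hw'0 : w' ≠ 0 := fun e => hw0 (by rw [← hw', e, map_zero])
  have h2 : (2 : AdjoinRoot g) = 0 := CharTwo.two_eq_zero
  have hform : ∀ x y, emb (detRow (e₁ x) (e₁ y)) = emb c * (x ^ q * y + x * y ^ q) := by
    intro x y
    obtain ⟨a, b, rfl⟩ := hbas x
    obtain ⟨a', b', rfl⟩ := hbas y
    have e : ∀ a b, e₁ (emb a + emb b * θ) = a • e₁ 1 + b • e₁ θ := fun a b => by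
      rw [← map_smul, ← map_smul, ← map_add, Algebra.smul_def, Algebra.smul_def, mul_one]
    have h2' : (2 : L) = 0 := CharTwo.two_eq_zero
    have e2 : detRow (a • e₁ 1 + b • e₁ θ) (a' • e₁ 1 + b' • e₁ θ) = (a * b' + b * a') * (c * w') := by
      rw [hc, div_mul_cancel₀ _ hw'0]
      simp only [detRow, Pi.add_apply, Pi.smul_apply, smul_eq_mul]
      linear_combination (a * a' * e₁ 1 0 * e₁ 1 1 + b * b' * e₁ θ 0 * e₁ θ 1) * h2'
    rw [e, e, e2, hadd, hadd, mul_pow, mul_pow, hemb, hemb, hemb, hemb, map_mul, map_mul, map_add, map_mul,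
      map_mul, hw', hw]
    linear_combination -(emb c * emb a * emb a' + emb c * emb b * emb b' * θ * θ ^ q) * h2
  have hc0 : c ≠ 0 := by
    rw [hc]
    refine div_ne_zero (fun hd => ?_) hw'0
    have hli : ∀ a b : L, a • e₁ 1 + b • e₁ θ = 0 → a = 0 ∧ b = 0 := by
      intro a b hab
      have h3 : e₁ (emb a + emb b * θ) = 0 := by
        rw [← hab, ← map_smul, ← map_smul, ← map_add, Algebra.smul_def, Algebra.smul_def, mul_one]
      have h4 : emb a + emb b * θ = 0 := e₁.map_eq_zero_iff.1 h3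
      by_cases hb : b = 0
      · subst hb
        exact ⟨emb.injective (by simpa using h4), rfl⟩
      · refine absurd ((hrange θ).2 ⟨a / b, ?_⟩) hθq
        rw [map_div₀, div_eq_iff (by simpa using hb), CharTwo.add_eq_zero.1 h4, mul_comm]
    set r := e₁ 1
    set s := e₁ θ
    have h2' : (2 : L) = 0 := CharTwo.two_eq_zero
    unfold detRow at hd
    by_cases hr0 : r 0 = 0
    · have hr1 : r 1 ≠ 0 := fun e => one_ne_zero (hli 1 0 (by ext i; fin_cases i <;> simp [hr0, e])).1
      have hs0 : s 0 = 0 := by rw [hr0, zero_mul, zero_add, mul_eq_zero] at hd; exact hd.resolve_left hr1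
      refine hr1 (hli (s 1) (r 1) ?_).2
      ext i
      fin_cases i
      · simp [hr0, hs0]
      · simp only [Fin.isValue, Fin.mk_one, Pi.add_apply, Pi.smul_apply, smul_eq_mul, Pi.zero_apply]
        linear_combination (r 1 * s 1) * h2'
    · refine hr0 (hli (s 0) (r 0) ?_).2
      ext i
      fin_cases i
      · simp only [Fin.isValue, Fin.zero_eta, Pi.add_apply, Pi.smul_apply, smul_eq_mul, Pi.zero_apply]
        linear_combination (r 0 * s 0) * h2'
      · simp only [Fin.isValue, Fin.mk_one, Pi.add_apply, Pi.smul_apply, smul_eq_mul, Pi.zero_apply]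
        linear_combination hd
  obtain ⟨d, hd⟩ := FiniteField.isSquare_of_char_two (ringChar.eq L 2) c
  have hd0 : emb d ≠ 0 := by
    simp only [ne_eq, map_eq_zero]
    exact fun e => hc0 (by rw [hd, e, mul_zero])
  let e : Row ≃+ AdjoinRoot g :=
    { toFun := fun r => emb d * e₁.symm r
      invFun := fun x => e₁ ((emb d)⁻¹ * x)
      left_inv := fun r => by simp [← mul_assoc, inv_mul_cancel₀ hd0]
      right_inv := fun x => by simp [← mul_assoc, mul_inv_cancel₀ hd0]
      map_add' := fun r s => by rw [map_add, mul_add] }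
  have he : ∀ r, e r = emb d * e₁.symm r := fun r => rfl
  have he_smul : ∀ (l : L) (r : Row), e (l • r) = emb l * e r := fun l r => by
    rw [he, he, map_smul, Algebra.smul_def]
    exact mul_left_comm _ _ _
  have he_det : ∀ r s : Row, emb (detRow r s) = e r ^ q * e s + e r * e s ^ q := by
    intro r s
    have := hform (e₁.symm r) (e₁.symm s)
    rw [LinearEquiv.apply_symm_apply, LinearEquiv.apply_symm_apply, hd, map_mul] at this
    rw [this, he, he, mul_pow, mul_pow, hemb]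
    ring
  -- multiplication by `θ`
  have he_mul₀ : ∀ (r : Row) (x : AdjoinRoot g), e (r ᵥ* φ x) = x * e r := fun r x => by
    rw [he, he]
    have : e₁.symm (r ᵥ* φ x) = e₁.symm r * x := by
      rw [LinearEquiv.symm_apply_eq, he₁, map_mul, ← Matrix.vecMul_vecMul, ← he₁,
        LinearEquiv.apply_symm_apply]
    rw [this]
    ring
  have hscalar : ∀ (T : Row → Row), (∀ r s, T (r + s) = T r + T s) → (∀ (l : L) r, T (l • r) = l • T r) →
      (∀ r, T (r ᵥ* M₀) = T r ᵥ* M₀) → ∀ r, e (T r) = e (T (e.symm 1)) * e r := by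
    intro T hTa hTs hTc r
    obtain ⟨a, b, hab⟩ := hbas (e r)
    have hr : r = a • e.symm 1 + b • (e.symm 1 ᵥ* M₀) := e.injective (by
      rw [map_add, he_smul, he_smul, ← hφθ, he_mul₀, AddEquiv.apply_symm_apply, hab]
      ring)
    conv_lhs => rw [hr]
    rw [hTa, hTs, hTs, hTc, map_add, he_smul, he_smul, ← hφθ, he_mul₀, hab]
    ring
  have hnorm : ∀ ξ : AdjoinRoot g, (∀ x y, (ξ * x) ^ q * (ξ * y) + ξ * x * (ξ * y) ^ q =
      x ^ q * y + x * y ^ q) → ξ ^ (q + 1) = 1 := by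
    intro ξ hξ
    have h3 := hξ 1 θ
    rw [one_pow, one_mul, one_mul, mul_one] at h3
    refine mul_right_cancel₀ hw0 ?_
    rw [hw, one_mul, pow_succ]
    linear_combination h3
  have he_mul : ∀ ρ ∈ R, ∃ ξ : AdjoinRoot g, ξ ^ (q + 1) = 1 ∧
      ∀ r : Row, e (r ᵥ* (ρ : Matrix (Fin 2) (Fin 2) L)) = ξ * e r := by
    intro ρ hρ
    set P : Matrix (Fin 2) (Fin 2) L := (ρ : Matrix (Fin 2) (Fin 2) L)
    have hPM : M₀ * P = P * M₀ := congrArg Subtype.val (hcomm ρ₀ hρ₀ ρ hρ)
    have hscal := hscalar (fun r => r ᵥ* P) (fun r s => Matrix.add_vecMul _ _ _)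
      (fun l r => Matrix.smul_vecMul _ _ _) (fun r => by rw [Matrix.vecMul_vecMul, Matrix.vecMul_vecMul, hPM])
    refine ⟨e (e.symm 1 ᵥ* P), hnorm _ fun x y => ?_, hscal⟩
    obtain ⟨r, rfl⟩ := e.surjective x
    obtain ⟨s, rfl⟩ := e.surjective y
    rw [← hscal, ← hscal, ← he_det, ← he_det, detRow_vecMul, ρ.det_coe, one_mul]
  have he_semi : ∀ (σ : L ≃+* L) (M : Matrix (Fin 2) (Fin 2) L), M.det = 1 →
      (∀ ρ ∈ R, ∃ ρ' ∈ R, ∀ r : Row, (⇑σ ∘ (r ᵥ* (ρ : Matrix (Fin 2) (Fin 2) L))) ᵥ* M =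
        ((⇑σ ∘ r) ᵥ* M) ᵥ* (ρ' : Matrix (Fin 2) (Fin 2) L)) →
      ∃ (ξ : AdjoinRoot g) (τ : AdjoinRoot g ≃+* AdjoinRoot g), ξ ^ (q + 1) = 1 ∧
        (∀ l, τ (emb l) = emb (σ l)) ∧ ∀ r : Row, e ((⇑σ ∘ r) ᵥ* M) = ξ * τ (e r) := by
    intro σ M hM hR
    obtain ⟨ρ', hρ', hconj⟩ := hR ρ₀ hρ₀
    obtain ⟨θ', -, hθ'⟩ := he_mul ρ' hρ'
    let T : AdjoinRoot g → AdjoinRoot g := fun x => e ((⇑σ ∘ e.symm x) ᵥ* M)
    have hTadd : ∀ x y, T (x + y) = T x + T y := fun x y => by
      simp only [T]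
      rw [map_add, show ⇑σ ∘ (e.symm x + e.symm y) = ⇑σ ∘ e.symm x + ⇑σ ∘ e.symm y by ext i; simp,
        Matrix.add_vecMul, map_add]
    have hTsmul : ∀ l x, T (emb l * x) = emb (σ l) * T x := fun l x => by
      simp only [T]
      rw [show e.symm (emb l * x) = l • e.symm x from e.injective (by
        rw [he_smul, AddEquiv.apply_symm_apply, AddEquiv.apply_symm_apply]),
        show ⇑σ ∘ (l • e.symm x) = σ l • (⇑σ ∘ e.symm x) by ext i; simp, Matrix.smul_vecMul, he_smul]
    have hTθ : ∀ x, T (θ * x) = θ' * T x := fun x => by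
      simp only [T]
      rw [show e.symm (θ * x) = e.symm x ᵥ* M₀ from e.injective (by
        rw [← hφθ, he_mul₀, AddEquiv.apply_symm_apply, AddEquiv.apply_symm_apply]), hM₀, hconj, hθ']
    have hTinj : Function.Injective T := fun x y hxy => by
      have hMu : IsUnit M := by rw [Matrix.isUnit_iff_isUnit_det, hM]; exact isUnit_one
      have h1 : ⇑σ ∘ e.symm x = ⇑σ ∘ e.symm y := Matrix.vecMul_injective_iff_isUnit.2 hMu (e.injective hxy)
      exact e.symm.injective (funext fun i => σ.injective (congrFun h1 i))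
    have hξ0 : T 1 ≠ 0 := fun e0 => one_ne_zero (hTinj (e0.trans (by simpa using (hTsmul 0 0).symm)))
    let τ₀ : AdjoinRoot g → AdjoinRoot g := fun y => T y / T 1
    have hlin : ∀ y x, T (y * x) = τ₀ y * T x := by
      intro y x
      obtain ⟨a, b, rfl⟩ := hbas y
      have : T (emb a + emb b * θ) = (emb (σ a) + emb (σ b) * θ') * T 1 := by
        rw [hTadd, hTsmul, show T (emb a) = emb (σ a) * T 1 by simpa using hTsmul a 1,
          show T θ = θ' * T 1 by simpa using hTθ 1]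
        ring
      simp only [τ₀]
      rw [this, mul_div_assoc, div_self hξ0, mul_one, add_mul, mul_assoc, hTadd, hTsmul, hTsmul, hTθ]
      ring
    let τh : AdjoinRoot g →+* AdjoinRoot g :=
      { toFun := τ₀
        map_one' := div_self hξ0
        map_zero' := by
          show T 0 / T 1 = 0
          rw [show T 0 = 0 by simpa using hTsmul 0 0, zero_div]
        map_mul' := fun x y => by
          show T (x * y) / T 1 = τ₀ x * (T y / T 1)
          rw [hlin, mul_div_assoc]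
        map_add' := fun x y => by
          show T (x + y) / T 1 = T x / T 1 + T y / T 1
          rw [hTadd, add_div] }
    let τ := RingEquiv.ofBijective τh
      (Finite.injective_iff_bijective.1 τh.injective)
    have hT : ∀ r, e ((⇑σ ∘ r) ᵥ* M) = T 1 * τ (e r) := fun r => by
      show e ((⇑σ ∘ r) ᵥ* M) = T 1 * (T (e r) / T 1)
      rw [mul_div_cancel₀ _ hξ0]
      simp [T]
    have hτl : ∀ l, τ (emb l) = emb (σ l) := fun l => by
      show T (emb l) / T 1 = emb (σ l)
      rw [show T (emb l) = emb (σ l) * T 1 by simpa using hTsmul l 1, mul_div_assoc, div_self hξ0, mul_one]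
    refine ⟨T 1, τ, ?_, hτl, hT⟩
    refine hnorm _ fun x y => ?_
    obtain ⟨x', rfl⟩ := τ.surjective x
    obtain ⟨y', rfl⟩ := τ.surjective y
    obtain ⟨r, rfl⟩ := e.surjective x'
    obtain ⟨s, rfl⟩ := e.surjective y'
    have hσdet : detRow (⇑σ ∘ r) (⇑σ ∘ s) = σ (detRow r s) := by simp [detRow]
    rw [← hT, ← hT, ← he_det, detRow_vecMul, hM, one_mul, hσdet, ← hτl, he_det, map_add, map_mul, map_mul,
      map_pow, map_pow]
  exact ⟨AdjoinRoot g, inferInstance, inferInstance, inferInstance,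
    ⟨⟨emb, hcard, hrange, e, he_smul, he_det, he_mul, he_semi⟩⟩⟩

end CfsgLib.RankOneRecog.Unitary
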