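import Cfsg.Agent.Lib.RankOneRecog.Unitary.Cocycle
import Cfsg.Agent.Lib.RankOneRecog.Unitary.Eight
import Cfsg.Agent.Lib.SpecLin.SLTwoClassSize

/-!
A group of matrices, normalised by the semilinear action of `V`, that preserves the quadratic function and the
class function, and is free on the projective line.
-/

set_option autoImplicit false
set_option linter.style.haveILetI false

noncomputable section

namespace CfsgLib.RankOneRecog.Unitary

open CfsgLib.RankOneInvol CfsgLib.RankOneTwo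
open scoped Matrix

universe u v

section Free

variable {L : Type} [Field L] [Finite L] [CharP L 2]

/-- An odd order matrix normalising a group of multiplications is a multiplication. -/
theorem exists_mul_coord {R : Subgroup (SL2 L)} {K : Type} [Field K] (T : TorusData L R K) {M : SL2 L}
    (hodd : Odd (orderOf M)) (hn : ∀ ρ ∈ R, ∃ ρ' ∈ R, ρ * M = M * ρ') :
    ∃ ξ : K, ∀ r : Row L, T.e (rowMul r M) = ξ * T.e r := by
  haveI : Finite K := Nat.finite_of_card_ne_zero (by
    rw [T.card]; exact pow_ne_zero _ Nat.card_pos.ne')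
  haveI := Fintype.ofFinite K
  have hid : ∀ r : Row L, ⇑(RingEquiv.refl L) ∘ r = r := fun r => rfl
  obtain ⟨ξ, τ, -, hτ, he⟩ := T.e_semi (RingEquiv.refl L) M.1 M.2 (fun ρ hρ => by
    obtain ⟨ρ', hρ', e⟩ := hn ρ hρ
    refine ⟨ρ', hρ', fun r => ?_⟩
    rw [hid, hid, Matrix.vecMul_vecMul, Matrix.vecMul_vecMul,
      show ρ.1 * M.1 = M.1 * ρ'.1 from congrArg Subtype.val e])
  simp only [hid, RingEquiv.refl_apply] at hτ he
  -- `τ` has square one
  have hsq : ∀ y : K, τ (τ y) = y := by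
    intro y
    set q := Nat.card L
    have hbb : (y ^ q) ^ q = y := by
      rw [← pow_mul, ← sq, ← T.card, Nat.card_eq_fintype_card, FiniteField.pow_card]
    have hfix : ∀ x : K, x ^ q = x → τ x = x := fun x hx => by
      obtain ⟨l, rfl⟩ := (T.emb_range x).1 hx
      exact hτ l
    have hN : τ (y * y ^ q) = y * y ^ q := hfix _ (by rw [mul_pow, hbb, mul_comm])
    have hT : τ (y + y ^ q) = y + y ^ q := hfix _ (by
      haveI : Fact (Nat.Prime 2) := ⟨Nat.prime_two⟩
      haveI : CharP K 2 := charP_of_injective_ringHom T.emb.injective 2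
      obtain ⟨k, hqk⟩ : ∃ k, q = 2 ^ k := by
        letI : Algebra (ZMod 2) L := ZMod.algebra L 2
        exact ⟨_, by rw [show q = Nat.card L from rfl, Module.natCard_eq_pow_finrank (K := ZMod 2), Nat.card_zmod]⟩
      rw [hqk, add_pow_char_pow, ← hqk, hbb, add_comm])
    have h2 : τ (y ^ q) = (τ y) ^ q := map_pow τ y q
    rw [map_mul, h2] at hN
    rw [map_add, h2] at hT
    have hroot : (τ y - y) * (τ y - y ^ q) = 0 := by linear_combination (τ y) * hT - hN
    rcases mul_eq_zero.1 hroot with h | h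
    · rw [sub_eq_zero.1 h, sub_eq_zero.1 h]
    · rw [sub_eq_zero.1 h, h2, sub_eq_zero.1 h, hbb]
  -- an odd iterate of `τ` is trivial
  obtain ⟨j, hj⟩ := hodd
  have hit : ∀ n : ℕ, ∃ ζ : K, ∀ r : Row L, T.e (rowMul r (M ^ n)) = ζ * (⇑τ)^[n] (T.e r) := by
    intro n
    induction n with
    | zero => exact ⟨1, fun r => by rw [pow_zero, rowMul_one, one_mul]; rfl⟩
    | succ n ih =>
      obtain ⟨ζ, hζ⟩ := ih
      refine ⟨ξ * τ ζ, fun r => ?_⟩
      rw [pow_succ, rowMul_mul]
      show T.e ((rowMul r (M ^ n)) ᵥ* M.1) = _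
      rw [he, hζ, map_mul, Function.iterate_succ_apply', mul_assoc]
  obtain ⟨ζ, hζ⟩ := hit (orderOf M)
  rw [pow_orderOf_eq_one] at hζ
  have hiter : (⇑τ)^[orderOf M] = ⇑τ := by
    have : (⇑τ)^[2] = id := funext hsq
    rw [hj, Function.iterate_add, Function.iterate_one, Function.iterate_mul, this, Function.iterate_id, Function.id_comp]
  rw [hiter] at hζ
  have h1 := hζ (T.e.symm 1)
  rw [rowMul_one, AddEquiv.apply_symm_apply, map_one, mul_one] at h1
  refine ⟨ξ, fun r => ?_⟩
  have hr := hζ r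
  rw [rowMul_one, ← h1, one_mul] at hr
  show T.e (r ᵥ* M.1) = _
  rw [he, ← hr]

/-- A group of odd order normalising a free commutative group is commutative and cyclic. -/
theorem cyclic_of_free {H A : Subgroup (SL2 L)} (hodd : Odd (Nat.card H)) (hAH : A ≤ H) (hne : A ≠ ⊥)
    (hcomm : ∀ x ∈ A, ∀ y ∈ A, x * y = y * x)
    (hn : ∀ h ∈ H, ∀ x ∈ A, h⁻¹ * x * h ∈ A)
    (hfree : ∀ ρ ∈ H, ρ ≠ 1 → ∀ r : Row L, r ≠ 0 → ∀ l : L, r ᵥ* ρ.1 ≠ l • r) : IsCyclic H := by
  obtain ⟨K, _, _, _, ⟨T⟩⟩ := exists_torusData A hne hcomm fun ρ hρ => hfree ρ (hAH hρ)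
  have hx : ∀ h : H, ∃ ξ : K, ∀ r : Row L, T.e (rowMul r (h : SL2 L)) = ξ * T.e r := fun h =>
    exists_mul_coord T (hodd.of_dvd_nat (Subgroup.orderOf_dvd_natCard H h.2)) fun ρ hρ =>
      ⟨(h : SL2 L)⁻¹ * ρ * (h : SL2 L), hn h h.2 ρ hρ, by group⟩
  choose ξ hξ using hx
  set e1 := T.e.symm 1
  have hval : ∀ h : H, ξ h = T.e (rowMul e1 (h : SL2 L)) := fun h => by
    rw [hξ h e1, AddEquiv.apply_symm_apply, mul_one]
  let f : H →* K :=
    { toFun := ξ
      map_one' := by rw [hval, Subgroup.coe_one, rowMul_one, AddEquiv.apply_symm_apply]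
      map_mul' := fun x y => by
        rw [hval (x * y), Subgroup.coe_mul, rowMul_mul, hξ y, ← hval x, mul_comm] }
  refine isCyclic_of_subgroup_isDomain f ?_
  intro x y hxy
  refine Subtype.ext (ext_rows ?_ ?_)
  · show top (x : SL2 L) = top (y : SL2 L)
    rw [← one_mul (x : SL2 L), ← one_mul (y : SL2 L), top_mul, top_mul]
    exact T.e.injective (by rw [hξ x, hξ y, show ξ x = ξ y from hxy])
  · show bot (x : SL2 L) = bot (y : SL2 L)
    rw [← one_mul (x : SL2 L), ← one_mul (y : SL2 L), bot_mul, bot_mul]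
    exact T.e.injective (by rw [hξ x, hξ y, show ξ x = ξ y from hxy])

/-- A group of odd order without eigenrow is cyclic. -/
theorem isCyclic_of_free {H : Subgroup (SL2 L)} (hodd : Odd (Nat.card H))
    (hfree : ∀ ρ ∈ H, ρ ≠ 1 → ∀ r : Row L, r ≠ 0 → ∀ l : L, r ᵥ* ρ.1 ≠ l • r) : IsCyclic H := by
  classical
  haveI : IsZGroup H := by
    refine ⟨fun p hp P => ?_⟩
    haveI := Fact.mk hp
    rcases subsingleton_or_nontrivial P with h | h
    · infer_instance
    set P' : Subgroup (SL2 L) := (P : Subgroup H).map H.subtype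
    set Z : Subgroup (SL2 L) := ((Subgroup.center P).map (P : Subgroup H).subtype).map H.subtype
    have hPH : P' ≤ H := Subgroup.map_subtype_le _
    have hZP : Z ≤ P' := Subgroup.map_mono (Subgroup.map_subtype_le _)
    have hZne : Z ≠ ⊥ := by
      haveI := P.isPGroup'.center_nontrivial
      intro e
      simp only [Z, Subgroup.map_eq_bot_iff_of_injective _ (Subgroup.subtype_injective _)] at e
      exact (Subgroup.nontrivial_iff_ne_bot _).1 inferInstance e
    have hc : ∀ x ∈ P', ∀ y ∈ Z, x * y = y * x := by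
      rintro x ⟨x', hx', rfl⟩ y ⟨y', ⟨y'', hy'', rfl⟩, rfl⟩
      exact congrArg (fun z : P => ((z : H) : SL2 L)) ((Subgroup.mem_center_iff.1 hy'') ⟨x', hx'⟩)
    have hP' : IsCyclic P' := cyclic_of_free (hodd.of_dvd_nat (Subgroup.card_dvd_of_le hPH)) hZP hZne
      (fun x hx y hy => hc x (hZP hx) y hy)
      (fun h hh x hx => by
        have e := hc h hh x hx
        rwa [mul_assoc, ← e, inv_mul_cancel_left])
      (fun ρ hρ => hfree ρ (hPH hρ))
    exact ((P : Subgroup H).equivMapOfInjective _ H.subtype_injective).isCyclic.2 hP'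
  by_cases hb : commutator H = ⊥
  · rcases subsingleton_or_nontrivial H with h | h
    · infer_instance
    have hcm : ∀ x ∈ H, ∀ y ∈ H, x * y = y * x := fun x hx y hy => by
      have h1 : (⟨x, hx⟩ : H) * ⟨y, hy⟩ = ⟨y, hy⟩ * ⟨x, hx⟩ := by
        rw [← commutatorElement_eq_one_iff_mul_comm]
        exact Subgroup.mem_bot.1 (hb ▸ Subgroup.commutator_mem_commutator (Subgroup.mem_top _) (Subgroup.mem_top _))
      exact congrArg Subtype.val h1
    exact cyclic_of_free hodd le_rfl ((Subgroup.nontrivial_iff_ne_bot H).1 h) hcm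
      (fun h hh x hx => mul_mem (mul_mem (inv_mem hh) hx) hh) hfree
  · haveI : IsCyclic (commutator H) := IsZGroup.isCyclic_commutator H
    exact cyclic_of_free (A := (commutator H).map H.subtype) hodd (Subgroup.map_subtype_le _)
      (by rwa [ne_eq, Subgroup.map_eq_bot_iff_of_injective _ H.subtype_injective])
      (fun x hx y hy => by
        obtain ⟨x', hx', rfl⟩ := hx
        obtain ⟨y', hy', rfl⟩ := hy
        exact congrArg (fun z : commutator H => ((z : H) : SL2 L))
          (IsCyclic.isMulCommutative.is_comm.comm (⟨x', hx'⟩ : commutator H) ⟨y', hy'⟩))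
      (fun h hh x hx => by
        obtain ⟨x', hx', rfl⟩ := hx
        refine ⟨(⟨h, hh⟩ : H)⁻¹ * x' * ⟨h, hh⟩, ?_, rfl⟩
        have := (inferInstance : (commutator H).Normal).conj_mem x' hx' (⟨h, hh⟩ : H)⁻¹
        rwa [inv_inv] at this)
      hfree

end Free

section Aut

variable {L : Type} [Field L] [Finite L] [CharP L 2]

theorem ringAut_mul_comm (σ τ : RingAut L) : σ * τ = τ * σ :=
  RingEquiv.ext fun x => ringAut_comm σ τ x

/-- the automorphisms of the field with `2 ^ f` elements -/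
theorem card_ringAut {f : ℕ} (hf : Nat.card L = 2 ^ f) : Nat.card (RingAut L) = f := by
  letI : Algebra (ZMod 2) L := ZMod.algebra L 2
  haveI : Fact (Nat.Prime 2) := ⟨Nat.prime_two⟩
  have e : RingAut L ≃ (L ≃ₐ[ZMod 2] L) :=
    { toFun := fun s => AlgEquiv.ofRingEquiv (f := s) fun r =>
        RingHom.congr_fun (RingHom.ext_zmod (s.toRingHom.comp (algebraMap (ZMod 2) L)) (algebraMap (ZMod 2) L)) r
      invFun := fun s => s.toRingEquiv
      left_inv := fun s => rfl
      right_inv := fun s => AlgEquiv.ext fun x => rfl }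
  rw [Nat.card_congr e, IsGalois.card_aut_eq_finrank]
  refine Nat.pow_right_injective le_rfl ?_
  show 2 ^ _ = 2 ^ f
  rw [← hf, Module.natCard_eq_pow_finrank (K := ZMod 2), Nat.card_zmod]

end Aut

/-- the numerical cases without an invariant element -/
theorem eight_of_bound {f m w : ℕ} (hf : 2 ≤ f) (hm : m ∣ f) (hmodd : Odd m) (hw : w ∣ m)
    (hw2 : w ∣ (2 ^ f) ^ 2 - 1) (hb : 2 ^ f + 1 ≤ 3 * (w * m)) : f = 3 ∧ m = 3 ∧ (w = 1 ∨ w = 3) := by
  have hmf : m ≤ f := Nat.le_of_dvd (by omega) hm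
  have hwm : w ≤ m := Nat.le_of_dvd hmodd.pos hw
  by_cases h8 : 8 ≤ f
  · exfalso
    have h1 : 3 * (w * m) ≤ 3 * (f * f) := by gcongr <;> omega
    have h2 : ∀ k, 3 * ((k + 8) * (k + 8)) < 2 ^ (k + 8) := by
      intro k
      induction k with
      | zero => norm_num
      | succ k ih =>
        rw [show k + 1 + 8 = (k + 8) + 1 by omega, pow_succ]
        nlinarith
    have := h2 (f - 8)
    rw [show f - 8 + 8 = f by omega] at this
    omega
  obtain ⟨k, hk⟩ := hmodd
  interval_cases f <;> interval_cases m <;> interval_cases w <;> (norm_num at *) <;> omega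

variable {G : Type u} {Ω : Type v} [Group G] [MulAction G Ω] [Finite G] [FaithfulSMul G Ω]
  {a : Ω} {t : G} {Q : Subgroup G} {L : Type} [Field L] [Fintype L] [CharP L 2]

namespace Frame

variable (F : Frame a t Q L)
include F

theorem rho_mul (v w : Vsub G a t) : F.rho (v * w) = slMap (F.sigma v) (F.rho w) * F.rho v :=
  F.smul_p0_inj (by
    rw [F.rho_spec, map_mul, mul_smul, F.rho_spec, ← F.sigma_conj, mul_smul, mul_smul, inv_smul_smul,
      F.rho_spec, Subgroup.coe_mul, mul_smul])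

theorem semi_mul (v w : Vsub G a t) (r : Row L) : F.semi (v * w) r = F.semi v (F.semi w r) := by
  simp only [semi]
  rw [F.rho_mul, rowMul_mul]
  congr 1
  funext i
  simp only [rowMul, rowMap, Matrix.vecMul, dotProduct, Fin.sum_univ_two, map_add, map_mul, slMap_apply,
    ← F.sigma_mul]

theorem semi_ne_zero (v : Vsub G a t) {r : Row L} (hr : r ≠ 0) : F.semi v r ≠ 0 :=
  rowMul_ne_zero (fun h => hr (funext fun i => (F.sigma v).injective (by
    rw [show F.sigma v (r i) = rowMap (F.sigma v) r i from rfl, h, Pi.zero_apply, map_zero]))) _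

theorem semi_inv (v : Vsub G a t) (r : Row L) : F.semi v (F.semi v⁻¹ r) = r := by
  rw [← F.semi_mul, mul_inv_cancel, F.semi_one]

/-- the field automorphisms of `V` -/
def sigmaHom : Vsub G a t →* RingAut L :=
  MonoidHom.mk' F.sigma fun v w => RingEquiv.ext fun x => F.sigma_mul v w x

theorem sigma_eq_refl {w : Vsub G a t} (hw : w ∈ F.sigmaHom.ker) (x : L) : F.sigma w x = x :=
  RingEquiv.congr_fun (MonoidHom.mem_ker.1 hw) x

theorem slMap_ker {w : Vsub G a t} (hw : w ∈ F.sigmaHom.ker) (g : SL2 L) : slMap (F.sigma w) g = g :=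
  Subtype.ext (Matrix.ext fun i j => F.sigma_eq_refl hw _)

theorem semi_ker {w : Vsub G a t} (hw : w ∈ F.sigmaHom.ker) (r : Row L) :
    F.semi w r = rowMul r (F.rho w) :=
  congrArg (rowMul · (F.rho w)) (funext fun i => F.sigma_eq_refl hw (r i))

theorem rho_one : F.rho 1 = 1 :=
  F.smul_p0_inj (by rw [F.rho_spec, map_one, one_smul, Subgroup.coe_one, one_smul])

/-- the matrices of the kernel -/
def rhoW : F.sigmaHom.ker →* SL2 L :=
  MonoidHom.mk' (fun w => F.rho (w : Vsub G a t)⁻¹) fun x y => by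
    rw [Subgroup.coe_mul, mul_inv_rev, F.rho_mul, F.slMap_ker (inv_mem y.2)]

theorem rhoW_inj : Function.Injective F.rhoW := by
  rw [injective_iff_map_eq_one]
  intro w hw
  rw [← inv_eq_one]
  set v : Vsub G a t := (w : Vsub G a t)⁻¹
  have hv : v ∈ F.sigmaHom.ker := inv_mem w.2
  have hρ : F.rho v = 1 := hw
  have hD := mem_twoPt.1 (F.mem_Vsub.1 v.2).1
  have hp : (v : G) • F.p0 = F.p0 := by rw [← F.rho_spec, hρ, map_one, one_smul]
  have hc : ∀ g : SL2 L, (v : G) * F.ι g = F.ι g * (v : G) := fun g => by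
    have h := F.sigma_conj v g
    rw [F.slMap_ker hv, mul_inv_eq_iff_eq_mul] at h
    exact h
  have h1 : (v : G) = 1 := eq_of_smul_eq_smul fun x : Ω => by
    rw [one_smul]
    by_cases hx : InOrbit G a t x
    · obtain ⟨g, rfl⟩ := F.orbit_iff.1 hx
      rw [smul_smul, hc, mul_smul, hD.1]
    · obtain ⟨g, rfl⟩ := F.smul_p0_surj hx
      rw [smul_smul, hc, mul_smul, hp]
  exact Subtype.ext (by
    show (w : Vsub G a t)⁻¹ = 1
    exact Subtype.ext h1)

theorem odd_card_V : Odd (Nat.card (Vsub G a t)) :=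
  F.setup.odd_card.of_dvd_nat (Subgroup.card_dvd_of_le inf_le_left)

theorem rhoW_free {w : F.sigmaHom.ker} (hw : w ≠ 1) {r : Row L} (hr : r ≠ 0) (l : L) :
    r ᵥ* (F.rhoW w).1 ≠ l • r := by
  intro h
  have hl0 : l ≠ 0 := fun e => rowMul_ne_zero hr (F.rhoW w) (h.trans (by rw [e, zero_smul]))
  have hd : F.del (l • r) = F.del r := by
    rw [← h]
    show F.del (rowMul r (F.rho (w : Vsub G a t)⁻¹)) = _
    rw [← F.semi_ker (inv_mem w.2), F.del_semi, F.sigma_eq_refl (inv_mem w.2)]
  rw [F.del_smul hl0, div_eq_iff (pow_ne_zero _ hl0)] at hd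
  have hl1 : l = 1 := CharTwo.sq_injective (R := L) (by
    show l ^ 2 = 1 ^ 2
    rw [one_pow]
    exact mul_left_cancel₀ (F.del_ne_zero hr) (hd.symm.trans (mul_one _).symm))
  rw [hl1, one_smul] at h
  obtain ⟨g, rfl⟩ := F.exists_bot hr
  have hb : bot (g * F.rhoW w) = bot g := by rw [bot_mul]; exact h
  obtain ⟨c, hc⟩ := exists_smul_of_det2_eq_zero (bot_ne_zero g)
    (P := top (g * F.rhoW w) + top g) (by
      conv_lhs => rw [det2_add_left, ← hb]
      rw [det_rows, hb, det_rows, CharTwo.add_self_eq_zero])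
  have e : g * F.rhoW w = zc c * g := ext_rows (by
    rw [top_zc_mul, ← hc, ← add_assoc, add_comm (top g), add_assoc]
    funext i; simp [CharTwo.add_self_eq_zero]) (by rw [bot_zc_mul, hb])
  have e2 : F.rhoW w * F.rhoW w = 1 := by
    rw [show F.rhoW w = g⁻¹ * (zc c * g) by rw [← e, inv_mul_cancel_left],
      show g⁻¹ * (zc c * g) * (g⁻¹ * (zc c * g)) = g⁻¹ * (zc c * zc c) * g by group, zc_self]
    group
  rw [← map_mul] at e2
  have hw2 : w * w = 1 := F.rhoW_inj (e2.trans (map_one _).symm)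
  exact hw (Subtype.ext (Subtype.ext (eq_one_of_mem_of_sq F.odd_card_V (X := Vsub G a t) (w : Vsub G a t).2
    (congrArg (fun z : F.sigmaHom.ker => ((z : Vsub G a t) : G)) hw2))))

/-- the class function -/
def Phi (x : Row L) : RingAut L := F.sigmaHom (F.phi x)

theorem Phi_smul {c : L} (hc : c ≠ 0) (x : Row L) : F.Phi (c • x) = F.Phi x := by
  rw [Phi, F.phi_smul hc, Phi]

theorem Phi_pair (v : Vsub G a t) {x y : Row L} (hx : x ≠ 0) (hy : y ≠ 0) :
    F.Phi (F.semi v x) * F.Phi y = F.Phi x * F.Phi (F.semi v y) := by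
  by_cases h : det2 x y = 0
  · obtain ⟨c, rfl⟩ := exists_smul_of_det2_eq_zero hy h
    have hc : c ≠ 0 := fun e => hx (by rw [e, zero_smul])
    rw [F.semi_smul, F.Phi_smul hc, F.Phi_smul ((map_ne_zero _).2 hc)]
    exact ringAut_mul_comm _ _
  · have h' : det2 (F.semi v x) (F.semi v y) ≠ 0 := by
      rw [F.det2_semi]; exact (map_ne_zero _).2 h
    have e := congrArg F.sigmaHom (F.Gp_semi v h)
    rw [F.Gp_eq_phi h', F.Gp_eq_phi h, map_mul, map_mul, map_mul, map_mul, map_inv, map_inv, map_inv] at e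
    change (F.Phi (F.semi v y))⁻¹ * F.Phi (F.semi v x) =
      F.sigmaHom v * ((F.Phi y)⁻¹ * F.Phi x) * (F.sigmaHom v)⁻¹ at e
    rw [ringAut_mul_comm (F.sigmaHom v), mul_inv_cancel_right, inv_mul_eq_iff_eq_mul] at e
    rw [e, ← mul_assoc, mul_assoc (F.Phi (F.semi v y) * (F.Phi y)⁻¹), ringAut_mul_comm (F.Phi x),
      ← mul_assoc, inv_mul_cancel_right, ringAut_mul_comm]

theorem Phi_bRow : F.Phi (bRow L) = 1 := by
  rw [Phi, phi, if_pos (det2_self _), map_one]

theorem bRow_ne : bRow L ≠ 0 := fun e => by simpa [bRow] using congrFun e 1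

theorem Phi_semi_base (v : Vsub G a t) {x : Row L} (hx : x ≠ 0) :
    F.Phi (F.semi v x) = F.Phi x * F.Phi (F.semi v (bRow L)) := by
  have := F.Phi_pair v hx F.bRow_ne
  rwa [F.Phi_bRow, mul_one] at this

/-- the translation of `Phi` by an element of `V` -/
def chi : Vsub G a t →* RingAut L :=
  MonoidHom.mk' (fun v => F.Phi (F.semi v (bRow L))) fun v w => by
    rw [F.semi_mul, F.Phi_semi_base v (F.semi_ne_zero w F.bRow_ne), ringAut_mul_comm]

theorem Phi_semi (v : Vsub G a t) {x : Row L} (hx : x ≠ 0) : F.Phi (F.semi v x) = F.Phi x * F.chi v :=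
  F.Phi_semi_base v hx

theorem Phi_refl {P α : Row L} (h : det2 P α = 1) :
    F.Phi P * F.Phi (P + F.del α • α) = F.Phi α * F.Phi α := by
  have h' : det2 (P + F.del α • α) α = 1 := by
    rw [det2_add_left, det2_smul_left, det2_self, mul_zero, add_zero, h]
  have e := congrArg F.sigmaHom (F.Gp_refl h)
  rw [F.Gp_eq_phi (by rw [h']; exact one_ne_zero), F.Gp_eq_phi (by rw [h]; exact one_ne_zero), map_inv,
    map_mul, map_mul, map_inv, mul_inv_rev, inv_inv] at e
  change (F.Phi α)⁻¹ * F.Phi (P + F.del α • α) = (F.Phi P)⁻¹ * F.Phi α at e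
  rw [inv_mul_eq_iff_eq_mul] at e
  rw [e, ← mul_assoc, ← mul_assoc, ringAut_mul_comm (F.Phi P), mul_inv_cancel_right]

open scoped Classical in
/-- a fibre of `phi` has at most three classes -/
theorem card_fibre_le (v : Vsub G a t) :
    (Finset.univ.filter fun r : Row L => r ≠ 0 ∧ F.phi r = v).card ≤ 3 * (Fintype.card L - 1) := by
  by_contra hlt
  rw [not_le] at hlt
  set S := Finset.univ.filter fun r : Row L => r ≠ 0 ∧ F.phi r = v with hS
  have key : ∀ (n : ℕ) (f : Fin n → Row L), n ≤ 3 → (∀ i, f i ∈ S) →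
      ∃ r ∈ S, ∀ i, det2 r (f i) ≠ 0 := by
    intro n f hn hf
    by_contra hcon
    push_neg at hcon
    have hne : ∀ x ∈ S, x ≠ 0 := fun x hx => (Finset.mem_filter.1 hx).2.1
    have hsub : S ⊆ (Finset.univ : Finset (Fin n × Lˣ)).image fun p => (p.2 : L) • f p.1 := by
      intro r hr
      obtain ⟨i, hi⟩ := hcon r hr
      obtain ⟨c, hc⟩ := exists_smul_of_det2_eq_zero (hne _ (hf i)) hi
      have hc0 : c ≠ 0 := fun e => hne _ hr (by rw [hc, e, zero_smul])
      exact Finset.mem_image.2 ⟨(i, Units.mk0 c hc0), Finset.mem_univ _, hc.symm⟩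
    have := (Finset.card_le_card hsub).trans Finset.card_image_le
    rw [Finset.card_univ, Fintype.card_prod, Fintype.card_fin, Fintype.card_units] at this
    have : n * (Fintype.card L - 1) ≤ 3 * (Fintype.card L - 1) := Nat.mul_le_mul_right _ hn
    omega
  obtain ⟨r0, h0, -⟩ := key 0 ![] (by omega) (fun i => i.elim0)
  obtain ⟨r1, h1, hi1⟩ := key 1 ![r0] (by omega) (fun i => by fin_cases i; exact h0)
  obtain ⟨r2, h2, hi2⟩ := key 2 ![r0, r1] (by omega) (fun i => by fin_cases i <;> assumption)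
  obtain ⟨r3, h3, hi3⟩ := key 3 ![r0, r1, r2] le_rfl (fun i => by fin_cases i <;> assumption)
  have a10 : det2 r1 r0 ≠ 0 := hi1 0
  have a20 : det2 r2 r0 ≠ 0 := hi2 0
  have a21 : det2 r2 r1 ≠ 0 := hi2 1
  have a30 : det2 r3 r0 ≠ 0 := hi3 0
  have a31 : det2 r3 r1 ≠ 0 := hi3 1
  have a32 : det2 r3 r2 ≠ 0 := hi3 2
  refine F.no_four_fibre ![r0, r1, r2, r3] ?_ ?_
  · intro i j hij
    fin_cases i <;> fin_cases j <;> first
      | exact absurd rfl hij
      | assumption
      | (rw [det2_comm]; assumption)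
  · intro i j
    have hv : ∀ k, F.phi (![r0, r1, r2, r3] k) = v := fun k => by
      fin_cases k
      exacts [(Finset.mem_filter.1 h0).2.2, (Finset.mem_filter.1 h1).2.2, (Finset.mem_filter.1 h2).2.2,
        (Finset.mem_filter.1 h3).2.2]
    rw [hv, hv]

omit [Finite G] [FaithfulSMul G Ω] F in
open scoped Classical in
theorem card_rows : (Finset.univ.filter fun r : Row L => r ≠ 0).card = Fintype.card L ^ 2 - 1 := by
  rw [Finset.filter_ne', Finset.card_erase_of_mem (Finset.mem_univ _), Finset.card_univ, Fintype.card_fun,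
    Fintype.card_fin]

theorem card_V_bound : Fintype.card L + 1 ≤ 3 * Nat.card (Vsub G a t) := by
  classical
  haveI := Fintype.ofFinite (Vsub G a t)
  have h := Finset.card_eq_sum_card_fiberwise (s := Finset.univ.filter fun r : Row L => r ≠ 0)
    (t := (Finset.univ : Finset (Vsub G a t))) (f := F.phi) (fun _ _ => Finset.mem_univ _)
  rw [card_rows] at h
  have h' : Fintype.card L ^ 2 - 1 ≤ Fintype.card (Vsub G a t) * (3 * (Fintype.card L - 1)) := by
    rw [h]
    refine (Finset.sum_le_card_nsmul _ _ _ fun v _ => ?_).trans (by rw [Finset.card_univ, smul_eq_mul])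
    rw [Finset.filter_filter]
    exact F.card_fibre_le v
  rw [Nat.card_eq_fintype_card]
  have hq := F.one_lt_q
  refine Nat.le_of_mul_le_mul_right ?_ (show 0 < Fintype.card L - 1 by omega)
  have e : (Fintype.card L + 1) * (Fintype.card L - 1) = Fintype.card L ^ 2 - 1 := by
    obtain ⟨k, hk⟩ : ∃ k, Fintype.card L = k + 1 := ⟨Fintype.card L - 1, by omega⟩
    rw [hk, Nat.add_sub_cancel]; ring_nf; omega
  rw [e]
  exact h'.trans (le_of_eq (by ring))

/-- the conditions on the group of matrices -/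
def GoodTwist (R : Subgroup (SL2 L)) : Prop :=
  R ≠ ⊥ ∧ (∀ x ∈ R, ∀ y ∈ R, x * y = y * x) ∧
    (∀ ρ ∈ R, ρ ≠ 1 → ∀ r : Row L, r ≠ 0 → ∀ l : L, r ᵥ* ρ.1 ≠ l • r) ∧
    (∀ ρ ∈ R, ∀ r : Row L, r ≠ 0 → F.Phi (rowMul r ρ) = F.Phi r) ∧
    (∀ ρ ∈ R, ∀ r : Row L, F.del (rowMul r ρ) = F.del r) ∧
    ∀ (v : Vsub G a t), ∀ ρ ∈ R, ∃ ρ' ∈ R, ∀ r : Row L, F.semi v (rowMul r ρ) = rowMul (F.semi v r) ρ'

theorem good_of_ker (h : F.sigmaHom.ker ⊓ F.chi.ker ≠ ⊥) : ∃ R, F.GoodTwist R := by
  set W := F.sigmaHom.ker with hW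
  set W' : Subgroup W := (F.chi.ker).subgroupOf W
  set R := W'.map F.rhoW
  have hodd : Odd (Nat.card R) := F.odd_card_V.of_dvd_nat ((Subgroup.card_map_of_injective F.rhoW_inj).symm ▸
    ((Subgroup.card_subgroup_dvd_card W').trans (Subgroup.card_subgroup_dvd_card W)))
  have hfree : ∀ ρ ∈ R, ρ ≠ 1 → ∀ r : Row L, r ≠ 0 → ∀ l : L, r ᵥ* ρ.1 ≠ l • r := by
    rintro _ ⟨w, -, rfl⟩ hne r hr l
    exact F.rhoW_free (fun e => hne (by rw [e, map_one])) hr l
  have hmem : ∀ ρ ∈ R, ∃ v : Vsub G a t, v ∈ W ∧ v ∈ F.chi.ker ∧ F.rho v = ρ := by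
    rintro _ ⟨w, hw, rfl⟩
    exact ⟨(w : Vsub G a t)⁻¹, inv_mem w.2, inv_mem (Subgroup.mem_subgroupOf.1 hw), rfl⟩
  have hcyc := isCyclic_of_free hodd hfree
  refine ⟨R, ?_, fun x hx y hy =>
    congrArg Subtype.val (IsCyclic.isMulCommutative.is_comm.comm (⟨x, hx⟩ : R) ⟨y, hy⟩),
    hfree, ?_, ?_, ?_⟩
  · rw [ne_eq, Subgroup.map_eq_bot_iff_of_injective _ F.rhoW_inj, Subgroup.subgroupOf_eq_bot,
      disjoint_iff, inf_comm]
    exact h
  · intro ρ hρ r hr
    obtain ⟨v, hv, hv', rfl⟩ := hmem ρ hρ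
    rw [← F.semi_ker hv, F.Phi_semi v hr, MonoidHom.mem_ker.1 hv', mul_one]
  · intro ρ hρ r
    obtain ⟨v, hv, hv', rfl⟩ := hmem ρ hρ
    rw [← F.semi_ker hv, F.del_semi, F.sigma_eq_refl hv]
  · intro v ρ hρ
    obtain ⟨w, hw, hw', rfl⟩ := hmem ρ hρ
    have hc : v * w * v⁻¹ ∈ W := (F.sigmaHom.normal_ker).conj_mem w hw v
    have hc' : v * w * v⁻¹ ∈ F.chi.ker := (F.chi.normal_ker).conj_mem w hw' v
    refine ⟨F.rho (v * w * v⁻¹), ⟨⟨(v * w * v⁻¹)⁻¹, inv_mem hc⟩, inv_mem hc', by
      show F.rho (v * w * v⁻¹)⁻¹⁻¹ = _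
      rw [inv_inv]⟩, fun r => ?_⟩
    rw [← F.semi_ker hw, ← F.semi_ker hc, ← F.semi_mul, ← F.semi_mul, inv_mul_cancel_right]

theorem good_of_bot (h : F.sigmaHom.ker ⊓ F.chi.ker = ⊥) : ∃ R, F.GoodTwist R := by
  classical
  set W := F.sigmaHom.ker with hW
  obtain ⟨f, hf2, hfZ, -⟩ := exists_exponent F.setup F.four
  rw [F.card_Z] at hfZ
  set m := Nat.card F.sigmaHom.range
  set w := Nat.card W
  have hV : Nat.card (Vsub G a t) = w * m := by
    rw [← Subgroup.card_mul_index W, hW, Subgroup.index_ker]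
  have hcA : Nat.card (RingAut L) = f := card_ringAut (by rw [Nat.card_eq_fintype_card, hfZ])
  have hm : m ∣ f := hcA ▸ Subgroup.card_subgroup_dvd_card _
  have hmodd : Odd m := F.odd_card_V.of_dvd_nat ⟨w, by rw [hV, mul_comm]⟩
  have hinj : ∀ x ∈ W, F.chi x = 1 → x = 1 := fun x hx hx' => by
    have : x ∈ W ⊓ F.chi.ker := ⟨hx, hx'⟩
    rwa [h, Subgroup.mem_bot] at this
  have hrange : ∀ v, F.chi v ∈ F.sigmaHom.range := fun v => ⟨_, rfl⟩
  have hwinj : Function.Injective (F.chi.comp W.subtype) := by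
    rw [injective_iff_map_eq_one]
    exact fun x hx => Subtype.ext (hinj x x.2 hx)
  have hwm : w ∣ m := by
    show Nat.card W ∣ _
    rw [Nat.card_congr (MonoidHom.ofInjective hwinj).toEquiv]
    refine Subgroup.card_dvd_of_le ?_
    rintro _ ⟨x, rfl⟩
    exact hrange _
  have hw2 : w ∣ (2 ^ f) ^ 2 - 1 := by
    have h1 : w ∣ Nat.card (SL2 L) := by
      show Nat.card W ∣ _
      rw [Nat.card_congr (MonoidHom.ofInjective F.rhoW_inj).toEquiv]
      exact Subgroup.card_subgroup_dvd_card _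
    rw [CfsgLib.SpecLin.SLTwo.card_sl_two, hfZ] at h1
    refine Nat.Coprime.dvd_of_dvd_mul_left (Nat.Coprime.pow_right _ ?_) h1
    rw [Nat.coprime_two_right]
    exact F.odd_card_V.of_dvd_nat ⟨m, hV⟩
  have hb := F.card_V_bound
  rw [hV, hfZ] at hb
  obtain ⟨hf, hm3, hw13⟩ := eight_of_bound hf2 hm hmodd hwm hw2 hb
  subst hf
  have hq : Fintype.card L = 8 := by rw [hfZ]; rfl
  haveI := Fact.mk Nat.prime_three
  let e : Multiplicative (ZMod 3) ≃* RingAut L :=
    mulEquivOfPrimeCardEq (p := 3) (by simp) hcA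
  let Ψ : Row L → ZMod 3 := fun r => Multiplicative.toAdd (e.symm (F.Phi r))
  have hΨ : ∀ r s, Ψ r = Ψ s ↔ F.Phi r = F.Phi s := fun r s => by simp [Ψ]
  let S : ZMod 3 → Finset (Row L) := fun v => Finset.univ.filter fun r => r ≠ 0 ∧ Ψ r = v
  have hsum : ∑ v, (S v).card = 63 := by
    have h' := Finset.card_eq_sum_card_fiberwise (s := Finset.univ.filter fun r : Row L => r ≠ 0)
      (t := (Finset.univ : Finset (ZMod 3))) (f := Ψ) (fun _ _ => Finset.mem_univ _)
    rw [card_rows, hq] at h'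
    simp only [Finset.filter_filter] at h'
    exact h'.symm
  have hS21 : ∀ v, (S v).card = 21 := by
    rcases hw13 with hw1 | hw3
    · have hbot : W = ⊥ := Subgroup.card_eq_one.1 hw1
      have hσinj : Function.Injective F.sigmaHom := (MonoidHom.ker_eq_bot_iff _).1 hbot
      have hle : ∀ v, (S v).card ≤ 21 := by
        intro v
        by_cases hv : ∃ r, r ∈ S v
        · obtain ⟨r0, hr0⟩ := hv
          refine (Finset.card_le_card (t := Finset.univ.filter fun r => r ≠ 0 ∧ F.phi r = F.phi r0) ?_).trans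
            ((F.card_fibre_le _).trans (by rw [hq]))
          intro r hr
          simp only [S, Finset.mem_filter, Finset.mem_univ, true_and] at hr hr0 ⊢
          exact ⟨hr.1, hσinj ((hΨ _ _).1 (hr.2.trans hr0.2.symm))⟩
        · push_neg at hv
          rw [Finset.eq_empty_of_forall_notMem hv]
          simp
      have := (Finset.sum_eq_sum_iff_of_le fun v _ => hle v).1 (by
        rw [hsum, Finset.sum_const, Finset.card_univ, ZMod.card, smul_eq_mul])
      exact fun v => this v (Finset.mem_univ v)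
    · -- translations by `W`
      have hsurj : Function.Surjective (F.chi.comp W.subtype) :=
        haveI : Finite (RingAut L) := Nat.finite_of_card_ne_zero (by rw [hcA]; norm_num)
        ((Nat.bijective_iff_injective_and_card _).2 ⟨hwinj, hw3.trans hcA.symm⟩).2
      have heq : ∀ v v', (S v).card ≤ (S v').card := by
        intro v v'
        obtain ⟨⟨x, hx⟩, hxv⟩ := hsurj (e (Multiplicative.ofAdd (v' - v)))
        refine Finset.card_le_card_of_injOn (F.semi x) (fun r hr => ?_) fun r _ s _ hrs => ?_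
        · simp only [S, Finset.mem_coe, Finset.mem_filter, Finset.mem_univ, true_and] at hr ⊢
          refine ⟨F.semi_ne_zero x hr.1, ?_⟩
          show Multiplicative.toAdd (e.symm (F.Phi (F.semi x r))) = v'
          rw [F.Phi_semi x hr.1, show F.chi x = e (Multiplicative.ofAdd (v' - v)) from hxv, map_mul,
            MulEquiv.symm_apply_apply, toAdd_mul, toAdd_ofAdd, show Multiplicative.toAdd (e.symm (F.Phi r)) = v from hr.2]
          ring
        · have := congrArg (F.semi x⁻¹) hrs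
          rwa [← F.semi_mul, ← F.semi_mul, inv_mul_cancel, F.semi_one, F.semi_one] at this
      intro v
      have h3 : ∀ v', (S v').card = (S v).card := fun v' => le_antisymm (heq _ _) (heq _ _)
      rw [Finset.sum_congr rfl fun v' _ => h3 v', Finset.sum_const, Finset.card_univ, ZMod.card,
        smul_eq_mul] at hsum
      omega
  have hE : EightData Ψ F.del :=
    { card := by rw [Nat.card_eq_fintype_card, hq]
      delta_smul := fun c r hc _ => F.del_smul hc r
      delta_ne := fun r hr => F.del_ne_zero hr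
      phi_smul := fun c r hc _ => (hΨ _ _).2 (F.Phi_smul hc r)
      fibre := fun v => by
        rw [← hS21 v, ← Set.ncard_coe_finset]
        congr 1
        ext r
        simp [S]
      hrefl := fun P α hd => by
        have := congrArg (fun z => Multiplicative.toAdd (e.symm z)) (F.Phi_refl (P := P) (α := α) hd)
        simp only [map_mul, toAdd_mul] at this
        rw [two_mul]
        exact this }
  obtain ⟨ρ, hρ1, -, hfree, hδ, hcol⟩ := hE.exists_rho
  refine ⟨Subgroup.zpowers ρ, by rwa [ne_eq, Subgroup.zpowers_eq_bot],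
    fun x hx y hy => congrArg Subtype.val
      (IsCyclic.isMulCommutative.is_comm.comm (⟨x, hx⟩ : Subgroup.zpowers ρ) ⟨y, hy⟩),
    hfree, fun g hg r hr => (hΨ _ _).1 ((hcol g).2 hg r hr), ?_, ?_⟩
  · let D : Subgroup (SL2 L) :=
      { carrier := {g | ∀ r : Row L, F.del (rowMul r g) = F.del r}
        one_mem' := fun r => by rw [rowMul_one]
        mul_mem' := fun {g g'} hg hg' r => by rw [rowMul_mul, hg', hg]
        inv_mem' := fun {g} hg r => by
          conv_rhs => rw [← rowMul_one r, ← inv_mul_cancel g, rowMul_mul, hg] }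
    intro g hg
    exact (Subgroup.zpowers_le.2 (show ρ ∈ D from hδ)) hg
  · intro v g hg
    have key : ∀ s : Row L, F.semi v (rowMul s g) =
        rowMul (F.semi v s) ((F.rho v)⁻¹ * slMap (F.sigma v) g * F.rho v) := fun s => by
      rw [semi, semi, ← rowMul_mul, ← mul_assoc, ← mul_assoc, mul_inv_cancel, one_mul, rowMul_mul]
      congr 1
      funext i
      simp only [rowMul, rowMap, Matrix.vecMul, dotProduct, Fin.sum_univ_two, map_add, map_mul, slMap_apply]
    refine ⟨(F.rho v)⁻¹ * slMap (F.sigma v) g * F.rho v, (hcol _).1 fun r hr => ?_, fun r => key r⟩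
    show Ψ (rowMul r _) = Ψ r
    have hs : F.semi v⁻¹ r ≠ 0 := F.semi_ne_zero _ hr
    have hg' : F.Phi (rowMul (F.semi v⁻¹ r) g) = F.Phi (F.semi v⁻¹ r) := (hΨ _ _).1 ((hcol g).2 hg _ hs)
    rw [hΨ, ← F.semi_inv v r, ← key, F.Phi_semi v (rowMul_ne_zero hs g), F.Phi_semi v hs, hg']

/-- there is a group of matrices as required -/
theorem exists_twist : ∃ R, F.GoodTwist R := by
  by_cases h : F.sigmaHom.ker ⊓ F.chi.ker = ⊥
  · exact F.good_of_bot h
  · exact F.good_of_ker h

end Frame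

end CfsgLib.RankOneRecog.Unitary
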